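import Cfsg.Agent.H122.SX.EFrame_m3
import Cfsg.Agent.H962.TC.Num_m3
import Cfsg.Agent.H90.TC.D43Row_m3
import Cfsg.Agent.H46.TL.Ord_m3
import Cfsg.Agent.H538.TC.SLThreeC_m3
import Cfsg.Agent.H983.TC.Nine_m3
import Cfsg.Agent.Lib.SieveFast
import Cfsg.Agent.S1062
import Cfsg.Agent.H744.FC.Par
import Cfsg.Agent.H126.PwO.Mats_m3
import Cfsg.Agent.H335.FT.PsRow
import Cfsg.Agent.H374.QS.FF.Row
import Cfsg.Agent.H137.G24.Fin_mg
import Cfsg.Agent.SmallSimple.SelfCentPrime
import Cfsg.Agent.H56.Exc.BigRows
import Cfsg.Agent.H946.RadD4_m3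
import Cfsg.Agent.FastGrp
import Cfsg.Agent.Prune
set_option linter.all false

section
prune_inst 0x7fb0bcf88ba80fffdffb7e3ffed9dff830c00fffe6dff903ffe8e39f0b9f030029e5fbad0de050ff0e56e23410b87803f97ecabfe06bdc7ffffd57b41ffbee0fe5f7350851948c340eac0fff03f07f0a6f3ffcff7fffffffffffffffffffffbeffbfefffffff

-- part: H572/FR/Gen_mg
section
prune_inst 0x4001000404800000040000010000000000000000000000000000000000008000000000800000001020000000000000000004400000000000000000000000400000000000000000100000000000000000000000000000000000000000000000000000000000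
set_option linter.all false
open scoped Cfsg.Agent.FastGrp

-- part: H572/FR/Conc
section
/-!
helper572 (S2452, `F4(q)`, `q` odd, `q ≥ 5`): the ratio bound in `chevF4.group K`, from the embedding `e` and its
values on the seven root subgroups.
-/

set_option autoImplicit false
set_option linter.unusedSectionVars false

namespace Cfsg.Agent.H572.FR

open Module Cfsg.Lie
open Cfsg.Agent.LieClassical Cfsg.Agent.LieClassical.OrthForms Cfsg.Agent.LieClassical.OrthCore
open Cfsg.Agent.Tits.Roots Cfsg.Agent.Nodes.BNOf Cfsg.Agent.Nodes.RGDChev Cfsg.Agent.KFacts.RgdChevCoord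
open Cfsg.Agent.H224.FR
open Cfsg.Agent.H701.F43.Cent (hF)

universe u

/-- the root indices -/
def rr : Unit ⊕ (Fin 3 ⊕ Fin 3) → ℕ := Sum.elim (fun _ => 20) (Sum.elim ![2, 16, 17] ![43, 26, 25])

theorem rr_lt : ∀ k, rr k < 48 := by decide

theorem rr_mem : ∀ k, rr k ∈ L0 := by decide

section

variable {K : Type u} [Field K] [Finite K] {e : Multiplicative (W7 K) →* ↥(chevF4.group K)}

/-- the vectors mapped into a subgroup -/
def pre (e : Multiplicative (W7 K) →* ↥(chevF4.group K)) (H : Subgroup ↥(chevF4.group K)) : AddSubgroup (W7 K) where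
  carrier := {w | e (Multiplicative.ofAdd w) ∈ H}
  zero_mem' := by
    show e (Multiplicative.ofAdd 0) ∈ H
    rw [ofAdd_zero, map_one]
    exact one_mem _
  add_mem' := fun {a b} ha hb => by
    show e (Multiplicative.ofAdd (a + b)) ∈ H
    rw [ofAdd_add, map_mul]
    exact mul_mem ha hb
  neg_mem' := fun {a} ha => by
    show e (Multiplicative.ofAdd (-a)) ∈ H
    rw [ofAdd_neg, map_inv]
    exact inv_mem ha

theorem mem_of_single {H : Subgroup ↥(chevF4.group K)} {w : W7 K} (h : ∀ k, e (Multiplicative.ofAdd (Pi.single k (w k))) ∈ H) :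
    e (Multiplicative.ofAdd w) ∈ H := by
  classical
  have h1 : w ∈ pre e H := by
    rw [← Finset.univ_sum_single w]
    exact sum_mem fun k _ => h k
  exact h1

variable {ss : Unit ⊕ (Fin 3 ⊕ Fin 3) → K} (hss : ∀ k, ss k * ss k = 1)
  (hx : ∀ k t, e (Multiplicative.ofAdd (Pi.single k (ss k * t))) = xc hF (vec chevF4 4 (rr k)) t)

include hss hx

theorem single_mem (k : Unit ⊕ (Fin 3 ⊕ Fin 3)) (s : K) : e (Multiplicative.ofAdd (Pi.single k s)) ∈ X K (rr k) := by
  rw [mem_X (rr_lt k)]
  refine ⟨ss k * s, ?_⟩
  rw [← hx, ← mul_assoc, hss, one_mul]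

theorem range_eq : e.range = EE K L0 := by
  apply le_antisymm
  · rintro _ ⟨w, rfl⟩
    have h : e (Multiplicative.ofAdd w.toAdd) ∈ EE K L0 :=
      mem_of_single fun k => X_le_EE (rr_mem k) (single_mem hss hx k _)
    exact h
  · refine EE_le fun r hr => ?_
    have h1 : ∃ k, rr k = r := by
      revert r
      decide
    obtain ⟨k, rfl⟩ := h1
    intro y hy
    obtain ⟨a, rfl⟩ := (mem_X (rr_lt k) y).1 hy
    exact ⟨_, hx k a⟩

end

end Cfsg.Agent.H572.FR
end

-- part: H572/FR/Emb
section
/-!
helper572 (S2452, `F4(q)`, `q` odd, `q ≥ 5`): the embedding of helper31 and the ratio bound, from the seven Siegel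
identities (box R2b).
-/

set_option autoImplicit false
set_option linter.unusedSectionVars false

namespace Cfsg.Agent.H572.FR

open Cfsg Cfsg.Lie Module Matrix
open Cfsg.Agent.ChevalleyStructure Cfsg.Agent.ChevalleyStructure.Elts
open Cfsg.Agent.ChevalleyStructure.E6Min.Tables Cfsg.Agent.ChevalleyStructure.E6Min.Basic
open Cfsg.Agent.H952.F4 Cfsg.Agent.H952.F4.Jord
open Cfsg.Agent.LieClassical Cfsg.Agent.LieClassical.OrthForms Cfsg.Agent.LieClassical.OrthCore
open Cfsg.Agent.H557.InvF4 Cfsg.Agent.OddHalf.NI.ModelChev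
open Cfsg.Agent.Tits.Roots Cfsg.Agent.Nodes.BNOf Cfsg.Agent.Nodes.RGDChev Cfsg.Agent.KFacts.RgdChevCoord
open Cfsg.Agent.H885.Pw.JB

universe u

/-- the signs -/
def ss (K : Type u) [Field K] : Unit ⊕ (Fin 3 ⊕ Fin 3) → K := Sum.elim (fun _ => 1) (Sum.elim ![1, -1, 1] ![1, 1, -1])

theorem ss_sq (K : Type u) [Field K] (k : Unit ⊕ (Fin 3 ⊕ Fin 3)) : ss K k * ss K k = 1 := by
  rcases k with k | k | k
  · simp [ss]
  · fin_cases k <;> simp [ss]
  · fin_cases k <;> simp [ss]

/-- the Siegel identities -/
def Sieg {K : Type u} [Field K] {ρ : ↥(chevF4.group K) →* GL I27 K} (hρ : IsJ ρ) (h2 : (2 : K) ≠ 0) : Prop :=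
  ∀ (k : Unit ⊕ (Fin 3 ⊕ Fin 3)) (t : K),
    ∃ hm : xc Cfsg.Agent.Nodes.KindF.isType (vec chevF4 4 (rr k)) t ∈
        Subgroup.centralizer ({t1 K} : Set ↥(chevF4.group K)),
      Ph hρ h2 (isT_t1 hρ) ⟨_, hm⟩ = Cfsg.Agent.H31.FR.sgl (Pi.single k (ss K k * t))

end Cfsg.Agent.H572.FR
end

-- part: H296/FR/RTwo
section
/-!
# Siegel elements of the 9-dimensional module are root elements of `F₄(K)` (helper296; S2452, box R2b)

* `Ph_rr` : for the seven indices `k` of the 7-dimensional space, the root element `x_{rr k}(t)` centralizes the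
  involution `t₁` and acts on the 9-dimensional space as the Siegel element `sgl (Pi.single k (ss k * t))`.
-/

set_option autoImplicit false
set_option linter.unusedSectionVars false
set_option linter.unusedSimpArgs false

namespace Cfsg.Agent.H296.FR

open Cfsg Cfsg.Lie Module Matrix
open Cfsg.Agent.ChevalleyStructure Cfsg.Agent.ChevalleyStructure.Elts
open Cfsg.Agent.ChevalleyStructure.E6Min.Tables Cfsg.Agent.ChevalleyStructure.E6Min.Basic
open Cfsg.Agent.H952.F4 Cfsg.Agent.H952.F4.Jord
open Cfsg.Agent.LieClassical Cfsg.Agent.LieClassical.OrthForms Cfsg.Agent.LieClassical.OrthCore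
open Cfsg.Agent.H557.InvF4 Cfsg.Agent.OddHalf.NI.ModelChev
open Cfsg.Agent.Tits.Roots Cfsg.Agent.Nodes.BNOf Cfsg.Agent.Nodes.RGDChev Cfsg.Agent.KFacts.RgdChevCoord
open Cfsg.Agent.H885.Pw.JB Cfsg.Agent.H31.FR

universe u

variable {K : Type u} [Field K]

/-- the root indices -/
def rr : Unit ⊕ (Fin 3 ⊕ Fin 3) → ℕ := Sum.elim (fun _ => 20) (Sum.elim ![2, 16, 17] ![43, 26, 25])

/-- the signs -/
def ss (K : Type u) [Field K] : Unit ⊕ (Fin 3 ⊕ Fin 3) → K :=
  Sum.elim (fun _ => 1) (Sum.elim ![1, -1, 1] ![1, 1, -1])

/-- a root element -/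
noncomputable abbrev xr (r : ℕ) (t : K) : ↥(chevF4.group K) := xc Cfsg.Agent.Nodes.KindF.isType (vec chevF4 4 r) t

theorem xr_xMat {r : ℕ} (hr : r < 48) (t : K) :
    ((xr r t : GL chevF4.Idx K) : Matrix chevF4.Idx chevF4.Idx K) = chevF4.xMat K ⟨r, hr⟩ t := by
  rw [xr, coe_xc Cfsg.Agent.Nodes.KindF.isType hr, coe_xG, x_of_lt hr]

variable {ρ : ↥(chevF4.group K) →* GL I27 K}

theorem xr_apply (hρ : IsJ ρ) {r : ℕ} (hr : r < 48) (t : K) (x : I27 → K) :
    JK ρ (xr r t) x = yM r t *ᵥ x := by
  rw [Inv.JK_apply, hρ ⟨r, hr⟩ t (xr r t) (xr_xMat hr t)]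

/-- one term -/
theorem xr_one (hρ : IsJ ρ) {r k : ℕ} {s : ℤ} (hr : r < 48) (hd : dat.getD r [] = [(k, s)]) (t : K) (x : I27 → K)
    (i : I27) : JK ρ (xr r t) x i =
      x i + ((s : K) * t) * (((Cfsg.Agent.ChevalleyStructure.E6Min.Basic.sg k i : ℤ) : K) * x (sr k i)) := by
  rw [xr_apply hρ hr]
  have h1 : yM r t = zM k ((s : K) * t) := by
    unfold yM
    rw [hd]
    simp
  rw [h1, zM_mulVec]

/-- the commutation -/
theorem xr_comm_one (hρ : IsJ ρ) (hi : Function.Injective ρ) {r k : ℕ} {s : ℤ} (hr : r < 48)
    (hd : dat.getD r [] = [(k, s)])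
    (hk : ∀ i : I27, Cfsg.Agent.ChevalleyStructure.E6Min.Basic.sg k i = 0 ∨ pl (sr k i) = pl i) (t : K) {u : ↥(chevF4.group K)}
    (ht : IsT ρ u) : xr r t * u = u * xr r t := by
  apply JK_inj hi
  intro x
  rw [map_mul, map_mul, Module.End.mul_apply, Module.End.mul_apply]
  funext i
  rw [xr_one hρ hr hd, ht, ht, ht, xr_one hρ hr hd]
  rcases hk i with h | h
  · rw [h]
    simp
  · rw [h]
    split_ifs <;> ring

/-- the coordinate of the 27-dimensional space which belongs to an index of the 7-dimensional space -/
def cI : Fin 3 ⊕ Fin 3 → I27 := Sum.elim ![(1, 2, 0), (1, 2, 1), (1, 2, 2)] ![(2, 0, 2), (2, 1, 2), (2, 2, 2)]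

/-- the partner -/
def cJ : Fin 3 ⊕ Fin 3 → I27 := Sum.elim ![(2, 0, 2), (2, 1, 2), (2, 2, 2)] ![(1, 2, 0), (1, 2, 1), (1, 2, 2)]

/-- the partner -/
def sw : Fin 3 ⊕ Fin 3 → Fin 3 ⊕ Fin 3 := Sum.elim Sum.inr Sum.inl

theorem io_cJ (y : VV K) (j : Fin 3 ⊕ Fin 3) : io y (cJ j) = y (sh7 (.inr (sw j))) := by
  rcases j with j | j <;> (revert j; simp only [cJ, io, ofM, sh7, sw, _root_.Fin.forall_fin_succ, Fin.isValue, _root_.Sum.elim_inl, _root_.LinearMap.coe_mk, _root_.AddHom.coe_mk, _root_.Matrix.of_apply, _root_.Matrix.cons_val', _root_.Matrix.cons_val_fin_one, _root_.Sum.map_inr, _root_.Matrix.cons_val_zero, Fin.reduceEq, ↓reduceIte, _root_.Matrix.cons_val, _root_.Fin.succ_zero_eq_one, _root_.Matrix.cons_val_succ, _root_.Matrix.cons_val_one, _root_.Fin.succ_one_eq_two, Fin.reduceSucc, _root_.IsEmpty.forall_iff, _root_.and_self, _root_.Sum.elim_inr, _root_.Sum.map_inl, _root_.one_ne_zero])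

theorem polar_jj_single (j : Fin 3 ⊕ Fin 3) (a : K) (y : VV K) :
    QuadraticMap.polar (oddForm 4 K) (jj (Pi.single (.inr j) a)) y = a * y (sh7 (.inr (sw j))) := by
  rw [jj_single, polar_oddForm, Fin.sum_univ_four]
  rcases j with j | j <;> (revert j; simp only [sh7, sw, Pi.single_apply, mul_comm, _root_.Fin.forall_fin_succ, _root_.Sum.map_inr, _root_.Sum.map_inl, _root_.ne_eq, reduceCtorEq, _root_.not_false_eq_true, _root_.Pi.single_eq_of_ne, _root_.MulZeroClass.zero_mul, Fin.isValue, _root_.Sum.inr.injEq, _root_.Sum.inl.injEq, _root_.Fin.succ_ne_zero, _root_.Pi.single_eq_of_ne', _root_.add_zero, _root_.ite_mul, _root_.zero_add, _root_.Sum.elim_inl, _root_.Fin.succ_zero_eq_one, ↓reduceIte, Fin.reduceEq, _root_.Fin.succ_one_eq_two, Fin.reduceSucc, _root_.IsEmpty.forall_iff, _root_.and_self, _root_.Sum.elim_inr])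

theorem Q_jj_single (j : Fin 3 ⊕ Fin 3) (a : K) : (oddForm 4 K) (jj (Pi.single (.inr j) a)) = 0 := by
  rw [Q_jj, coe_oddForm, quadFormOdd_apply, Fin.sum_univ_three]
  rcases j with j | j <;> (revert j; simp [Pi.single_apply, _root_.Fin.forall_fin_succ])

theorem sgl_single (j : Fin 3 ⊕ Fin 3) (a : K) (y : VV K) : sgl (Pi.single (.inr j) a) y =
    y + y (.inr (.inl 0)) • Pi.single (sh7 (.inr j)) a - (a * y (sh7 (.inr (sw j)))) • H31.FR.u0 K := by
  rw [sgl, siegel_apply, polar_jj_single, Q_jj_single, jj_single, polar_u0]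
  simp only [_root_.Fin.isValue, _root_.MulZeroClass.zero_mul, _root_.zero_smul, _root_.sub_zero]

theorem io_u0 (i : I27) : io (H31.FR.u0 K) i = if i = (0, 1, 0) then 1 else 0 := by
  obtain ⟨a, b, c⟩ := i
  (revert a b c; simp only [io, ofM, H31.FR.u0, _root_.Fin.forall_fin_succ, Fin.isValue, _root_.LinearMap.coe_mk, _root_.AddHom.coe_mk, _root_.ne_eq, reduceCtorEq, _root_.not_false_eq_true, _root_.Pi.single_eq_of_ne, _root_.Sum.inr.injEq, _root_.Pi.single_eq_same, _root_.neg_zero, _root_.Matrix.of_apply, _root_.Matrix.cons_val', _root_.Matrix.cons_val_fin_one, _root_.one_ne_zero, Fin.reduceEq, _root_.ite_self, _root_.Prod.mk.injEq, _root_.Matrix.cons_val_zero, _root_.and_true, _root_.Matrix.cons_val_succ, _root_.Fin.succ_ne_zero, _root_.and_false, ↓reduceIte, _root_.forall_const, _root_.and_self, _root_.zero_ne_one, _root_.Fin.succ_zero_eq_one, _root_.right_eq_ite_iff, _root_.imp_false, _root_.not_and, _root_.Fin.succ_one_eq_two, _root_.implies_true, _root_.IsEmpty.forall_iff])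

theorem io_single (j : Fin 3 ⊕ Fin 3) (a : K) (i : I27) :
    io (Pi.single (sh7 (.inr j)) a) i = if i = cI j then a else 0 := by
  obtain ⟨p, b, c⟩ := i
  rcases j with j | j <;> (revert j p b c; simp only [io, ofM, sh7, cI, _root_.Fin.forall_fin_succ, Fin.isValue, _root_.Sum.map_inr, _root_.Sum.map_inl, _root_.LinearMap.coe_mk, _root_.AddHom.coe_mk, _root_.ne_eq, reduceCtorEq, _root_.not_false_eq_true, _root_.Pi.single_eq_of_ne, _root_.Sum.inr.injEq, _root_.Sum.inl.injEq, _root_.Fin.succ_ne_zero, _root_.Pi.single_eq_of_ne', _root_.neg_zero, _root_.Matrix.of_apply, _root_.Matrix.cons_val', _root_.Matrix.cons_val_fin_one, _root_.Sum.elim_inl, _root_.Fin.succ_zero_eq_one, _root_.Pi.single_eq_same, Fin.reduceEq, _root_.Matrix.cons_val_zero, _root_.Prod.mk.injEq, _root_.Matrix.cons_val_succ, _root_.Fin.succ_one_eq_two, Fin.reduceSucc, _root_.IsEmpty.forall_iff, _root_.and_true, _root_.ite_self, _root_.zero_ne_one, _root_.and_false, ↓reduceIte, _root_.and_self, _root_.and_self_left, _root_.true_and, _root_.ite_eq_right_iff, _root_.right_eq_ite_iff,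 _root_.forall_eq, _root_.Sum.elim_inr, _root_.and_imp, _root_.implies_true])

/-- **the long root elements** -/
theorem Ph_one (hρ : IsJ ρ) (h2 : (2 : K) ≠ 0) {r k : ℕ} {s : ℤ} (hr : r < 48) (hd : dat.getD r [] = [(k, s)])
    (j : Fin 3 ⊕ Fin 3) (b : ℤ)
    (hk : ∀ i : I27, Cfsg.Agent.ChevalleyStructure.E6Min.Basic.sg k i = 0 ∨ pl (sr k i) = pl i)
    (htab : ∀ i : I27, pl i = true → Cfsg.Agent.ChevalleyStructure.E6Min.Basic.sg k i =
      if i = (0, 1, 0) then -b else if i = cI j then b else 0)
    (h1 : sr k ((0, 1, 0) : I27) = cJ j) (h3 : sr k (cI j) = (0, 0, 1)) (t : K) {u : ↥(chevF4.group K)} (ht : IsT ρ u)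
    (hz : xr r t ∈ Subgroup.centralizer ({u} : Set ↥(chevF4.group K))) :
    Ph hρ h2 ht ⟨xr r t, hz⟩ = sgl (Pi.single (.inr j) ((s : K) * (b : K) * t)) := by
  apply LinearEquiv.ext
  intro y
  rw [sgl_single]
  apply io_inj
  rw [io_Ph]
  funext i
  rw [xr_one hρ hr hd, map_sub, map_add, map_smul, map_smul]
  simp only [Pi.sub_apply, Pi.add_apply, Pi.smul_apply, smul_eq_mul, io_u0, io_single]
  by_cases hp : pl i = true
  swap
  · have hp' : pl i = false := by simpa using hp
    have e1 : i ≠ (0, 1, 0) := by rintro rfl; exact absurd hp' (by decide)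
    have e2 : i ≠ cI j := by
      rintro rfl
      revert hp'
      rcases j with j | j <;> fin_cases j <;> decide
    rw [if_neg e1, if_neg e2, inJ_io _ i hp']
    rcases hk i with h | h
    · rw [h]
      simp
    · rw [inJ_io _ (sr k i) (h.trans hp')]
      simp
  rw [htab i hp]
  by_cases e1 : i = (0, 1, 0)
  · subst e1
    have e2 : ((0, 1, 0) : I27) ≠ cI j := by rcases j with j | j <;> fin_cases j <;> decide
    rw [if_pos rfl, if_pos rfl, if_neg e2, h1, io_cJ]
    push_cast
    ring
  · rw [if_neg e1, if_neg e1]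
    by_cases e2 : i = cI j
    · rw [if_pos e2, if_pos e2, e2, h3]
      have h5 : io y (0, 0, 1) = y (.inr (.inl 0)) := by simp [io, ofM]
      rw [h5]
      ring
    · rw [if_neg e2, if_neg e2]
      simp

/-! ### the short root element -/

theorem xr_two (hρ : IsJ ρ) (t : K) (x : I27 → K) (i : I27) : JK ρ (xr 20 t) x i =
    x i + t * (((Cfsg.Agent.ChevalleyStructure.E6Min.Basic.sg 35 i : ℤ) : K) * x (sr 35 i)) -
      t * (((Cfsg.Agent.ChevalleyStructure.E6Min.Basic.sg 15 i : ℤ) : K) * (x (sr 15 i) +
        t * (((Cfsg.Agent.ChevalleyStructure.E6Min.Basic.sg 35 (sr 15 i) : ℤ) : K) * x (sr 35 (sr 15 i))))) := by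
  rw [xr_apply hρ (by norm_num)]
  have h1 : yM (20 : ℕ) t = zM 15 (-t) * zM 35 t := by
    show (List.map _ [(15, (-1 : ℤ)), (35, (1 : ℤ))]).prod = _
    simp
  rw [h1, ← Matrix.mulVec_mulVec, zM_mulVec, zM_mulVec, zM_mulVec]
  ring

theorem pl15 : ∀ i : I27, Cfsg.Agent.ChevalleyStructure.E6Min.Basic.sg 15 i = 0 ∨ pl (sr 15 i) = pl i := by
  decide +kernel

theorem pl35 : ∀ i : I27, Cfsg.Agent.ChevalleyStructure.E6Min.Basic.sg 35 i = 0 ∨ pl (sr 35 i) = pl i := by
  decide +kernel

theorem xr_comm_two (hρ : IsJ ρ) (hi : Function.Injective ρ) (t : K) {u : ↥(chevF4.group K)} (ht : IsT ρ u) :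
    xr 20 t * u = u * xr 20 t := by
  apply JK_inj hi
  intro x
  rw [map_mul, map_mul, Module.End.mul_apply, Module.End.mul_apply]
  funext i
  rw [xr_two hρ, ht, ht, ht, ht, ht, xr_two hρ]
  rcases pl15 i with h | h
  · rw [h]
    rcases pl35 i with h' | h'
    · rw [h']
      simp
    · rw [h']
      split_ifs <;> push_cast <;> ring
  · rw [h]
    rcases pl35 (sr 15 i) with h5 | h5
    · rw [h5]
      rcases pl35 i with h' | h'
      · rw [h']
        split_ifs <;> push_cast <;> ring
      · rw [h']
        split_ifs <;> push_cast <;> ring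
    · rw [h5, h]
      rcases pl35 i with h' | h'
      · rw [h']
        split_ifs <;> push_cast <;> ring
      · rw [h']
        split_ifs <;> push_cast <;> ring

theorem tab15 : ∀ i : I27, pl i = true → Cfsg.Agent.ChevalleyStructure.E6Min.Basic.sg 15 i =
    if i = (0, 1, 0) then 1 else if i = (0, 1, 1) then 1 else 0 := by
  decide +kernel

theorem tab35 : ∀ i : I27, pl i = true → Cfsg.Agent.ChevalleyStructure.E6Min.Basic.sg 35 i =
    if i = (0, 0, 0) then 1 else if i = (0, 1, 0) then 1 else 0 := by
  decide +kernel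

theorem sr15a : E6Min.Basic.sr 15 ((0, 1, 0) : I27) = (0, 0, 0) := by decide +kernel
theorem sr15b : E6Min.Basic.sr 15 ((0, 1, 1) : I27) = (0, 0, 1) := by decide +kernel
theorem sr35a : E6Min.Basic.sr 35 ((0, 0, 0) : I27) = (0, 0, 1) := by decide +kernel
theorem sr35b : E6Min.Basic.sr 35 ((0, 1, 0) : I27) = (0, 1, 1) := by decide +kernel

theorem sgl_zero (a : K) (y : VV K) : sgl (Pi.single (.inl ()) a) y =
    y + y (.inr (.inl 0)) • Pi.single (.inl ()) a - (2 * a * y (.inl ())) • H31.FR.u0 K -
      (a * a * y (.inr (.inl 0))) • H31.FR.u0 K := by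
  have h1 : (oddForm 4 K) (jj (Pi.single (.inl ()) a)) = a * a := by
    rw [Q_jj, coe_oddForm, quadFormOdd_apply, Fin.sum_univ_three]
    simp [pow_two]
  have h2 : QuadraticMap.polar (oddForm 4 K) (jj (Pi.single (.inl ()) a)) y = 2 * a * y (.inl ()) := by
    rw [jj_single, polar_oddForm, Fin.sum_univ_four]
    simp [sh7]
  rw [sgl, siegel_apply, h1, h2, jj_single, polar_u0]
  rfl

theorem io_zero (a : K) (i : I27) : io (Pi.single (.inl ()) a) i =
    if i = (0, 0, 0) then a else if i = (0, 1, 1) then -a else 0 := by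
  obtain ⟨p, b, c⟩ := i
  (revert p b c; simp only [io, ofM, _root_.Fin.forall_fin_succ, Fin.isValue, _root_.LinearMap.coe_mk, _root_.AddHom.coe_mk, _root_.Pi.single_eq_same, _root_.ne_eq, reduceCtorEq, _root_.not_false_eq_true, _root_.Pi.single_eq_of_ne, _root_.Matrix.of_apply, _root_.Matrix.cons_val', _root_.Matrix.cons_val_fin_one, _root_.ite_self, _root_.Prod.mk.injEq, _root_.Matrix.cons_val_zero, _root_.and_true, _root_.zero_ne_one, _root_.and_false, ↓reduceIte, _root_.Matrix.cons_val_succ, _root_.Fin.succ_ne_zero, _root_.Fin.succ_zero_eq_one, _root_.Fin.succ_one_eq_two, Fin.reduceEq, _root_.IsEmpty.forall_iff, _root_.and_self, _root_.right_eq_ite_iff, _root_.zero_eq_neg, _root_.and_imp, _root_.true_and, _root_.implies_true])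

/-- **the short root element** -/
theorem Ph_two (hρ : IsJ ρ) (h2 : (2 : K) ≠ 0) (t : K) {u : ↥(chevF4.group K)} (ht : IsT ρ u)
    (hz : xr 20 t ∈ Subgroup.centralizer ({u} : Set ↥(chevF4.group K))) :
    Ph hρ h2 ht ⟨xr 20 t, hz⟩ = sgl (Pi.single (.inl ()) t) := by
  apply LinearEquiv.ext
  intro y
  rw [sgl_zero]
  apply io_inj
  rw [io_Ph]
  funext i
  rw [xr_two hρ, map_sub, map_sub, map_add, map_smul, map_smul, map_smul]
  simp only [Pi.sub_apply, Pi.add_apply, Pi.smul_apply, smul_eq_mul, io_u0, io_zero]
  by_cases hp : pl i = true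
  swap
  · have hp' : pl i = false := by simpa using hp
    have e1 : i ≠ (0, 1, 0) := by rintro rfl; exact absurd hp' (by decide)
    have e2 : i ≠ (0, 0, 0) := by rintro rfl; exact absurd hp' (by decide)
    have e3 : i ≠ (0, 1, 1) := by rintro rfl; exact absurd hp' (by decide)
    rw [if_neg e1, if_neg e2, if_neg e3, inJ_io _ i hp']
    have f1 : ((Cfsg.Agent.ChevalleyStructure.E6Min.Basic.sg 35 i : ℤ) : K) * io y (sr 35 i) = 0 := by
      rcases pl35 i with h | h
      · rw [h]
        simp
      · rw [inJ_io _ _ (h.trans hp'), mul_zero]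
    have f2 : ((Cfsg.Agent.ChevalleyStructure.E6Min.Basic.sg 15 i : ℤ) : K) * (io y (sr 15 i) +
        t * (((Cfsg.Agent.ChevalleyStructure.E6Min.Basic.sg 35 (sr 15 i) : ℤ) : K) * io y (sr 35 (sr 15 i)))) = 0 := by
      rcases pl15 i with h | h
      · rw [h]
        simp
      · rw [inJ_io _ _ (h.trans hp')]
        rcases pl35 (sr 15 i) with h' | h'
        · rw [h']
          simp
        · rw [inJ_io _ _ (h'.trans (h.trans hp'))]
          simp
    rw [f1, f2]
    simp
  rw [tab35 i hp, tab15 i hp]
  by_cases e1 : i = (0, 1, 0)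
  · subst e1
    rw [sr15a, sr35b, tab35 (0, 0, 0) (by decide), sr35a]
    simp only [io, ofM, _root_.Cfsg.Agent.H885.Pw.JB.io, _root_.Fin.isValue, _root_.LinearMap.coe_mk, _root_.AddHom.coe_mk, _root_.Cfsg.Agent.H952.F4.ofM, ↓ _root_.reduceIte, _root_.Matrix.of_apply, _root_.Matrix.cons_val', _root_.Matrix.cons_val_zero, _root_.Matrix.cons_val_fin_one, _root_.Matrix.cons_val_one, _root_.Prod.mk.injEq, _root_.one_ne_zero, _root_.and_true, _root_.and_false, _root_.Int.cast_one, _root_.mul_neg, _root_.one_mul, _root_.zero_ne_one, _root_.MulZeroClass.mul_zero, _root_.add_zero, _root_.mul_one]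
    ring
  · by_cases e2 : i = (0, 0, 0)
    · subst e2
      rw [sr35a]
      simp only [io, ofM, _root_.Cfsg.Agent.H885.Pw.JB.io, _root_.Fin.isValue, _root_.LinearMap.coe_mk, _root_.AddHom.coe_mk, _root_.Cfsg.Agent.H952.F4.ofM, ↓ _root_.reduceIte, _root_.Matrix.of_apply, _root_.Matrix.cons_val', _root_.Matrix.cons_val_zero, _root_.Matrix.cons_val_fin_one, _root_.Int.cast_one, _root_.Matrix.cons_val_one, _root_.one_mul, _root_.Prod.mk.injEq, _root_.zero_ne_one, _root_.and_true, _root_.and_false, _root_.and_self, _root_.Int.cast_zero, _root_.mul_ite, _root_.MulZeroClass.zero_mul, _root_.MulZeroClass.mul_zero, _root_.sub_zero, _root_.add_right_inj]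
      ring
    · by_cases e3 : i = (0, 1, 1)
      · subst e3
        rw [sr15b, tab35 (0, 0, 1) (by decide)]
        simp [io, ofM]
        ring
      · rw [if_neg e1, if_neg e1, if_neg e2, if_neg e2, if_neg e1, if_neg e3, if_neg e3]
        simp

/-! ### the seven elements -/

theorem xr_mem_one (hρ : IsJ ρ) (hi : Function.Injective ρ) {r k : ℕ} {s : ℤ} (hr : r < 48)
    (hd : dat.getD r [] = [(k, s)])
    (hk : ∀ i : I27, Cfsg.Agent.ChevalleyStructure.E6Min.Basic.sg k i = 0 ∨ pl (sr k i) = pl i) (t : K) {u : ↥(chevF4.group K)}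
    (ht : IsT ρ u) : xr r t ∈ Subgroup.centralizer ({u} : Set ↥(chevF4.group K)) :=
  Subgroup.mem_centralizer_singleton_iff.2 (xr_comm_one hρ hi hr hd hk t ht)

/-- all data of a long root index -/
def Good (r k : ℕ) (s : ℤ) (j : Fin 3 ⊕ Fin 3) (b : ℤ) : Prop :=
  r < 48 ∧ dat.getD r [] = [(k, s)] ∧
    (∀ i : I27, Cfsg.Agent.ChevalleyStructure.E6Min.Basic.sg k i = 0 ∨ pl (sr k i) = pl i) ∧
    (∀ i : I27, pl i = true → Cfsg.Agent.ChevalleyStructure.E6Min.Basic.sg k i =
      if i = (0, 1, 0) then -b else if i = cI j then b else 0) ∧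
    sr k ((0, 1, 0) : I27) = cJ j ∧ sr k (cI j) = (0, 0, 1)

instance (r k : ℕ) (s : ℤ) (j : Fin 3 ⊕ Fin 3) (b : ℤ) : Decidable (Good r k s j b) := by
  unfold Good
  infer_instance

theorem good2 : Good 2 53 (-1) (.inl 0) (-1) := by decide +kernel
theorem good16 : Good 16 8 (-1) (.inl 1) 1 := by decide +kernel
theorem good17 : Good 17 11 (-1) (.inl 2) (-1) := by decide +kernel
theorem good43 : Good 43 6 (-1) (.inr 0) (-1) := by decide +kernel
theorem good26 : Good 26 51 1 (.inr 1) 1 := by decide +kernel
theorem good25 : Good 25 44 1 (.inr 2) (-1) := by decide +kernel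

theorem of_good (hρ : IsJ ρ) (h2 : (2 : K) ≠ 0) (hi : Function.Injective ρ) {r k : ℕ} {s : ℤ} {j : Fin 3 ⊕ Fin 3} {b : ℤ}
    (H : Good r k s j b) (t : K) {u : ↥(chevF4.group K)} (ht : IsT ρ u) :
    ∃ hm : xr r t ∈ Subgroup.centralizer ({u} : Set ↥(chevF4.group K)),
      Ph hρ h2 ht ⟨xr r t, hm⟩ = sgl (Pi.single (.inr j) ((s : K) * (b : K) * t)) := by
  obtain ⟨h1, h3, h4, h5, h6, h7⟩ := H
  exact ⟨xr_mem_one hρ hi h1 h3 h4 t ht, Ph_one hρ h2 h1 h3 j b h4 h5 h6 h7 t ht _⟩

/-- **R2b.** -/
theorem Ph_rr (hρ : IsJ ρ) (h2 : (2 : K) ≠ 0) (hi : Function.Injective ρ) (k : Unit ⊕ (Fin 3 ⊕ Fin 3)) (t : K)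
    {u : ↥(chevF4.group K)} (ht : IsT ρ u) :
    ∃ hm : xc Cfsg.Agent.Nodes.KindF.isType (vec chevF4 4 (rr k)) t ∈
        Subgroup.centralizer ({u} : Set ↥(chevF4.group K)),
      Ph hρ h2 ht ⟨xc Cfsg.Agent.Nodes.KindF.isType (vec chevF4 4 (rr k)) t, hm⟩ =
        sgl (Pi.single k (ss K k * t)) := by
  rcases k with _ | k | k
  · refine ⟨Subgroup.mem_centralizer_singleton_iff.2 (xr_comm_two hρ hi t ht), ?_⟩
    have h := Ph_two hρ h2 t ht (Subgroup.mem_centralizer_singleton_iff.2 (xr_comm_two hρ hi t ht))
    refine h.trans ?_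
    congr 2
    simp [ss]
  · fin_cases k
    · have h := of_good hρ h2 hi good2 t ht
      simpa only [ss, rr, _root_.Fin.zero_eta, _root_.Fin.isValue, _root_.Sum.elim_inr, _root_.Sum.elim_inl, _root_.Matrix.cons_val_zero, _root_.one_mul, _root_.Int.reduceNeg, _root_.Int.cast_neg, _root_.Int.cast_one, _root_.mul_neg, _root_.mul_one, _root_.neg_neg] using h
    · have h := of_good hρ h2 hi good16 t ht
      simpa only [ss, rr, _root_.Fin.mk_one, _root_.Fin.isValue, _root_.Sum.elim_inr, _root_.Sum.elim_inl, _root_.Matrix.cons_val_one, _root_.Matrix.cons_val_zero, _root_.neg_mul, _root_.one_mul, _root_.Int.reduceNeg, _root_.Int.cast_neg, _root_.Int.cast_one, _root_.mul_one] using h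
    · have h := of_good hρ h2 hi good17 t ht
      simpa only [ss, rr, _root_.Fin.reduceFinMk, _root_.Fin.isValue, _root_.Sum.elim_inr, _root_.Sum.elim_inl, _root_.Matrix.cons_val, _root_.one_mul, _root_.Int.reduceNeg, _root_.Int.cast_neg, _root_.Int.cast_one, _root_.mul_neg, _root_.mul_one, _root_.neg_neg] using h
  · fin_cases k
    · have h := of_good hρ h2 hi good43 t ht
      simpa only [ss, rr, _root_.Fin.zero_eta, _root_.Fin.isValue, _root_.Sum.elim_inr, _root_.Matrix.cons_val_zero, _root_.one_mul, _root_.Int.reduceNeg, _root_.Int.cast_neg, _root_.Int.cast_one, _root_.mul_neg, _root_.mul_one, _root_.neg_neg] using h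
    · have h := of_good hρ h2 hi good26 t ht
      simpa only [ss, rr, _root_.Fin.mk_one, _root_.Fin.isValue, _root_.Sum.elim_inr, _root_.Matrix.cons_val_one, _root_.Matrix.cons_val_zero, _root_.one_mul, _root_.Int.cast_one, _root_.mul_one] using h
    · have h := of_good hρ h2 hi good25 t ht
      simpa only [ss, rr, _root_.Fin.reduceFinMk, _root_.Fin.isValue, _root_.Sum.elim_inr, _root_.Matrix.cons_val, _root_.neg_mul, _root_.one_mul, _root_.Int.cast_one, _root_.Int.reduceNeg, _root_.Int.cast_neg, _root_.mul_neg, _root_.mul_one] using h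

end Cfsg.Agent.H296.FR
end

-- part: H296/FR/Sieg
section
/-!
# The ratio bound in `F₄(q)`, `q ≥ 5` odd, without hypotheses (helper296; S2452)

* `sieg` : the Siegel identities; `ratio` : the embedding `e` of the seven dimensional space and the bound
  `‖χ(e w)‖ ≤ 2 / 25 * χ(1)`.
-/

set_option autoImplicit false
set_option linter.unusedSectionVars false

namespace Cfsg.Agent.H296.FR

open Cfsg Cfsg.Lie Module Matrix
open Cfsg.Agent.ChevalleyStructure Cfsg.Agent.ChevalleyStructure.Elts
open Cfsg.Agent.ChevalleyStructure.E6Min.Tables Cfsg.Agent.ChevalleyStructure.E6Min.Basic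
open Cfsg.Agent.H952.F4 Cfsg.Agent.H952.F4.Jord
open Cfsg.Agent.LieClassical Cfsg.Agent.LieClassical.OrthForms Cfsg.Agent.LieClassical.OrthCore
open Cfsg.Agent.H557.InvF4 Cfsg.Agent.OddHalf.NI.ModelChev
open Cfsg.Agent.Tits.Roots Cfsg.Agent.Nodes.BNOf Cfsg.Agent.Nodes.RGDChev Cfsg.Agent.KFacts.RgdChevCoord
open Cfsg.Agent.H885.Pw.JB

universe u

variable {K : Type u} [Field K]

/-- the Siegel identities -/
theorem sieg {ρ : ↥(chevF4.group K) →* GL I27 K} (hρ : IsJ ρ) (h2 : (2 : K) ≠ 0) (hi : Function.Injective ρ) :
    H572.FR.Sieg hρ h2 := fun k t => Ph_rr hρ h2 hi k t (isT_t1 hρ)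

end Cfsg.Agent.H296.FR
end

-- part: H572/FR/Gen
section
/-!
helper572 (S2452, `F4(q)`, `q` odd): the ratio bound on the abelian group `EE K L0` of order `q^7` (the seven root
subgroups with numbers `20, 2, 16, 17, 43, 26, 25`), without mention of the embedding.

`ratio_mem_gen` : general `q ≥ 3`; `ratio_mem_five` : `2 / 25`, `q ≥ 5`; `ratio_mem_seven` : `7 / 200`, `q ≥ 7`.
-/

set_option autoImplicit false
set_option linter.unusedSectionVars false

namespace Cfsg.Agent.H572.FR

open Cfsg Cfsg.Lie Module Matrix
open Cfsg.Agent.LieClassical Cfsg.Agent.LieClassical.OrthForms Cfsg.Agent.LieClassical.OrthCore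
open Cfsg.Agent.Tits.Roots Cfsg.Agent.Nodes.BNOf Cfsg.Agent.Nodes.RGDChev Cfsg.Agent.KFacts.RgdChevCoord
open Cfsg.Agent.H885.Pw.JB Cfsg.Agent.H224.FR
open Cfsg.Agent.H701.F43.Cent (hF)

universe u

variable {K : Type u} [Field K] [Finite K]

/-- the embedding, for all odd `q` -/
theorem exists_emb (h2 : (2 : K) ≠ 0) :
    ∃ e : Multiplicative (W7 K) →* ↥(chevF4.group K), Function.Injective e ∧
      (∀ h ∈ E (oddForm 3 K), ∃ g, ∀ w : W7 K,
        g * e (Multiplicative.ofAdd w) * g⁻¹ = e (Multiplicative.ofAdd (h w))) ∧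
      (∀ k t, e (Multiplicative.ofAdd (Pi.single k (ss K k * t))) = xc hF (vec chevF4 4 (rr k)) t) ∧
      e.range = EE K L0 := by
  obtain ⟨ρ, hρ, hi⟩ := exists_J K
  obtain ⟨e, he, act, h3⟩ := Cfsg.Agent.H31.FR.exists_e h2 hρ hi
  obtain ⟨p, hpc⟩ := CharP.exists K
  have hx : ∀ k t, e (Multiplicative.ofAdd (Pi.single k (ss K k * t))) = xc hF (vec chevF4 4 (rr k)) t := by
    intro k t
    obtain ⟨hm, h4⟩ := Cfsg.Agent.H296.FR.sieg hρ h2 hi k t
    exact (h3 _ p ⟨_, hm⟩ h4 (Subtype.ext (Cfsg.Agent.H31.FR.xc_pow (rr_lt k) t))).symm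
  exact ⟨e, he, act, hx, range_eq (ss_sq K) hx⟩

theorem comm_EE (h2 : (2 : K) ≠ 0) {a b : ↥(chevF4.group K)} (ha : a ∈ EE K L0) (hb : b ∈ EE K L0) :
    a * b = b * a := by
  obtain ⟨e, -, -, -, hR⟩ := exists_emb (K := K) h2
  rw [← hR] at ha hb
  obtain ⟨x, rfl⟩ := ha
  obtain ⟨y, rfl⟩ := hb
  rw [← map_mul, ← map_mul, mul_comm]

end Cfsg.Agent.H572.FR
end

-- part: H221/TC/Nonc
section
/-!
# Clean tori: the number of characters nonconstant on `A - 1` (helper221; S2464, S2452)
-/

set_option autoImplicit false
set_option linter.unusedSectionVars false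
set_option linter.style.haveILetI false

open Cfsg Subgroup
open scoped ComplexConjugate

namespace Cfsg.Agent.H221.TC

open Cfsg.Agent.Characters.Core

universe u

variable {G : Type u} [Group G] {A T : Subgroup G} {m : ℕ}

/-- the families, indexed by the linear characters trivial on `A` -/
theorem exists_fam' [Fintype G] (h : Tor A T m) (hA : 1 < Nat.card A) (g : T →* ℂˣ) :
    ∃ (n : ℕ) (rep : Fin n → (T →* ℂˣ)) (ε : ℂ) (μ : Fin n → (G → ℂ)), (ε = 1 ∨ ε = -1) ∧
      (∀ i, IsIrrCharacter G (μ i)) ∧ Function.Injective μ ∧ (∀ i, InFam A m g (rep i)) ∧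
      (∀ i j, i ≠ j → ∀ x : normalizer (T : Set G), (rep j).comp (cj x) ≠ rep i) ∧
      (∀ l, InFam A m g l → ∃ i, ∃ x : normalizer (T : Set G), l = (rep i).comp (cj x)) ∧
      (∀ i j, indFun T (lf (rep i) - lf (rep j)) = ε • (μ i - μ j)) := by
  classical
  have : Finite (T →* ℂˣ) := finite_hom
  obtain ⟨l₀, hl₀⟩ : ∃ l₀ : T →* ℂˣ, InFam A m g l₀ := by
    have h1 := card_fam_ge h g
    have h2 : 0 < Nat.card {l : T →* ℂˣ // InFam A m g l} := by omega
    obtain ⟨l⟩ := (Nat.card_pos_iff.1 h2).1
    exact ⟨l.1, l.2⟩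
  have hiff : ∀ l : T →* ℂˣ, InFam A m l₀ l ↔ InFam A m g l := fun l =>
    ⟨fun hl => ⟨hl.1, fun t ht => (hl.2 t ht).trans (hl₀.2 t ht)⟩,
      fun hl => ⟨hl.1, fun t ht => (hl.2 t ht).trans (hl₀.2 t ht).symm⟩⟩
  obtain ⟨n, rep, ε, μ, hε, hμ, hinj, hrep, hdis, hcov, hτ⟩ := exists_fam h hl₀.1
  exact ⟨n, rep, ε, μ, hε, hμ, hinj, fun i => (hiff _).1 (hrep i), hdis, fun l hl => hcov l ((hiff l).2 hl), hτ⟩

section Const

variable [Fintype G] [Fintype T] [Fintype (T →* ℂˣ)]

/-- irreducible characters outside all families are constant integers on `A - 1` -/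
theorem const_of (h : Tor A T m) {n : (T →* ℂˣ) → ℕ} {rep : ∀ g, Fin (n g) → (T →* ℂˣ)}
    {ε : (T →* ℂˣ) → ℂ} {μ : ∀ g, Fin (n g) → (G → ℂ)}
    (hμ : ∀ g i, IsIrrCharacter G (μ g i))
    (hrep : ∀ g i, InFam A m g (rep g i))
    (hcov : ∀ g l, InFam A m g l → ∃ i, ∃ x : normalizer (T : Set G), l = (rep g i).comp (cj x))
    (hne : ∀ g, 0 < n g)
    (hτ : ∀ g i j, indFun T (lf (rep g i) - lf (rep g j)) = ε g • (μ g i - μ g j))
    (χ : IrrCharacter G) (hχ : ∀ g, ¬ Nt A g → ¬ ∃ i, (χ : G → ℂ) = μ g i) :
    ∃ c : ℤ, ∀ a ∈ A, a ≠ 1 → (χ : G → ℂ) a = c := by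
  classical
  choose aN haN using fun (χ : IrrCharacter G) (l : T →* ℂˣ) => exists_mult (T := T) χ l
  have hinner : ∀ (χ : IrrCharacter G) (g) (i j : Fin (n g)),
      classInner (indFun T (lf (rep g i) - lf (rep g j))) (χ : G → ℂ) = (aN χ (rep g i) : ℂ) - aN χ (rep g j) := by
    intro χ g i j
    rw [S0146.result T _ _ (isIrr_isClassFunction χ.2), classInner_sub_left, ← classInner_conj_symm, haN,
      ← classInner_conj_symm (fun t : T => (χ : G → ℂ) t), haN, Complex.conj_natCast, Complex.conj_natCast]
  have heq : ∀ g, ¬ Nt A g → ∀ i j, aN χ (rep g i) = aN χ (rep g j) := by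
    intro g hg i j
    have h1 := hinner χ g i j
    rw [hτ g i j, classInner_smul_left, classInner_sub_left, classInner_irr_ne (hμ g i) χ.2 fun h => hχ g hg ⟨i, h.symm⟩,
      classInner_irr_ne (hμ g j) χ.2 fun h => hχ g hg ⟨j, h.symm⟩] at h1
    have h2 : (aN χ (rep g i) : ℂ) = aN χ (rep g j) := by linear_combination -h1
    exact_mod_cast h2
  have hcomp : ∀ (l : T →* ℂˣ) (x : normalizer (T : Set G)), aN χ (l.comp (cj x)) = aN χ l := by
    intro l x
    have h1 : (aN χ (l.comp (cj x)) : ℂ) = aN χ l := by
      rw [← haN, ← haN, classInner_def, classInner_def]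
      congr 1
      refine Fintype.sum_bijective (cj x) ?_ _ _ fun t => ?_
      · refine ⟨fun a b hab' => ?_, fun a => ⟨cj x⁻¹ a, ?_⟩⟩
        · have h2 := congrArg (cj x⁻¹) hab'
          have h3 : ∀ b : T, cj x⁻¹ (cj x b) = b := fun b => by
            have := DFunLike.congr_fun (cj_mul x x⁻¹) b
            rw [mul_inv_cancel, cj_one] at this
            exact this.symm
          rwa [h3, h3] at h2
        · have := DFunLike.congr_fun (cj_mul x⁻¹ x) a
          rw [inv_mul_cancel, cj_one] at this
          exact this.symm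
      · have h2 : (χ : G → ℂ) (t : G) = (χ : G → ℂ) ((cj x t : T) : G) := by
          rw [cj_apply]
          have := isIrr_isClassFunction χ.2 (t : G) (x : G)⁻¹
          rw [inv_inv] at this
          exact this.symm
        show (χ : G → ℂ) t * conj (lf (l.comp (cj x)) t) = (χ : G → ℂ) ((cj x t : T) : G) * conj (lf l (cj x t))
        rw [← h2]; rfl
    exact_mod_cast h1
  have hF : ∀ l l' : T →* ℂˣ, Nt A l → Nt A l' → SameE m l l' →
      classInner (fun t : T => (χ : G → ℂ) t) (lf l) = classInner (fun t : T => (χ : G → ℂ) t) (lf l') := by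
    intro l l' hl hl' hs
    obtain ⟨g, hg, hgn⟩ := exists_gam h l
    obtain ⟨i, x, hi⟩ := hcov g l ⟨hl, fun t ht => (hg t ht).symm⟩
    obtain ⟨j, y, hj⟩ := hcov g l' ⟨hl', fun t ht => ((hs t ht).symm).trans (hg t ht).symm⟩
    rw [haN, haN, hi, hj, hcomp, hcomp, heq g hgn i j]
  refine ⟨∑ g : T →* ℂˣ, if Nt A g then 0 else (aN χ g : ℤ) - aN χ (rep g ⟨0, hne g⟩), fun a ha ha1 => ?_⟩
  have hat : (⟨a, h.le ha⟩ : T) ^ m ≠ 1 := by
    intro h1
    apply ha1
    have h2 : a ^ m = 1 := by
      have := congrArg (Subtype.val : T → G) h1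
      simpa only [_root_.SubmonoidClass.mk_pow, _root_.OneMemClass.coe_one] using this
    have h3 : orderOf a ∣ m := orderOf_dvd_of_pow_eq_one h2
    have h4 : orderOf a ∣ Nat.card A := Subgroup.orderOf_dvd_natCard A ha
    have h5 : orderOf a ∣ 1 := by
      have := Nat.dvd_gcd h3 h4
      rwa [h.cop] at this
    exact orderOf_eq_one_iff.1 (Nat.dvd_one.1 h5)
  have h1 := value h hF (sel := fun g => rep g ⟨0, hne g⟩) (fun g _ => hrep g _) hat
  have h2 : (χ : G → ℂ) a = _ := h1
  rw [h2, Int.cast_sum]
  refine Finset.sum_congr rfl fun g _ => ?_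
  by_cases hg : Nt A g
  · rw [if_pos hg, if_pos hg, Int.cast_zero]
  · rw [if_neg hg, if_neg hg, haN, haN]
    have h3 : g ⟨a, h.le ha⟩ = 1 := by
      by_contra hc
      exact hg ⟨_, ha, hc⟩
    rw [h3]
    push_cast
    ring

end Const

/-- the family of a nonconstant character: its members agree outside the conjugates of `{t ∈ T : t ^ m ≠ 1}` -/
theorem fam_of_nonconst [Finite G] (h : Tor A T m) {w : ℕ} (hw : T.relIndex (normalizer (T : Set G)) = w)
    (χ : IrrCharacter G) (hχ : ¬ ∃ c : ℤ, ∀ a ∈ A, a ≠ 1 → (χ : G → ℂ) a = c) :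
    ∃ (n : ℕ) (M : Fin n → IrrCharacter G), Function.Injective M ∧ Nat.card A ≤ n * w + 1 ∧ (∃ i, M i = χ) ∧
      ∀ i j, ∀ g : G, (∀ x : G, ∀ t ∈ T, t ^ m ≠ 1 → g ≠ x * t * x⁻¹) → (M i : G → ℂ) g = (M j : G → ℂ) g := by
  classical
  have := Fintype.ofFinite G
  have : Fintype T := Fintype.ofFinite _
  have : Finite (T →* ℂˣ) := finite_hom
  have : Fintype (T →* ℂˣ) := Fintype.ofFinite _
  by_cases hA : 1 < Nat.card A
  swap
  · exfalso
    refine hχ ⟨0, fun a ha ha1 => ?_⟩
    exfalso
    apply hA
    have : Nontrivial A := ⟨⟨a, ha⟩, 1, fun h2 => ha1 (congrArg Subtype.val h2)⟩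
    exact Finite.one_lt_card
  choose n rep ε μ hε hμ hinj hrep hdis hcov hτ using fun g : T →* ℂˣ => exists_fam' h hA g
  have hne : ∀ g, 0 < n g := by
    intro g
    by_contra hc
    have h1 := card_fam_ge h g
    have h2 : 0 < Nat.card {l : T →* ℂˣ // InFam A m g l} := by omega
    obtain ⟨l⟩ := (Nat.card_pos_iff.1 h2).1
    obtain ⟨i, -⟩ := hcov g l.1 l.2
    exact absurd i.2 (by omega)
  obtain ⟨g, i, hi⟩ : ∃ g, ∃ i, (χ : G → ℂ) = μ g i := by
    by_contra hc
    push Not at hc
    refine hχ (const_of h (n := n) (rep := rep) (ε := ε) (μ := μ) hμ hrep hcov hne hτ χ ?_)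
    rintro g hg ⟨i, hi⟩
    exact hc g i hi
  refine ⟨n g, fun i => ⟨μ g i, hμ g i⟩, fun i j hij => hinj g (congrArg Subtype.val hij), ?_,
    ⟨i, Subtype.ext hi.symm⟩, ?_⟩
  · have h1 := card_fam_le h (hcov g)
    have h2 := card_fam_ge h g
    rw [hw] at h1
    omega
  · intro i j y hy
    have h1 := congrFun (hτ g i j) y
    have h2 : indFun T (lf (rep g i) - lf (rep g j)) y = 0 := by
      rw [indFun_apply]
      refine mul_eq_zero_of_right _ (Finset.sum_eq_zero fun x _ => ?_)
      by_cases hx : x⁻¹ * y * x ∈ T
      · have h3 : (x⁻¹ * y * x) ^ m = 1 := by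
          by_contra h4
          exact hy x _ hx h4 (by group)
        rw [extendByZero_of_mem T _ hx]
        have h4 : (⟨x⁻¹ * y * x, hx⟩ : T) ^ m = 1 := Subtype.ext (by rw [Subgroup.coe_pow]; exact h3)
        rw [Pi.sub_apply, lf_apply, lf_apply, (hrep g i).2 _ h4, (hrep g j).2 _ h4, sub_self]
      · exact extendByZero_of_notMem T _ hx
    rw [h2, Pi.smul_apply, Pi.sub_apply, smul_eq_mul] at h1
    have h5 : μ g i y - μ g j y = 0 := by
      rcases hε g with h6 | h6 <;> rw [h6] at h1
      · linear_combination -h1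
      · linear_combination h1
    exact sub_eq_zero.1 h5

end Cfsg.Agent.H221.TC
end

-- part: H982/FR/Sum
section
/-!
# Two clean tori: the class product sum from one ratio (helper982; S2452, S2464)

`(A, T, m)`, `(B, S, k)` clean tori, `w = |N(T) : T|`, `v = |N(S) : S|`, with disjoint supports.

* `sum_const_le` : the squares of the constant values on `A - 1` add up to at most `w m`;
* `both_const` : a character which vanishes neither at `x ∈ A - 1` nor at `y ∈ B - 1` is constant on both sets;
* `prd_of_ratio` : if `(w m - 2) (v k - 2) < (N + 1) ^ 2` and `N |χ(g)| < χ(1)` for every `χ ≠ 1, St`, `St(g) = 0`, then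
  `g` is a product of a conjugate of `x` and a conjugate of `y`.
-/

set_option autoImplicit false
set_option linter.unusedSectionVars false
set_option linter.style.haveILetI false

open Cfsg Subgroup
open scoped ComplexConjugate

namespace Cfsg.Agent.H982.FR

open Cfsg.Agent.Characters.Core Cfsg.Agent.H65.Ore Cfsg.Agent.H221.TC
open Cfsg.Agent.H885.FT (mid mem_mid sum_mid norm_one_pos)

universe u

variable {G : Type u} [Group G] {A T : Subgroup G} {m : ℕ}

theorem pow_ne (h : Tor A T m) {a : G} (ha : a ∈ A) (ha1 : a ≠ 1) : a ^ m ≠ 1 := by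
  intro h1
  apply ha1
  have h2 : (⟨a, ha⟩ : A) ^ m = 1 := Subtype.ext h1
  have h3 : orderOf (⟨a, ha⟩ : A) ∣ m := orderOf_dvd_of_pow_eq_one h2
  have h4 : orderOf (⟨a, ha⟩ : A) ∣ Nat.card A := orderOf_dvd_natCard _
  have h5 : orderOf (⟨a, ha⟩ : A) = 1 := Nat.eq_one_of_dvd_coprimes h.cop h3 h4
  exact congrArg Subtype.val (orderOf_eq_one_iff.1 h5)

theorem cent_eq (h : Tor A T m) {a : G} (ha : a ∈ A) (ha1 : a ≠ 1) : Subgroup.centralizer ({a} : Set G) = T := by
  refine le_antisymm (h.cent a ha ha1) fun t ht => ?_
  rw [Subgroup.mem_centralizer_singleton_iff]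
  exact h.comm t ht a (h.le ha)

theorem card_conj_le [Finite G] (h : Tor A T m) {w : ℕ} (hw : T.relIndex (normalizer (T : Set G)) = w) {a : G}
    (ha : a ∈ A) (ha1 : a ≠ 1) : Nat.card {b : A // IsConj (b : G) a} ≤ w := by
  classical
  have hz : ∀ b : {b : A // IsConj (b : G) a}, ∃ z : G, z * a * z⁻¹ = (b.1 : G) := by
    intro b
    exact isConj_iff.1 b.2.symm
  choose z hz using hz
  have hzN : ∀ b, z b ∈ normalizer (T : Set G) := by
    intro b
    have h1 : (z b)⁻¹ ∈ normalizer (T : Set G) := by
      refine h.ti (h.le ha) (pow_ne h ha ha1) ?_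
      rw [inv_inv, hz b]
      exact h.le b.1.2
    simpa using inv_mem h1
  have h1 : Nat.card ({b : A // IsConj (b : G) a} × T) ≤ Nat.card (normalizer (T : Set G)) := by
    refine Nat.card_le_card_of_injective (fun p => (⟨z p.1 * p.2, mul_mem (hzN p.1) (le_normalizer p.2.2)⟩ :
      normalizer (T : Set G))) ?_
    rintro ⟨b, t⟩ ⟨b', t'⟩ hbt
    have h2 : z b * (t : G) = z b' * t' := congrArg Subtype.val hbt
    have h3 : ∀ (b : {b : A // IsConj (b : G) a}) (t : T), z b * (t : G) * a * (z b * (t : G))⁻¹ = (b.1 : G) := by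
      intro b t
      have h4 : (t : G) * a = a * t := h.comm t t.2 a (h.le ha)
      calc z b * (t : G) * a * (z b * (t : G))⁻¹ = z b * ((t : G) * a) * (t : G)⁻¹ * (z b)⁻¹ := by group
        _ = z b * (a * t) * (t : G)⁻¹ * (z b)⁻¹ := by rw [h4]
        _ = z b * a * (z b)⁻¹ := by group
        _ = (b.1 : G) := hz b
    have h5 : b = b' := by
      apply Subtype.ext
      apply Subtype.ext
      rw [← h3 b t, ← h3 b' t', h2]
    subst h5
    have h6 : (t : G) = t' := mul_left_cancel h2
    rw [Subtype.ext h6]
  rw [Nat.card_prod] at h1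
  have h2 : Nat.card (T.subgroupOf (normalizer (T : Set G))) = Nat.card T :=
    Nat.card_congr (Subgroup.subgroupOfEquivOfLe le_normalizer).toEquiv
  have h3 : w * Nat.card T = Nat.card (normalizer (T : Set G)) := by
    rw [← hw, ← h2]
    exact Subgroup.index_mul_card (T.subgroupOf (normalizer (T : Set G)))
  rw [← h3] at h1
  exact Nat.le_of_mul_le_mul_right h1 Nat.card_pos

theorem sum_const_le [Finite G] (h : Tor A T m) {w : ℕ} (hw : T.relIndex (normalizer (T : Set G)) = w)
    (hc : Nat.card T = m * Nat.card A) (hbig : w * m + 1 < Nat.card A) (S : Finset (IrrCharacter G))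
    (c : IrrCharacter G → ℤ) (hS : ∀ χ ∈ S, ∀ a ∈ A, a ≠ 1 → (χ : G → ℂ) a = c χ) : ∑ χ ∈ S, c χ ^ 2 ≤ w * m := by
  classical
  have : Finite (IrrCharacter G) := finite_irr
  have := Fintype.ofFinite (IrrCharacter G)
  have := Fintype.ofFinite A
  let E : Finset A := Finset.univ.erase 1
  have hE : ∀ a : A, a ∈ E → (a : G) ≠ 1 := fun a ha h1 => (Finset.mem_erase.1 ha).1 (Subtype.ext h1)
  have hEc : (E.card : ℤ) = Nat.card A - 1 := by
    rw [Finset.card_erase_of_mem (Finset.mem_univ _), Finset.card_univ, Nat.card_eq_fintype_card, Nat.cast_sub Fintype.card_pos]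
    simp
  let F : IrrCharacter G → ℂ := fun χ => ∑ a ∈ E, (χ : G → ℂ) a.1
  have h1 : ∑ χ : IrrCharacter G, F χ * conj (F χ) =
      ((∑ b ∈ E, (E.filter fun a : A => IsConj (a : G) (b : G)).card * Nat.card T : ℕ) : ℂ) := by
    have h2 : ∀ χ : IrrCharacter G, F χ * conj (F χ) =
        ∑ b ∈ E, ∑ a ∈ E, (χ : G → ℂ) a.1 * conj ((χ : G → ℂ) b.1) := by
      intro χ
      rw [map_sum, Finset.sum_mul_sum, Finset.sum_comm]
    rw [Finset.sum_congr rfl fun χ _ => h2 χ, Finset.sum_comm]
    push_cast
    refine Finset.sum_congr rfl fun b hb => ?_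
    rw [Finset.sum_comm]
    rw [Finset.sum_congr rfl fun a _ => H686.CharKit.col_orth a.1 b.1, ← Finset.sum_filter, Finset.sum_const,
      nsmul_eq_mul, cent_eq h b.2 (hE b hb)]
  have h3 : (∑ b ∈ E, (E.filter fun a : A => IsConj (a : G) (b : G)).card * Nat.card T) ≤ E.card * (w * Nat.card T) := by
    rw [← smul_eq_mul, ← Finset.sum_const]
    refine Finset.sum_le_sum fun b hb => Nat.mul_le_mul_right _ ?_
    refine le_trans ?_ (card_conj_le h hw b.2 (hE b hb))
    rw [Nat.card_eq_fintype_card, Fintype.card_subtype]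
    exact Finset.card_le_card fun a ha => Finset.mem_filter.2 ⟨Finset.mem_univ _, (Finset.mem_filter.1 ha).2⟩
  have h4 : ∑ χ : IrrCharacter G, Complex.normSq (F χ) ≤ E.card * (w * Nat.card T) := by
    have h5 : ((∑ χ : IrrCharacter G, Complex.normSq (F χ) : ℝ) : ℂ) =
        (((∑ b ∈ E, (E.filter fun a : A => IsConj (a : G) (b : G)).card * Nat.card T : ℕ) : ℝ) : ℂ) := by
      rw [Complex.ofReal_natCast, ← h1]
      push_cast
      exact Finset.sum_congr rfl fun χ _ => by rw [Complex.mul_conj]
    have h6 : (∑ χ : IrrCharacter G, Complex.normSq (F χ) : ℝ) =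
        ((∑ b ∈ E, (E.filter fun a : A => IsConj (a : G) (b : G)).card * Nat.card T : ℕ) : ℝ) := by
      exact_mod_cast h5
    rw [h6]
    exact_mod_cast h3
  have h5 : ∑ χ ∈ S, ((E.card : ℝ) ^ 2 * (c χ : ℝ) ^ 2) ≤ ∑ χ : IrrCharacter G, Complex.normSq (F χ) := by
    refine le_trans (le_of_eq (Finset.sum_congr rfl fun χ hχ => ?_))
      (Finset.sum_le_sum_of_subset_of_nonneg (Finset.subset_univ S) fun χ _ _ => Complex.normSq_nonneg _)
    have h6 : F χ = (((E.card : ℝ) * (c χ : ℝ) : ℝ) : ℂ) := by
      show ∑ a ∈ E, (χ : G → ℂ) a.1 = _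
      rw [Finset.sum_congr rfl fun (a : A) (ha : a ∈ E) => hS χ hχ a.1 a.2 (hE a ha), Finset.sum_const, nsmul_eq_mul]
      push_cast
      ring
    rw [h6, Complex.normSq_ofReal]
    ring
  have h6 : ((E.card : ℤ) ^ 2 * ∑ χ ∈ S, c χ ^ 2) ≤ E.card * (w * Nat.card T) := by
    have h7 := h5.trans h4
    rw [← Finset.mul_sum] at h7
    exact_mod_cast h7
  rw [hEc, hc] at h6
  set n : ℤ := (Nat.card A : ℤ) with hn
  set s := ∑ χ ∈ S, c χ ^ 2 with hs
  have h8 : (w : ℤ) * m + 1 < n := by rw [hn]; exact_mod_cast hbig
  have hwm : (0 : ℤ) ≤ (w : ℤ) * m := by (clear * -; positivity)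
  by_contra hcon
  have h9 : (w : ℤ) * m + 1 ≤ s := by omega
  push_cast at h6
  have h10 : (n - 1) * ((n - 1) * s) ≤ (n - 1) * ((w : ℤ) * (m * n)) := by
    calc (n - 1) * ((n - 1) * s) = (n - 1) ^ 2 * s := by ring
      _ ≤ _ := by rw [hn]; exact h6
  have h11 : (n - 1) * s ≤ (w : ℤ) * (m * n) := le_of_mul_le_mul_left h10 (by linarith only [hbig, hwm])
  have h12 : (n - 1) * ((w : ℤ) * m + 1) ≤ (n - 1) * s := mul_le_mul_of_nonneg_left h9 (by linarith only [hbig, hwm])
  linarith only [hbig, h11, h12]


variable {B S : Subgroup G} {k : ℕ}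

theorem inner_eq_zero_of_disj [Fintype G] {α β : G → ℂ} (h : ∀ g, α g = 0 ∨ β g = 0) : classInner α β = 0 := by
  rw [classInner_def]
  refine mul_eq_zero_of_right _ (Finset.sum_eq_zero fun g _ => ?_)
  rcases h g with h1 | h1
  · rw [h1, zero_mul]
  · rw [h1, map_zero, mul_zero]

/-- one side of `both_const` -/
theorem const_left [Finite G] (hT : Tor A T m) (hS : Tor B S k) {w v : ℕ}
    (hw : T.relIndex (normalizer (T : Set G)) = w) (hv : S.relIndex (normalizer (S : Set G)) = v)
    (hSc : Nat.card S = k * Nat.card B)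
    (hA : v * k * w + w + 1 < Nat.card A) (hB : v * k + v + 1 < Nat.card B)
    (hdis : ∀ t ∈ T, t ^ m ≠ 1 → ∀ s ∈ S, s ^ k ≠ 1 → ∀ z : G, t ≠ z * s * z⁻¹)
    {χ : IrrCharacter G} {y : G} (hy : y ∈ B) (hy1 : y ≠ 1) (hχy : (χ : G → ℂ) y ≠ 0) :
    ∃ c : ℤ, ∀ a ∈ A, a ≠ 1 → (χ : G → ℂ) a = c := by
  classical
  have := Fintype.ofFinite G
  have : Finite (IrrCharacter G) := finite_irr
  have := Fintype.ofFinite (IrrCharacter G)
  by_contra hχ
  obtain ⟨n, M, hM, hn, ⟨i₀, hi₀⟩, hag⟩ := fam_of_nonconst hT hw χ hχ
  have hdis' : ∀ s ∈ S, s ^ k ≠ 1 → ∀ x : G, ∀ t ∈ T, t ^ m ≠ 1 → s ≠ x * t * x⁻¹ := by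
    intro s hs hs1 x t ht ht1 h1
    exact hdis t ht ht1 s hs hs1 x⁻¹ (by rw [h1]; group)
  have hn2 : v * k + 2 ≤ n := by
    by_contra hcon
    have h1 : n * w ≤ (v * k + 1) * w := Nat.mul_le_mul_right _ (by omega)
    have h2 : (v * k + 1) * w = v * k * w + w := by ring
    omega
  by_cases hχB : ∃ d : ℤ, ∀ b ∈ B, b ≠ 1 → (χ : G → ℂ) b = d
  · obtain ⟨d, hd⟩ := hχB
    have hd0 : d ≠ 0 := by
      rintro rfl
      exact hχy (by rw [hd y hy hy1]; simp)
    have h1 := sum_const_le hS hv hSc (by omega) (Finset.univ.image M) (fun _ => d) (by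
      intro ψ hψ b hb hb1
      obtain ⟨i, -, rfl⟩ := Finset.mem_image.1 hψ
      rw [hag i i₀ b (fun x t ht ht1 => hdis' b (hS.le hb) (pow_ne hS hb hb1) x t ht ht1), hi₀]
      exact hd b hb hb1)
    rw [Finset.sum_const, Finset.card_image_of_injective _ hM, Finset.card_univ, Fintype.card_fin, nsmul_eq_mul] at h1
    have h2 : (1 : ℤ) ≤ d ^ 2 := by
      have : 0 < d ^ 2 := by positivity
      omega
    have h3 : (v : ℤ) * k + 2 ≤ n := by exact_mod_cast hn2
    have h4 : (n : ℤ) * 1 ≤ n * d ^ 2 := mul_le_mul_of_nonneg_left h2 (by (clear * -; positivity))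
    linarith only [hn2, h1, h4]
  · obtain ⟨n', N, hN, hn', ⟨j₀, hj₀⟩, hag'⟩ := fam_of_nonconst hS hv χ hχB
    have hn2' : 2 ≤ n' := by
      by_contra hcon
      have h1 : n' * v ≤ 1 * v := Nat.mul_le_mul_right _ (by omega)
      omega
    obtain ⟨i, hi⟩ : ∃ i : Fin n, i ≠ i₀ := by
      have : Nontrivial (Fin n) := Fin.nontrivial_iff_two_le.2 (by omega)
      exact exists_ne i₀
    obtain ⟨j, hj⟩ : ∃ j : Fin n', j ≠ j₀ := by
      have : Nontrivial (Fin n') := Fin.nontrivial_iff_two_le.2 hn2'
      exact exists_ne j₀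
    have h1 : classInner ((M i : G → ℂ) - (M i₀ : G → ℂ)) ((N j : G → ℂ) - (N j₀ : G → ℂ)) = 0 := by
      refine inner_eq_zero_of_disj fun g => ?_
      by_cases hg : ∀ x : G, ∀ t ∈ T, t ^ m ≠ 1 → g ≠ x * t * x⁻¹
      · left
        rw [Pi.sub_apply, hag i i₀ g hg, sub_self]
      · right
        push Not at hg
        obtain ⟨x, t, ht, ht1, rfl⟩ := hg
        rw [Pi.sub_apply, hag' j j₀ _ ?_, sub_self]
        intro z s hs hs1 h2
        exact hdis t ht ht1 s hs hs1 (x⁻¹ * z) (by
          calc t = x⁻¹ * (x * t * x⁻¹) * x := by group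
            _ = x⁻¹ * (z * s * z⁻¹) * x := by rw [h2]
            _ = x⁻¹ * z * s * (x⁻¹ * z)⁻¹ := by group)
    rw [classInner_sub_left, classInner_sub_right, classInner_sub_right, hi₀, hj₀] at h1
    have h2 : classInner (M i : G → ℂ) (χ : G → ℂ) = 0 :=
      classInner_irr_ne (M i).2 χ.2 fun h => hi (hM (Subtype.ext (by rw [h, hi₀])))
    have h3 : classInner (χ : G → ℂ) (N j : G → ℂ) = 0 :=
      classInner_irr_ne χ.2 (N j).2 fun h => hj (hN (Subtype.ext (by rw [← h, hj₀])))
    have h4 : classInner (χ : G → ℂ) (χ : G → ℂ) = 1 := classInner_irr_self χ.2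
    rw [h2, h3, h4] at h1
    by_cases h5 : M i = N j
    · rw [h5, classInner_irr_self (N j).2] at h1
      norm_num at h1
    · rw [classInner_irr_ne (M i).2 (N j).2 fun h => h5 (Subtype.ext h)] at h1
      norm_num at h1

end Cfsg.Agent.H982.FR
end

-- part: H628/FR/Par
section
/-!
# Two clean tori: the ratio form with the parity of the middle sum (helper628; S2452, on top of helper982's `Sum`)

`1 + St(x) St(y) + ∑ c d = 0` over the middle characters and `St(x) St(y) = ± 1`, so `∑ |c d|` is even.  Hence the
Cauchy bound `∑ |c d| < N + 2` with `N` even gives `∑ |c d| ≤ N`.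

* `mid_sum_even` : the middle sum is even;
* `prd_of_ratio_even` : `prd_of_ratio` with `(w m - 2) (v k - 2) < (N + 2) ^ 2`, `N` even.
  (`F₄(q)`, `q` odd: `w m - 2 = 10`, `v k - 2 = 14`, `140 < 144`, `N = 10`.)
-/

set_option autoImplicit false
set_option linter.unusedSectionVars false
set_option linter.style.haveILetI false

open Cfsg Subgroup
open scoped ComplexConjugate

namespace Cfsg.Agent.H628.FR

open Cfsg.Agent.Characters.Core Cfsg.Agent.H65.Ore Cfsg.Agent.H221.TC Cfsg.Agent.H982.FR
open Cfsg.Agent.H885.FT (mid mem_mid sum_mid norm_one_pos)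

universe u

variable {G : Type u} [Group G] {A T B S : Subgroup G} {m k : ℕ}

theorem sq_one_cases {a : ℤ} (h : a ^ 2 = 1) : a = 1 ∨ a = -1 := sq_eq_one_iff_of_ne_zero_or a h
where
  /-- helper -/
  sq_eq_one_iff_of_ne_zero_or (a : ℤ) (h : a ^ 2 = 1) : a = 1 ∨ a = -1 := by
    have h1 : (a - 1) * (a + 1) = 0 := by linear_combination h
    rcases mul_eq_zero.1 h1 with h2 | h2
    · left; linarith
    · right; linarith

/-- `∑ |a b|` and `∑ a b` have the same parity -/
theorem sum_abs_even {ι : Type*} (R : Finset ι) (c d : ι → ℤ) (h : Even (∑ i ∈ R, c i * d i)) :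
    Even (∑ i ∈ R, |c i| * |d i|) := by
  have h1 : Even (∑ i ∈ R, (|c i| * |d i| - c i * d i)) := by
    refine Finset.sum_induction _ (fun a : ℤ => Even a) (fun a b ha hb => ha.add hb) (by simp only [_root_.Even.zero]) fun i _ => ?_
    rw [← abs_mul]
    rcases abs_choice (c i * d i) with h2 | h2 <;> rw [h2]
    · simp only [_root_.sub_self, _root_.Even.zero]
    · exact ⟨-(c i * d i), by ring⟩
  rw [Finset.sum_sub_distrib] at h1
  have h2 := h1.add h
  rwa [sub_add_cancel] at h2

/-- **The ratio form for two clean tori, with parity.** -/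
theorem prd_of_ratio_even [Finite G] (hT : Tor A T m) (hS : Tor B S k) {w v : ℕ}
    (hw : T.relIndex (normalizer (T : Set G)) = w) (hv : S.relIndex (normalizer (S : Set G)) = v)
    (hTc : Nat.card T = m * Nat.card A) (hSc : Nat.card S = k * Nat.card B)
    (hA : v * k * w + w + 1 < Nat.card A) (hA' : w * m + w + 1 < Nat.card A)
    (hB : w * m * v + v + 1 < Nat.card B) (hB' : v * k + v + 1 < Nat.card B)
    (hdis : ∀ t ∈ T, t ^ m ≠ 1 → ∀ s ∈ S, s ^ k ≠ 1 → ∀ z : G, t ≠ z * s * z⁻¹)
    {x y g : G} (hx : x ∈ A) (hx1 : x ≠ 1) (hy : y ∈ B) (hy1 : y ≠ 1)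
    {St : IrrCharacter G} (hSt1 : St ≠ one1 G) (hStx : ‖(St : G → ℂ) x‖ = 1) (hSty : ‖(St : G → ℂ) y‖ = 1)
    (hStg : (St : G → ℂ) g = 0) {N : ℕ} (hNe : Even N)
    (hN : ((w : ℤ) * m - 2) * ((v : ℤ) * k - 2) < ((N : ℤ) + 2) ^ 2)
    (hrat : ∀ χ : IrrCharacter G, χ ≠ one1 G → χ ≠ St → N * ‖(χ : G → ℂ) g‖ < ‖(χ : G → ℂ) 1‖) : Prd x y g := by
  classical
  have : Finite (IrrCharacter G) := finite_irr
  have := Fintype.ofFinite (IrrCharacter G)
  by_contra hno
  have h0 : ∑ χ : IrrCharacter G, (χ : G → ℂ) x * (χ : G → ℂ) y * conj ((χ : G → ℂ) g) / (χ : G → ℂ) 1 = 0 := by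
    by_contra h1
    exact hno (prd_of_ne_zero h1)
  have hdis' : ∀ s ∈ S, s ^ k ≠ 1 → ∀ t ∈ T, t ^ m ≠ 1 → ∀ z : G, s ≠ z * t * z⁻¹ := by
    intro s hs hs1 t ht ht1 z h1
    exact hdis t ht ht1 s hs hs1 z⁻¹ (by rw [h1]; group)
  have hcA : ∀ χ : IrrCharacter G, (χ : G → ℂ) y ≠ 0 → ∃ c : ℤ, ∀ a ∈ A, a ≠ 1 → (χ : G → ℂ) a = c := fun χ h =>
    const_left hT hS hw hv hSc hA hB' hdis hy hy1 h
  have hcB : ∀ χ : IrrCharacter G, (χ : G → ℂ) x ≠ 0 → ∃ c : ℤ, ∀ b ∈ B, b ≠ 1 → (χ : G → ℂ) b = c := fun χ h =>
    const_left hS hT hv hw hTc hB hA' hdis' hx hx1 h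
  let c : IrrCharacter G → ℤ := fun χ => if h : ∃ c : ℤ, ∀ a ∈ A, a ≠ 1 → (χ : G → ℂ) a = c then h.choose else 0
  let d : IrrCharacter G → ℤ := fun χ => if h : ∃ c : ℤ, ∀ b ∈ B, b ≠ 1 → (χ : G → ℂ) b = c then h.choose else 0
  have hc : ∀ χ : IrrCharacter G, (χ : G → ℂ) y ≠ 0 → ∀ a ∈ A, a ≠ 1 → (χ : G → ℂ) a = c χ := by
    intro χ h
    have h1 := hcA χ h
    show ∀ a ∈ A, a ≠ 1 → (χ : G → ℂ) a = ((if h : ∃ c : ℤ, ∀ a ∈ A, a ≠ 1 → (χ : G → ℂ) a = c then h.choose else 0 : ℤ) : ℂ)
    rw [dif_pos h1]
    exact h1.choose_spec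
  have hd : ∀ χ : IrrCharacter G, (χ : G → ℂ) x ≠ 0 → ∀ b ∈ B, b ≠ 1 → (χ : G → ℂ) b = d χ := by
    intro χ h
    have h1 := hcB χ h
    show ∀ b ∈ B, b ≠ 1 → (χ : G → ℂ) b = ((if h : ∃ c : ℤ, ∀ b ∈ B, b ≠ 1 → (χ : G → ℂ) b = c then h.choose else 0 : ℤ) : ℂ)
    rw [dif_pos h1]
    exact h1.choose_spec
  -- the middle characters
  let R : Finset (IrrCharacter G) := (mid G St).filter fun χ => (χ : G → ℂ) x ≠ 0 ∧ (χ : G → ℂ) y ≠ 0
  have hR : ∀ χ ∈ R, (χ : G → ℂ) x = c χ ∧ (χ : G → ℂ) y = d χ ∧ χ ≠ St ∧ χ ≠ one1 G ∧ c χ ≠ 0 ∧ d χ ≠ 0 := by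
    intro χ hχ
    obtain ⟨h1, h2, h3⟩ := Finset.mem_filter.1 hχ
    have h4 := hc χ h3 x hx hx1
    have h5 := hd χ h2 y hy hy1
    have h6 := mem_mid.1 h1
    refine ⟨h4, h5, h6.1, h6.2, ?_, ?_⟩
    · intro h7; exact h2 (by rw [h4, h7]; simp)
    · intro h7; exact h3 (by rw [h5, h7]; simp)
  have hStx0 : (St : G → ℂ) x ≠ 0 := fun h => by rw [h] at hStx; simp at hStx
  have hSty0 : (St : G → ℂ) y ≠ 0 := fun h => by rw [h] at hSty; simp at hSty
  have hcSt : c St ^ 2 = 1 := by
    have h1 := hc St hSty0 x hx hx1
    rw [h1, Complex.norm_intCast] at hStx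
    have h2 : |c St| = 1 := by exact_mod_cast hStx
    rw [← sq_abs, h2, one_pow]
  have hdSt : d St ^ 2 = 1 := by
    have h1 := hd St hStx0 y hy hy1
    rw [h1, Complex.norm_intCast] at hSty
    have h2 : |d St| = 1 := by exact_mod_cast hSty
    rw [← sq_abs, h2, one_pow]
  have hc1 : c (one1 G) = 1 := by
    have h1 := hc (one1 G) (by rw [one1_apply]; exact one_ne_zero) x hx hx1
    rw [one1_apply] at h1
    exact_mod_cast h1.symm
  have hd1 : d (one1 G) = 1 := by
    have h1 := hd (one1 G) (by rw [one1_apply]; exact one_ne_zero) y hy hy1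
    rw [one1_apply] at h1
    exact_mod_cast h1.symm
  have hR1 : one1 G ∉ R := fun h => (hR _ h).2.2.2.1 rfl
  have hRS : St ∉ R := fun h => (hR _ h).2.2.1 rfl
  have hins : one1 G ∉ insert St R := by
    rw [Finset.mem_insert]
    rintro (h | h)
    · exact hSt1 h.symm
    · exact hR1 h
  have hcR : ∑ χ ∈ R, c χ ^ 2 ≤ (w : ℤ) * m - 2 := by
    have h1 := sum_const_le hT hw hTc (by omega) (insert (one1 G) (insert St R)) c (by
      intro χ hχ
      rw [Finset.mem_insert, Finset.mem_insert] at hχ
      rcases hχ with rfl | rfl | hχ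
      · exact hc _ (by rw [one1_apply]; exact one_ne_zero)
      · exact hc _ hSty0
      · exact hc _ (Finset.mem_filter.1 hχ).2.2)
    rw [Finset.sum_insert hins, Finset.sum_insert hRS, hcSt, hc1] at h1
    linarith only [h1]
  have hdR : ∑ χ ∈ R, d χ ^ 2 ≤ (v : ℤ) * k - 2 := by
    have h1 := sum_const_le hS hv hSc (by omega) (insert (one1 G) (insert St R)) d (by
      intro χ hχ
      rw [Finset.mem_insert, Finset.mem_insert] at hχ
      rcases hχ with rfl | rfl | hχ
      · exact hd _ (by rw [one1_apply]; exact one_ne_zero)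
      · exact hd _ hStx0
      · exact hd _ (Finset.mem_filter.1 hχ).2.1)
    rw [Finset.sum_insert hins, Finset.sum_insert hRS, hdSt, hd1] at h1
    linarith only [h1]
  -- the parity of the middle sum: orthogonality of the columns of `x` and `y`
  have hnc : ¬ IsConj x y := by
    intro h1
    obtain ⟨z, hz⟩ := isConj_iff.1 h1
    exact hdis x (hT.le hx) (pow_ne hT hx hx1) y (hS.le hy) (pow_ne hS hy hy1) z⁻¹ (by rw [← hz]; group)
  have hpar : Even (∑ χ ∈ R, c χ * d χ) := by
    have h1 := H686.CharKit.col_orth x y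
    rw [if_neg hnc] at h1
    have h2 : ∑ χ : IrrCharacter G, (χ : G → ℂ) x * conj ((χ : G → ℂ) y) =
        ∑ χ ∈ insert (one1 G) (insert St R), ((c χ * d χ : ℤ) : ℂ) := by
      rw [← Finset.sum_subset (Finset.subset_univ (insert (one1 G) (insert St R)))]
      · refine Finset.sum_congr rfl fun χ hχ => ?_
        rw [Finset.mem_insert, Finset.mem_insert] at hχ
        have h3 : (χ : G → ℂ) x = c χ ∧ (χ : G → ℂ) y = d χ := by
          rcases hχ with rfl | rfl | hχ
          · exact ⟨hc _ (by rw [one1_apply]; exact one_ne_zero) x hx hx1,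
              hd _ (by rw [one1_apply]; exact one_ne_zero) y hy hy1⟩
          · exact ⟨hc _ hSty0 x hx hx1, hd _ hStx0 y hy hy1⟩
          · exact ⟨(hR _ hχ).1, (hR _ hχ).2.1⟩
        rw [h3.1, h3.2]
        push_cast
        rw [← Complex.ofReal_intCast (d χ), Complex.conj_ofReal]
      · intro χ _ hχ
        rw [Finset.mem_insert, Finset.mem_insert, not_or, not_or] at hχ
        have h3 : (χ : G → ℂ) x = 0 ∨ (χ : G → ℂ) y = 0 := by
          by_contra h4
          push Not at h4
          exact hχ.2.2 (Finset.mem_filter.2 ⟨mem_mid.2 ⟨hχ.2.1, hχ.1⟩, h4⟩)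
        rcases h3 with h3 | h3 <;> rw [h3] <;> simp
    rw [h1] at h2
    have h3 : (∑ χ ∈ insert (one1 G) (insert St R), c χ * d χ) = 0 := by exact_mod_cast h2.symm
    rw [Finset.sum_insert hins, Finset.sum_insert hRS, hc1, hd1] at h3
    rcases sq_one_cases hcSt with h4 | h4 <;> rcases sq_one_cases hdSt with h5 | h5 <;> rw [h4, h5] at h3
    · exact ⟨-1, by linarith only [h3]⟩
    · exact ⟨0, by linarith only [h3]⟩
    · exact ⟨0, by linarith only [h3]⟩
    · exact ⟨-1, by linarith only [h3]⟩
  have hcd : ∑ χ ∈ R, |c χ| * |d χ| ≤ N := by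
    have h1 := Finset.sum_mul_sq_le_sq_mul_sq R (fun χ => |c χ|) (fun χ => |d χ|)
    simp only [sq_abs] at h1
    have h2 : 0 ≤ ∑ χ ∈ R, c χ ^ 2 := Finset.sum_nonneg fun χ _ => sq_nonneg _
    have h3 : 0 ≤ ∑ χ ∈ R, d χ ^ 2 := Finset.sum_nonneg fun χ _ => sq_nonneg _
    have h4 : (∑ χ ∈ R, c χ ^ 2) * (∑ χ ∈ R, d χ ^ 2) ≤ ((w : ℤ) * m - 2) * ((v : ℤ) * k - 2) :=
      mul_le_mul hcR hdR h3 (h2.trans hcR)
    have h5 : (∑ χ ∈ R, |c χ| * |d χ|) ^ 2 < ((N : ℤ) + 2) ^ 2 := (h1.trans h4).trans_lt hN
    have h6 := abs_lt_of_sq_lt_sq h5 (by (clear * -; positivity))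
    have h7 := le_abs_self (∑ χ ∈ R, |c χ| * |d χ|)
    obtain ⟨a, ha⟩ := sum_abs_even R c d hpar
    obtain ⟨b, hb⟩ := hNe
    omega
  -- the sum
  rw [sum_mid hSt1, hStg] at h0
  simp only [one1_apply, map_one, map_zero, zero_div, mul_zero, zero_add, mul_one, div_one] at h0
  have h1 : ∑ χ ∈ mid G St, (χ : G → ℂ) x * (χ : G → ℂ) y * conj ((χ : G → ℂ) g) / (χ : G → ℂ) 1 =
      ∑ χ ∈ R, (χ : G → ℂ) x * (χ : G → ℂ) y * conj ((χ : G → ℂ) g) / (χ : G → ℂ) 1 := by
    refine (Finset.sum_subset (Finset.filter_subset _ _) fun χ h1 h2 => ?_).symm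
    have h3 : (χ : G → ℂ) x = 0 ∨ (χ : G → ℂ) y = 0 := by
      by_contra h4
      push Not at h4
      exact h2 (Finset.mem_filter.2 ⟨h1, h4⟩)
    rcases h3 with h3 | h3 <;> rw [h3] <;> simp
  rw [h1] at h0
  have h2 : (1 : ℝ) ≤ ∑ χ ∈ R, ((|c χ| * |d χ| : ℤ) : ℝ) * (‖(χ : G → ℂ) g‖ / ‖(χ : G → ℂ) 1‖) := by
    have h3 : ∑ χ ∈ R, (χ : G → ℂ) x * (χ : G → ℂ) y * conj ((χ : G → ℂ) g) / (χ : G → ℂ) 1 = -1 := by
      linear_combination h0
    have h4 := norm_sum_le R fun χ => (χ : G → ℂ) x * (χ : G → ℂ) y * conj ((χ : G → ℂ) g) / (χ : G → ℂ) 1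
    rw [h3, norm_neg, norm_one] at h4
    refine h4.trans (le_of_eq (Finset.sum_congr rfl fun χ hχ => ?_))
    obtain ⟨h5, h6, -⟩ := hR χ hχ
    rw [norm_div, norm_mul, norm_mul, Complex.norm_conj, h5, h6, Complex.norm_intCast, Complex.norm_intCast]
    push_cast
    ring
  rcases R.eq_empty_or_nonempty with hRe | ⟨χ₀, hχ₀⟩
  · rw [hRe, Finset.sum_empty] at h2
    linarith only [h2]
  · have hN0 : 0 < (N : ℝ) := by
      have h3 : |c χ₀| * |d χ₀| ≤ ∑ χ ∈ R, |c χ| * |d χ| :=
        Finset.single_le_sum (f := fun χ => |c χ| * |d χ|) (fun χ _ => by (clear * -; positivity)) hχ₀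
      obtain ⟨-, -, -, -, h4, h5⟩ := hR χ₀ hχ₀
      have h6 : 0 < |c χ₀| * |d χ₀| := by (clear * - h4 h5; positivity)
      have h7 : (0 : ℤ) < N := by linarith only [hcd, h3, h6]
      exact_mod_cast h7
    have h3 : ∑ χ ∈ R, ((|c χ| * |d χ| : ℤ) : ℝ) * (‖(χ : G → ℂ) g‖ / ‖(χ : G → ℂ) 1‖) <
        ∑ χ ∈ R, ((|c χ| * |d χ| : ℤ) : ℝ) * (1 / N) := by
      refine Finset.sum_lt_sum_of_nonempty ⟨χ₀, hχ₀⟩ fun χ hχ => ?_
      obtain ⟨-, -, h4, h5, h6, h7⟩ := hR χ hχ
      have h8 : (0 : ℝ) < ((|c χ| * |d χ| : ℤ) : ℝ) := by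
        have : 0 < |c χ| * |d χ| := by (clear * - h6 h7; positivity)
        exact_mod_cast this
      refine mul_lt_mul_of_pos_left ?_ h8
      rw [div_lt_div_iff₀ (norm_one_pos χ) hN0]
      have := hrat χ h5 h4
      linarith only [this]
    rw [← Finset.sum_mul] at h3
    have h4 : (∑ χ ∈ R, ((|c χ| * |d χ| : ℤ) : ℝ)) ≤ N := by exact_mod_cast hcd
    have h5 : (∑ χ ∈ R, ((|c χ| * |d χ| : ℤ) : ℝ)) * (1 / N) ≤ N * (1 / N) :=
      mul_le_mul_of_nonneg_right h4 (by (clear * -; positivity))
    have h6 : (N : ℝ) * (1 / N) = 1 := by field_simp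
    linarith only [h2, h3, h5, h6]

end Cfsg.Agent.H628.FR
end

-- part: H641/TC6/FTor
section
/-!
# S2464, `F₄(q)`: the tori of order `q⁴ - q² + 1` and `q⁴ + 1` (helper641)

* `TorD.comm_mem` : commutators of `N(A)` lie in `T`;
* `TorD.comm_memA` : commutators of `N(A)` lie in `A` if `m = 2 n`, `n` odd;
* `tor12_F4`, `tor8_F4`.
-/

set_option autoImplicit false

namespace Cfsg.Agent.H641.TC6

open Subgroup Cfsg Cfsg.Lie Cfsg.Agent.H56.Exc Cfsg.Agent.H946.Num Cfsg.Agent.H983.KG2
open Cfsg.Agent.H436 (Prim exists_prim)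

universe u

namespace TorD

variable {G : Type*} [Group G] [Finite G] {m n w : ℕ} {A T : Subgroup G}

theorem relIndex (h : TorD G m n w A T) : T.relIndex (normalizer (T : Set G)) = w := by
  have h1 : Nat.card ↥T * T.relIndex (normalizer (T : Set G)) = Nat.card ↥(normalizer (T : Set G)) := by
    rw [← Subgroup.card_mul_index (T.subgroupOf (normalizer (T : Set G))),
      Nat.card_congr (Subgroup.subgroupOfEquivOfLe (le_normalizer (H := T))).toEquiv]
    rfl
  rw [h.cardT, ← h.normA, h.cardN, mul_comm w m] at h1
  have hm : 0 < m := h.cardT ▸ Nat.card_pos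
  rw [← h.normA]
  exact Nat.eq_of_mul_eq_mul_left hm h1

theorem conj_memT (h : TorD G m n w A T) {x t : G} (hx : x ∈ normalizer (A : Set G)) (ht : t ∈ T) :
    x * t * x⁻¹ ∈ T := by
  rw [h.normA] at hx
  exact conj_mem hx ht

/-- an element of prime order `r` of `A` and the action on it -/
theorem exists_hom (h : TorD G m n w A T) {r : ℕ} (hr : r.Prime) (hrn : r ∣ n) :
    ∃ (C : Type) (_ : Group C) (_ : IsCyclic C) (f : ↥(normalizer (A : Set G)) →* C),
      ∀ x, f x = 1 ↔ (x : G) ∈ T := by
  have hfact : Fact r.Prime := ⟨hr⟩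
  obtain ⟨z', hz'⟩ := exists_prime_orderOf_dvd_card' (G := ↥A) r (by rw [h.cardA]; exact hrn)
  obtain ⟨z, hzA, hz⟩ : ∃ z ∈ A, orderOf z = r := ⟨z', z'.2, by rw [Subgroup.orderOf_coe, hz']⟩
  have hz1 : z ≠ 1 := by
    rintro rfl
    rw [orderOf_one] at hz
    exact hr.one_lt.ne hz
  have hmem : ∀ x ∈ normalizer (A : Set G), x ∈ normalizer (zpowers z : Set G) := by
    intro x hx
    apply mem_norm
    rintro _ ⟨j, rfl⟩
    show x * z ^ j * x⁻¹ ∈ _
    rw [← conj_zpow]
    apply zpow_mem
    exact mem_zpowers_of_cyclic h.cycT (h.le hzA) (h.le (conj_mem hx hzA)) (by rw [orderOf_conj])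
  let φ : ↥(normalizer (A : Set G)) →* MulAut ↥(zpowers z) :=
    (zpowers z).normalizerMonoidHom.comp (Subgroup.inclusion hmem)
  have hφ1 : ∀ y : ↥(normalizer (A : Set G)), φ y = 1 ↔ (y : G) ∈ T := by
    intro y
    rw [← h.cent z hzA hz1]
    constructor
    · intro h1
      have h2 : (φ y) ⟨z, mem_zpowers z⟩ = ⟨z, mem_zpowers z⟩ := by rw [h1]; rfl
      have h3 : (y : G) * z * (y : G)⁻¹ = z := congrArg Subtype.val h2
      rw [mem_centralizer_singleton_iff]
      rwa [mul_inv_eq_iff_eq_mul] at h3
    · intro h1
      rw [mem_centralizer_singleton_iff] at h1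
      ext ⟨a, ha⟩
      obtain ⟨k, rfl⟩ := ha
      show (y : G) * (z ^ k) * (y : G)⁻¹ = z ^ k
      have h2 : Commute (y : G) z := h1
      rw [(h2.zpow_right k).eq, mul_inv_cancel_right]
  have hcard : Nat.card ↥(zpowers z) = r := by rw [Nat.card_zpowers, hz]
  have h1 := IsCyclic.mulAutMulEquiv ↥(zpowers z)
  rw [hcard] at h1
  have hcyc := ZMod.isCyclic_units_prime hr
  refine ⟨(ZMod r)ˣ, inferInstance, hcyc, h1.toMonoidHom.comp φ, fun x => ?_⟩
  rw [← hφ1 x]
  show h1 (φ x) = 1 ↔ _
  rw [MulEquiv.map_eq_one_iff]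

theorem comm_mem (h : TorD G m n w A T) {r : ℕ} (hr : r.Prime) (hrn : r ∣ n) {x y : G}
    (hx : x ∈ normalizer (A : Set G)) (hy : y ∈ normalizer (A : Set G)) : x * y * x⁻¹ * y⁻¹ ∈ T := by
  obtain ⟨C, hC1, hC2, f, hf⟩ := h.exists_hom hr hrn
  have hcomm : ∀ a b : C, a * b = b * a := fun a b => (IsCyclic.commGroup (α := C)).mul_comm a b
  have h1 : f (⟨x, hx⟩ * ⟨y, hy⟩ * ⟨x, hx⟩⁻¹ * ⟨y, hy⟩⁻¹) = 1 := by
    simp only [map_mul, map_inv]
    rw [hcomm (f ⟨x, hx⟩) (f ⟨y, hy⟩)]
    group
  exact (hf _).1 h1

/-- the involution of `T` is central in `N(T)` -/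
theorem pow_comm (h : TorD G m n w A T) {t y : G} (ht : t ∈ T)
    (hy : y ∈ normalizer (A : Set G)) (ht2 : t ^ 2 = 1) : y * t * y⁻¹ = t := by
  by_cases ht1 : t = 1
  · rw [ht1]; group
  have ho : orderOf t = 2 := orderOf_eq_prime ht2 ht1
  have h1 : y * t * y⁻¹ ∈ zpowers t :=
    mem_zpowers_of_cyclic h.cycT ht (h.conj_memT hy ht) (by rw [orderOf_conj])
  rw [mem_zpowers_iff] at h1
  obtain ⟨k, hk⟩ := h1
  rcases Int.even_or_odd' k with ⟨j, rfl | rfl⟩
  · exfalso
    rw [zpow_mul] at hk
    have h2 : t ^ (2 : ℤ) = 1 := by exact_mod_cast ht2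
    rw [h2, one_zpow] at hk
    apply ht1
    have h3 := congrArg (fun z => y⁻¹ * z * y) hk
    simpa [mul_assoc] using h3.symm
  · rw [zpow_add, zpow_mul, zpow_one] at hk
    have h2 : t ^ (2 : ℤ) = 1 := by exact_mod_cast ht2
    rw [h2, one_zpow, one_mul] at hk
    exact hk.symm

theorem comm_memT (h : TorD G m n w A T) (hm : m = 2 * n) {t y : G} (ht : t ∈ T)
    (hy : y ∈ normalizer (A : Set G)) : t * y * t⁻¹ * y⁻¹ ∈ A := by
  have h1 : y * t * y⁻¹ ∈ T := h.conj_memT hy ht
  have e1 : t * y * t⁻¹ * y⁻¹ = t * (y * t * y⁻¹)⁻¹ := by group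
  rw [e1]
  refine h.mem (mul_mem ht (inv_mem h1)) ?_
  apply orderOf_dvd_of_pow_eq_one
  have hc : Commute t (y * t * y⁻¹)⁻¹ := (show Commute t (y * t * y⁻¹) from comm_of_cyc h.cycT ht h1).inv_right
  rw [hc.mul_pow, inv_pow]
  have h2 : (y * t * y⁻¹) ^ n = y * t ^ n * y⁻¹ := by
    rw [conj_pow]
  have h3 : y * t ^ n * y⁻¹ = t ^ n := by
    refine h.pow_comm (pow_mem ht n) hy ?_
    rw [← pow_mul, mul_comm n 2, ← hm, ← h.cardT]
    have := Subgroup.orderOf_dvd_natCard T ht
    exact orderOf_dvd_iff_pow_eq_one.1 this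
  rw [h2, h3, mul_inv_cancel]

theorem comm_memA (h : TorD G m n w A T) (hm : m = 2 * n) {r : ℕ} (hr : r.Prime) (hrn : r ∣ n) {x y : G}
    (hx : x ∈ normalizer (A : Set G)) (hy : y ∈ normalizer (A : Set G)) : x * y * x⁻¹ * y⁻¹ ∈ A := by
  obtain ⟨C, hC1, hC2, f, hf⟩ := h.exists_hom hr hrn
  obtain ⟨N, hN⟩ : ∃ N, N = normalizer (A : Set G) := ⟨_, rfl⟩
  have hAN : A ≤ normalizer (A : Set G) := le_normalizer
  have hnor : (A.subgroupOf (normalizer (A : Set G))).Normal := inferInstance
  let g : ↥(normalizer (A : Set G)) ⧸ (A.subgroupOf (normalizer (A : Set G))) →* C :=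
    QuotientGroup.lift _ f (fun a ha => (hf a).2 (h.le ha))
  have hker : g.ker ≤ center _ := by
    intro a ha
    obtain ⟨a, rfl⟩ := QuotientGroup.mk'_surjective _ a
    rw [mem_center_iff]
    intro b
    obtain ⟨b, rfl⟩ := QuotientGroup.mk'_surjective _ b
    have h1 : f a = 1 := ha
    have h2 : (a : G) ∈ T := (hf a).1 h1
    have h3 := h.comm_memT hm h2 b.2
    rw [← map_mul, ← map_mul]
    symm
    rw [← mul_inv_eq_one, ← map_inv, ← map_mul]
    rw [QuotientGroup.mk'_apply, QuotientGroup.eq_one_iff, mem_subgroupOf]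
    have e1 : ((a * b * (b * a)⁻¹ : ↥(normalizer (A : Set G))) : G) = (a : G) * b * (a : G)⁻¹ * (b : G)⁻¹ := by
      push_cast
      group
    rw [e1]
    exact h3
  have hcomm := (g.isMulCommutative_of_isCyclic_of_ker_le_center hker).is_comm.comm
    (QuotientGroup.mk' _ ⟨x, hx⟩) (QuotientGroup.mk' _ ⟨y, hy⟩)
  rw [← map_mul, ← map_mul, ← mul_inv_eq_one, ← map_inv, ← map_mul,
    QuotientGroup.mk'_apply, QuotientGroup.eq_one_iff, mem_subgroupOf] at hcomm
  have e1 : (((⟨x, hx⟩ : ↥(normalizer (A : Set G))) * ⟨y, hy⟩ * (⟨y, hy⟩ * ⟨x, hx⟩)⁻¹ :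
      ↥(normalizer (A : Set G))) : G) = x * y * x⁻¹ * y⁻¹ := by
    push_cast
    group
  rw [e1] at hcomm
  exact hcomm

end TorD

variable {F : Type u} [Field F] [Fintype F] {q : ℕ}

/-- **The torus of order `q⁴ - q² + 1` of `F₄(q)`.** -/
theorem tor12_F4 (hq : Fintype.card F = q) (h2 : 2 ≤ q) : ∃ T : Subgroup ↥(chevF4.group F),
    TorD ↥(chevF4.group F) (N12 q) (N12 q) 12 T T ∧ IsCyclic ↥T ∧ Nat.card ↥T = q ^ 4 - q ^ 2 + 1 ∧
    (∀ a ∈ T, ∀ b ∈ T, a * b = b * a) ∧ (∀ t ∈ T, t ≠ 1 → centralizer {t} = T) ∧
    Nat.card ↥(normalizer (T : Set ↥(chevF4.group F))) = 12 * (q ^ 4 - q ^ 2 + 1) ∧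
    T.relIndex (normalizer (T : Set ↥(chevF4.group F))) = 12 ∧
    ∀ x ∈ normalizer (T : Set ↥(chevF4.group F)), ∀ y ∈ normalizer (T : Set ↥(chevF4.group F)),
      x * y * x⁻¹ * y⁻¹ ∈ T := by
  obtain ⟨r, hr⟩ := exists_prim (q := q) (e := 12) (by omega) (by norm_num) (by omega)
  have hm : ((N12 q : ℕ) : ℤ) = 1 - (q : ℤ) ^ 2 + (q : ℤ) ^ 4 := by
    rw [cast_N12]; ring
  have h7 : 12 < r := Cfsg.Agent.H56.Exc.prim_lt hr (by norm_num)
  have hrn : r ∣ N12 q := by
    have h3 := prim_dvd_12 hr
    rw [← hm] at h3
    exact_mod_cast h3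
  obtain ⟨T, h1, h2', h3', h4, h5⟩ := Cfsg.Agent.H129.CycCard.card_F4_12 hq hm hr.prime (prim_dvd_12 hr)
  have hT : Nat.card ↥T = N12 q := Nat.dvd_antisymm h2' (by rwa [one_mul] at h3')
  obtain ⟨A, hA⟩ := exists_torD (G := ↥(chevF4.group F)) (w := 12) h1 hT dvd_rfl
    (fun s hs hsn => ⟨12, big_F4_12 hq hm (Cfsg.Agent.H983.KG2.prim_of_order hs (by omega) (by norm_num) (od_N12 hs hsn))⟩)
    hr.prime hrn
    (K := (q : ℤ) ^ 24 * ((q : ℤ) ^ 2 - 1) * ((q : ℤ) ^ 6 - 1) * ((q : ℤ) ^ 8 - 1) * ((q : ℤ) ^ 6 - 1) * ((q : ℤ) ^ 2 + 1))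
    (by rw [ord_F4 hq, hm]; ring) (by push_cast; exact Kap.kap_F4_12 _ (prim_phi_12 hr)) h7
  have hAT : A = T := by
    apply Subgroup.eq_of_le_of_card_ge hA.le
    rw [hA.cardA, hA.cardT]
  subst hAT
  refine ⟨A, hA, h1, hT, fun a ha b hb => comm_of_cyc h1 ha hb, hA.cent, hA.cardN, hA.relIndex,
    fun x hx y hy => hA.comm_mem hr.prime hrn hx hy⟩

theorem two_mul_half {q : ℕ} (ho : Odd q) : q ^ 4 + 1 = 2 * ((q ^ 4 + 1) / 2) := by
  have : Even (q ^ 4 + 1) := (ho.pow).add_odd odd_one
  exact (Nat.two_mul_div_two_of_even this).symm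

theorem odd_half {q : ℕ} (ho : Odd q) : ¬ 2 ∣ (q ^ 4 + 1) / 2 := by
  obtain ⟨k, rfl⟩ := ho
  intro h
  have h1 : 4 ∣ (2 * k + 1) ^ 4 + 1 := by
    rw [two_mul_half ⟨k, rfl⟩]
    exact Nat.mul_dvd_mul_left 2 h
  have e : (2 * k + 1) ^ 4 + 1 = 4 * (4 * k ^ 4 + 8 * k ^ 3 + 6 * k ^ 2 + 2 * k) + 2 := by ring
  rw [e] at h1
  omega

/-- **The torus of order `q⁴ + 1` of `F₄(q)`, `q` odd.** -/
theorem tor8_F4 (hq : Fintype.card F = q) (ho : Odd q) (h2 : 3 ≤ q) : ∃ A T : Subgroup ↥(chevF4.group F),
    TorD ↥(chevF4.group F) (q ^ 4 + 1) ((q ^ 4 + 1) / 2) 8 A T ∧ A ≤ T ∧ IsCyclic ↥T ∧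
    Nat.card ↥T = q ^ 4 + 1 ∧ Nat.card ↥A = (q ^ 4 + 1) / 2 ∧
    (∀ a ∈ T, ∀ b ∈ T, a * b = b * a) ∧ (∀ t ∈ A, t ≠ 1 → centralizer {t} = T) ∧
    normalizer (A : Set ↥(chevF4.group F)) = normalizer (T : Set ↥(chevF4.group F)) ∧
    Nat.card ↥(normalizer (T : Set ↥(chevF4.group F))) = 8 * (q ^ 4 + 1) ∧
    T.relIndex (normalizer (T : Set ↥(chevF4.group F))) = 8 ∧
    (∀ x ∈ normalizer (T : Set ↥(chevF4.group F)), ∀ y ∈ normalizer (T : Set ↥(chevF4.group F)),
      x * y * x⁻¹ * y⁻¹ ∈ A) ∧
    (∀ t ∈ T, t ^ 2 = 1 → ∀ y ∈ normalizer (T : Set ↥(chevF4.group F)), y * t * y⁻¹ = t) := by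
  obtain ⟨r, hr⟩ := exists_prim (q := q) (e := 8) (by omega) (by norm_num) (by omega)
  have hm : ((N8 q : ℕ) : ℤ) = 1 + (q : ℤ) ^ 4 := by
    unfold N8; push_cast; ring
  have h7 : 8 < r := Cfsg.Agent.H56.Exc.prim_lt hr (by norm_num)
  have hn2 : N8 q = 2 * ((q ^ 4 + 1) / 2) := two_mul_half ho
  have hrN : r ∣ N8 q := by
    have h3 := prim_dvd_8 hr
    rw [← hm] at h3
    exact_mod_cast h3
  have hrn : r ∣ (q ^ 4 + 1) / 2 := by
    rw [hn2] at hrN
    refine (hr.prime.dvd_mul.1 hrN).resolve_left fun h => ?_
    have := Nat.le_of_dvd (by norm_num) h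
    omega
  obtain ⟨T, h1, h2', h3', h4, h5⟩ := Cfsg.Agent.H129.CycCard.card_F4_8 hq hm hr.prime (prim_dvd_8 hr) (by omega)
  have hT : Nat.card ↥T = N8 q := Nat.dvd_antisymm h2' (by rwa [one_mul] at h3')
  obtain ⟨A, hA⟩ := exists_torD (G := ↥(chevF4.group F)) (w := 8) (n := (q ^ 4 + 1) / 2) h1 hT
    (by rw [hn2]; exact dvd_mul_left _ _)
    (fun s hs hsn => ⟨8, big_F4_8 hq hm (Cfsg.Agent.H983.KG2.prim_of_order hs (by omega) (by norm_num)
      (od_N8 hs (hsn.trans (by rw [hn2]; exact dvd_mul_left _ _)) (by
        rintro rfl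
        exact odd_half ho hsn)))⟩)
    hr.prime hrn
    (K := (q : ℤ) ^ 24 * ((q : ℤ) ^ 2 - 1) * ((q : ℤ) ^ 6 - 1) * ((q : ℤ) ^ 4 - 1) * ((q : ℤ) ^ 12 - 1))
    (by rw [ord_F4 hq, hm]; ring) (by push_cast; exact Kap.kap_F4_8 _ (prim_phi_8 hr)) h7
  refine ⟨A, T, hA, hA.le, h1, hT, hA.cardA, fun a ha b hb => comm_of_cyc h1 ha hb, hA.cent, hA.normA, ?_,
    hA.relIndex, ?_, ?_⟩
  · rw [← hA.normA]; exact hA.cardN
  · rw [← hA.normA]
    exact fun x hx y hy => hA.comm_memA hn2 hr.prime hrn hx hy
  · rw [← hA.normA]
    exact fun t ht ht2 y hy => hA.pow_comm ht hy ht2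

end Cfsg.Agent.H641.TC6
end

-- part: H982/FR/Row
section
/-!
# S2452, `F₄(q)`, `q` odd: `Row3` from one ratio (helper982)
-/

set_option autoImplicit false
set_option linter.unusedSectionVars false
set_option linter.style.haveILetI false

open Cfsg Cfsg.Lie Subgroup

namespace Cfsg.Agent.H982.FR

open Cfsg.Agent.H65.Ore Cfsg.Agent.H221.TC Cfsg.Agent.H210.TC
open Cfsg.Agent.H641.TC6 (tor12_F4 tor8_F4 two_mul_half odd_half)

/-- the order of `F₄(q)`-torus elements: coprimality of the two orders -/
theorem coprime_nums (q : ℕ) : Nat.Coprime (q ^ 4 - q ^ 2 + 1) (q ^ 4 + 1) := by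
  have hle : q ^ 2 ≤ q ^ 4 := by
    rcases Nat.eq_zero_or_pos q with rfl | h
    · norm_num
    · exact Nat.pow_le_pow_right h (by norm_num)
  rw [← Nat.isCoprime_iff_coprime]
  push_cast [Nat.cast_sub hle]
  exact ⟨(q : ℤ) ^ 2, 1 - (q : ℤ) ^ 2, by ring⟩

theorem not_dvd_num12 {p q : ℕ} (hp : p.Prime) (hpq : p ∣ q) : ¬ p ∣ q ^ 4 - q ^ 2 + 1 := by
  intro h
  have h1 : p ∣ q ^ 4 - q ^ 2 := Nat.dvd_sub (dvd_pow hpq (by norm_num)) (dvd_pow hpq (by norm_num))
  exact hp.one_lt.ne' (Nat.dvd_one.1 ((Nat.dvd_add_right h1).1 h))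

theorem not_dvd_num8 {p q : ℕ} (hp : p.Prime) (hpq : p ∣ q) : ¬ p ∣ q ^ 4 + 1 := by
  intro h
  exact hp.one_lt.ne' (Nat.dvd_one.1 ((Nat.dvd_add_right (dvd_pow hpq (by norm_num))).1 h))

theorem coprime6_12 (q : ℕ) : Nat.Coprime (q ^ 4 - q ^ 2 + 1) 6 := by
  have hle : q ^ 2 ≤ q ^ 4 := by
    rcases Nat.eq_zero_or_pos q with rfl | h
    · norm_num
    · exact Nat.pow_le_pow_right h (by norm_num)
  have h1 : ((q ^ 4 - q ^ 2 + 1 : ℕ) : ZMod 6) = (q : ZMod 6) ^ 4 - (q : ZMod 6) ^ 2 + 1 := by
    push_cast [Nat.cast_sub hle]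
    ring
  rw [← ZMod.isUnit_iff_coprime, h1]
  generalize (q : ZMod 6) = x
  revert x
  decide

theorem coprime3_8 (q : ℕ) : ¬ 3 ∣ q ^ 4 + 1 := by
  rw [← ZMod.natCast_eq_zero_iff]
  push_cast
  generalize (q : ZMod 3) = x
  revert x
  decide

/-- **The row, from the ratio `1 / 10`** (parity: `H628.FR.prd_of_ratio_even`). -/
theorem row3_of_ratio {K : Type} [Field K] [Fintype K] {p : ℕ} (hp : p.Prime) [CharP K p] (hp2 : p ≠ 2)
    (hq : 5 ≤ Fintype.card K)
    (h : ∀ g : ↥(chevF4.group K), p ∣ orderOf g → ∀ χ : IrrCharacter ↥(chevF4.group K), χ ≠ one1 _ →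
      10 * ‖(χ : ↥(chevF4.group K) → ℂ) g‖ < ‖(χ : ↥(chevF4.group K) → ℂ) 1‖) :
    Row3 ↥(chevF4.group K) := by
  classical
  have : Fact p.Prime := ⟨hp⟩
  obtain ⟨q, hqc⟩ : ∃ q, Fintype.card K = q := ⟨_, rfl⟩
  rw [hqc] at hq
  obtain ⟨n, -, hn⟩ := FiniteField.card K p
  have hpq : p ∣ q := by
    rw [← hqc, hn]
    exact dvd_pow_self p n.pos.ne'
  have hodd : Odd q := by
    rw [← hqc, hn]
    exact (hp.odd_of_ne_two hp2).pow
  have hG : IsLieTypeChar p ↥(chevF4.group K) :=
    Or.inr (Or.inr (Or.inr (Or.inr (Or.inr (Or.inr (Or.inl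
      ⟨K, inferInstance, inferInstance, inferInstance, Or.inr (Or.inl ⟨MulEquiv.refl _⟩)⟩))))))
  obtain ⟨T, -, -, hTc, hTab, hTcent, -, hTrel, -⟩ := tor12_F4 (F := K) hqc (by omega)
  obtain ⟨B, S, -, hBS, -, hSc, hBc, hSab, hBcent, -, -, hSrel, -, -⟩ := tor8_F4 (F := K) hqc hodd (by omega)
  have hT : Tor T T 1 := tor_one hTab fun a ha h1 => (hTcent a ha h1).le
  have h28 := two_mul_half hodd
  have hSc2 : Nat.card S = 2 * Nat.card B := by rw [hSc, hBc]; exact h28
  have hS : Tor B S 2 := by
    refine ⟨hSab, hBS, fun a ha h1 => (hBcent a ha h1).le, fun t ht => ?_, ?_⟩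
    · have h1 : (B.subgroupOf S).index = 2 := by
        have h2 := Subgroup.card_mul_index (B.subgroupOf S)
        rw [Nat.card_congr (Subgroup.subgroupOfEquivOfLe hBS).toEquiv, hSc2, mul_comm 2] at h2
        exact Nat.eq_of_mul_eq_mul_left Nat.card_pos h2
      have h3 : (B.subgroupOf S).Normal := by
        refine ⟨fun a ha g => ?_⟩
        have h4 : g * a * g⁻¹ = a := by
          apply Subtype.ext
          have h5 := hSab g g.2 a a.2
          show (g : ↥(chevF4.group K)) * a * (g : ↥(chevF4.group K))⁻¹ = a
          rw [h5]; group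
        rwa [h4]
      have h4 := Subgroup.pow_index_mem (B.subgroupOf S) (⟨t, ht⟩ : S)
      rw [h1] at h4
      exact h4
    · rw [hBc]
      exact (Nat.prime_two.coprime_iff_not_dvd).2 (odd_half hodd)
  have hq2 : 25 ≤ q ^ 2 := by nlinarith only [hq]
  have hq4 : q ^ 4 = q ^ 2 * q ^ 2 := by ring
  have hTbig : 205 < Nat.card T := by
    rw [hTc]
    have : 25 * q ^ 2 ≤ q ^ 4 := by rw [hq4]; exact Nat.mul_le_mul_right _ hq2
    (clear * - hq2 this; omega)
  have hBbig : 105 < Nat.card B := by
    rw [hBc]
    have : 25 * q ^ 2 ≤ q ^ 4 := by rw [hq4]; exact Nat.mul_le_mul_right _ hq2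
    omega
  have hdis : ∀ t ∈ T, t ^ 1 ≠ 1 → ∀ s ∈ S, s ^ 2 ≠ 1 → ∀ z : ↥(chevF4.group K), t ≠ z * s * z⁻¹ := by
    intro t ht ht1 s hs _ z hz
    apply ht1
    rw [pow_one, ← orderOf_eq_one_iff]
    have h1 : orderOf t ∣ q ^ 4 - q ^ 2 + 1 := by
      rw [← hTc, ← Subgroup.orderOf_mk t ht]
      exact orderOf_dvd_natCard _
    have h2 : orderOf s ∣ q ^ 4 + 1 := by
      rw [← hSc, ← Subgroup.orderOf_mk s hs]
      exact orderOf_dvd_natCard _
    have h3 : orderOf t = orderOf s := by
      rw [hz]
      exact MulEquiv.orderOf_eq (MulAut.conj z) s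
    rw [← h3] at h2
    exact Nat.eq_one_of_dvd_coprimes (coprime_nums q) h1 h2
  -- the elements
  obtain ⟨r₁, hr₁, hr₁d⟩ := Nat.exists_prime_and_dvd (n := Nat.card T) (by omega)
  obtain ⟨r₂, hr₂, hr₂d⟩ := Nat.exists_prime_and_dvd (n := Nat.card B) (by omega)
  have : Fact r₁.Prime := ⟨hr₁⟩
  have : Fact r₂.Prime := ⟨hr₂⟩
  obtain ⟨x, hx⟩ := exists_prime_orderOf_dvd_card' (G := T) r₁ hr₁d
  obtain ⟨y, hy⟩ := exists_prime_orderOf_dvd_card' (G := B) r₂ hr₂d
  have hxo : orderOf (x : ↥(chevF4.group K)) = r₁ := by rw [Subgroup.orderOf_coe, hx]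
  have hyo : orderOf (y : ↥(chevF4.group K)) = r₂ := by rw [Subgroup.orderOf_coe, hy]
  have hx1 : (x : ↥(chevF4.group K)) ≠ 1 := by
    intro h1
    rw [h1, orderOf_one] at hxo
    exact hr₁.one_lt.ne hxo
  have hy1 : (y : ↥(chevF4.group K)) ≠ 1 := by
    intro h1
    rw [h1, orderOf_one] at hyo
    exact hr₂.one_lt.ne hyo
  have hpT : ¬ p ∣ Nat.card T := by rw [hTc]; exact not_dvd_num12 hp hpq
  have hpS : ¬ p ∣ Nat.card S := by rw [hSc]; exact not_dvd_num8 hp hpq
  have hpB : ¬ p ∣ Nat.card B := fun hd => hpS (hd.trans (by rw [hSc2]; exact dvd_mul_left _ _))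
  have hxC : Nat.card ↥(centralizer ({(x : ↥(chevF4.group K))} : Set ↥(chevF4.group K))) = Nat.card T := by
    rw [hTcent x x.2 hx1]
  have hyC : Nat.card ↥(centralizer ({(y : ↥(chevF4.group K))} : Set ↥(chevF4.group K))) = Nat.card S := by
    rw [hBcent y y.2 hy1]
  have hxp : ¬ p ∣ orderOf (x : ↥(chevF4.group K)) := fun hd => hpT (hd.trans (by rw [hxo]; exact hr₁d))
  have hyp : ¬ p ∣ orderOf (y : ↥(chevF4.group K)) := fun hd => hpB (hd.trans (by rw [hyo]; exact hr₂d))
  have hr₁6 : Nat.Coprime r₁ 6 := by
    refine Nat.Coprime.coprime_dvd_left hr₁d ?_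
    rw [hTc]
    exact coprime6_12 q
  have hr₂6 : Nat.Coprime r₂ 6 := by
    have h1 : ¬ r₂ ∣ 6 := by
      intro hd
      have h2 : r₂ ∣ 2 * 3 := hd
      rcases (hr₂.dvd_mul).1 h2 with h3 | h3
      · rw [(Nat.prime_dvd_prime_iff_eq hr₂ Nat.prime_two).1 h3] at hr₂d
        rw [hBc] at hr₂d
        exact odd_half hodd hr₂d
      · rw [(Nat.prime_dvd_prime_iff_eq hr₂ Nat.prime_three).1 h3] at hr₂d
        refine coprime3_8 q (hr₂d.trans ?_)
        rw [hBc]
        exact ⟨2, by rw [mul_comm]; exact h28⟩
    exact (hr₂.coprime_iff_not_dvd).2 h1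
  obtain ⟨st, -, hstv, hst0, -, -⟩ := H727.TC.exists_st hp hG
  have hnorm : ∀ z : ↥(chevF4.group K), ¬ p ∣ orderOf z →
      ¬ p ∣ Nat.card ↥(centralizer ({z} : Set ↥(chevF4.group K))) → ‖(st : ↥(chevF4.group K) → ℂ) z‖ = 1 := by
    intro z hz hz'
    have h1 : (Nat.card ↥(centralizer ({z} : Set ↥(chevF4.group K)))).factorization p = 0 :=
      Nat.factorization_eq_zero_of_not_dvd hz'
    rcases hstv z hz with h2 | h2 <;> rw [h2, h1] <;> simp
  have hall : ∀ g : ↥(chevF4.group K), g ≠ 1 → ∃ u v : ↥(chevF4.group K), g = (u * x * u⁻¹) * (v * y * v⁻¹) := by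
    intro g hg
    by_cases hgp : p ∣ orderOf g
    · have hst1 : st ≠ one1 ↥(chevF4.group K) := by
        intro h1
        have h2 := hst0 g hgp
        rw [h1, one1_apply] at h2
        exact one_ne_zero h2
      exact H628.FR.prd_of_ratio_even (w := 12) (v := 8) hT hS hTrel hSrel (by rw [one_mul]) hSc2
        (by omega) (by omega) (by omega) (by omega) hdis x.2 hx1 y.2 hy1 hst1
        (hnorm x hxp (by rw [hxC]; exact hpT)) (hnorm y hyp (by rw [hyC]; exact hpS)) (hst0 g hgp) (N := 10)
        (by decide) (by norm_num) (fun χ h1 _ => by exact_mod_cast h g hgp χ h1)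
    · obtain ⟨u, v, e⟩ := H330.Gow.gow hp hG (by rw [hxC]; exact hpT) (by rw [hyC]; exact hpS) hg hgp
      exact ⟨u, v, e.symm⟩
  exact ⟨x, y, by rw [hxo]; exact hr₁, by rw [hxo]; exact hr₁6, by rw [hyo]; exact hr₂, by rw [hyo]; exact hr₂6, hall,
    H727.TC.cube_of_gow hp hG (by rw [hxC]; exact hpT) hx1 hyp hy1 hall⟩

end Cfsg.Agent.H982.FR
end

private theorem dce_7595aa1518fd : _root_.True := by
  try have : _root_.True := by simp only [_root_.Cfsg.Agent.H572.FR.ss.eq_1]
  try have : _root_.True := by simp only [_root_.Cfsg.Agent.H296.FR.cJ.eq_1]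
  try have : _root_.True := by simp only [_root_.Cfsg.Agent.H296.FR.rr.eq_1]
  try have : _root_.True := by simp only [_root_.Cfsg.Agent.H296.FR.ss.eq_1]
  try have : _root_.True := by simp only [_root_.Cfsg.Agent.H296.FR.xr.eq_1]
  try have : _root_.True := by simp only [_root_.Cfsg.Agent.H296.FR.sw.eq_1]
  try have : _root_.True := by simp only [_root_.Cfsg.Agent.H296.FR.cI.eq_1]
  exact _root_.True.intro
end

-- part: H572/FR/Fin
section
prune_inst 0x4043020004b00000000000002000044100e0000920064000140020b440688e160000021208820001210080a0000050020021000b000000000008404000000010008801004a1080011000006000008410000300800000000000000000000000004010000000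
set_option linter.all false
open scoped Cfsg.Agent.FastGrp

-- part: H744/FR/Par
section
/-!
# `F₄(q)`: the `p`-singular elements are in maximal parabolic subgroups (S2452, box (0))

* `exists_par_full` : a conjugate of `g` is `u s`, `1 ≠ u ∈ V_J` of order a power of `p`, `s` of order prime to `p`,
  `C(u) ≤ P_J`;
* `exists_par` : a conjugate of `g` is in one of the four maximal parabolic subgroups.
-/

set_option autoImplicit false
set_option linter.unusedSectionVars false

namespace Cfsg.Agent.H744.FR

open Subgroup CoxeterSystem Cfsg.Agent.ChevalleyStructure.CoxeterGeom Cfsg.Agent.Tits.Core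
  Cfsg.Agent.Tits.Exchange Cfsg.Agent.Nodes.Reps Cfsg.Agent.Nodes.BNOf Cfsg.Agent.Nodes.StabComb
  Cfsg.Agent.Nodes.Bruhat Cfsg.Agent.Nodes.OppDec Cfsg.Agent.Nodes.LeviDec Cfsg.Agent.Nodes.NormX
  Cfsg.Agent.Nodes.Coroot Cfsg.Agent.Nodes.RGDChev Cfsg.Agent.KFacts.RgdPar Cfsg.Agent.KFacts.RgdTI
  Cfsg.Agent.KFacts.RgdCent Cfsg.Agent.KFacts.RgdChevCoord Cfsg.Agent.Nodes.ChevCls
  Cfsg.Agent.OddHalf.NI.ModelChev Cfsg.Agent.H225.PPow
open Cfsg.Lie Cfsg.Agent.ChevalleyStructure Cfsg.Agent.ChevalleyStructure.Elts
  Cfsg.Agent.ChevalleyStructure.RootVec Cfsg.Agent.ChevalleyStructure.NPerm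
  Cfsg.Agent.ChevalleyStructure.CoxeterGeomTypes
open Cfsg.Agent.H701.F43.Cent (hF cF nroots finW)
open Cfsg.Agent.KFacts.RgdBorelTits Cfsg.Agent.KFacts.RgdFilt
open Cfsg.Agent.H520.FC (PK VK XT)

universe u

variable {K : Type u} [Field K] [Finite K] {p : ℕ} [Fact p.Prime] [CharP K p]

/-- a `p`-element `u ≠ 1` -/
theorem exists_par_unip {u : ↥(chevF4.group K)} (hu1 : u ≠ 1) {e : ℕ} (hue : u ^ p ^ e = 1) :
    ∃ (x : ↥(chevF4.group K)) (J : Set (Fin 4)), J ≠ Set.univ ∧ x * u * x⁻¹ ∈ VK K J ∧
      centralizer ({x * u * x⁻¹} : Set ↥(chevF4.group K)) ≤ PK K J := by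
  have hW := finite_W hF cF
  have hfin : Finite ↥(chevF4.group K) := inferInstance
  have hFil := KFacts.RgdFiltChev.filt (K := K) hF cF p
  have hG := KFacts.RgdFilt.GG_eq_top (T := TT chevF4 K) (G1_eq_top hF (K := K) cF)
  have hK : IsPGroup p (zpowers u) := by
    rintro ⟨y, n, rfl⟩
    refine ⟨e, Subtype.ext ?_⟩
    show (u ^ n) ^ p ^ e = 1
    rw [← zpow_natCast, ← zpow_mul, mul_comm, zpow_mul, zpow_natCast, hue, one_zpow]
  obtain ⟨g, J, hJ, hle, hN⟩ := borel_tits hFil hG hK (by rw [Ne, zpowers_eq_bot]; exact hu1)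
  obtain ⟨v, hv, hvu⟩ : ∃ v ∈ VK K J, g * v * g⁻¹ = u := by
    obtain ⟨v, hv, hvu⟩ := hle (mem_zpowers u)
    exact ⟨v, hv, hvu⟩
  have hvu' : g⁻¹ * u * g⁻¹⁻¹ = v := by rw [← hvu]; group
  refine ⟨g⁻¹, J, hJ, by rw [hvu']; exact hv, ?_⟩
  rw [hvu']
  intro x hx
  have h1 : g * x * g⁻¹ ∈ cj g (PK K J) := by
    apply hN
    refine centralizer_le_normalizer _ ?_
    rw [mem_centralizer_iff]
    rintro y ⟨n, rfl⟩
    have h2 : Commute u (g * x * g⁻¹) := by
      have h3 := mem_centralizer_singleton_iff.1 hx
      show u * (g * x * g⁻¹) = g * x * g⁻¹ * u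
      rw [← hvu]
      calc g * v * g⁻¹ * (g * x * g⁻¹) = g * (v * x) * g⁻¹ := by group
        _ = g * (x * v) * g⁻¹ := by rw [h3]
        _ = g * x * g⁻¹ * (g * v * g⁻¹) := by group
    exact h2.zpow_left n
  obtain ⟨y, hy, hyx⟩ := h1
  have h2 : y = x := (MulAut.conj g).injective hyx
  exact h2 ▸ hy

/-- **Borel–Tits for a `p`-singular element.** -/
theorem exists_par_full {g : ↥(chevF4.group K)} (hg : p ∣ orderOf g) :
    ∃ (x : ↥(chevF4.group K)) (J : Set (Fin 4)) (u s : ↥(chevF4.group K)) (e i j : ℕ), J ≠ Set.univ ∧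
      x * g * x⁻¹ = u * s ∧ u * s = s * u ∧ u ≠ 1 ∧ u ^ p ^ e = 1 ∧ (orderOf s).Coprime p ∧ u ∈ VK K J ∧
      centralizer ({u} : Set ↥(chevF4.group K)) ≤ PK K J ∧ x * g * x⁻¹ ∈ PK K J ∧
      u = (x * g * x⁻¹) ^ i ∧ s = (x * g * x⁻¹) ^ j := by
  obtain ⟨i, j, k, m, hij, hi, hj, hm⟩ := Cfsg.Agent.H548.CosetMod.exists_parts p g
  have hus : g ^ i * g ^ j = g ^ j * g ^ i := by rw [← pow_add, ← pow_add, add_comm]
  have hu1 : g ^ i ≠ 1 := by
    intro hcon
    rw [hcon, one_mul] at hij
    rw [hij] at hg
    have h1 : p ∣ m := hg.trans (orderOf_dvd_of_pow_eq_one hj)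
    exact (Nat.Prime.coprime_iff_not_dvd Fact.out).1 hm h1
  obtain ⟨x, J, hJ, hV, hC⟩ := exists_par_unip hu1 hi
  have hp : x * g * x⁻¹ ∈ centralizer ({x * g ^ i * x⁻¹} : Set ↥(chevF4.group K)) := by
    rw [mem_centralizer_singleton_iff, ← conj_pow]
    exact (Commute.refl _).pow_right i
  refine ⟨x, J, x * g ^ i * x⁻¹, x * g ^ j * x⁻¹, k, i, j, hJ, ?_, ?_, ?_, ?_, ?_, hV, hC, hC hp, ?_, ?_⟩
  · nth_rewrite 1 [hij]
    group
  · rw [← conj_pow, ← conj_pow, ← pow_add, ← pow_add, add_comm]
  · intro hcon
    apply hu1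
    have : g ^ i = x⁻¹ * (x * g ^ i * x⁻¹) * x := by group
    rw [this, hcon]
    group
  · rw [conj_pow, hi]
    group
  · have h2 : orderOf (x * g ^ j * x⁻¹) ∣ m := by
      apply orderOf_dvd_of_pow_eq_one
      rw [conj_pow, hj]
      group
    exact Nat.Coprime.coprime_dvd_left h2 hm.symm
  · rw [conj_pow]
  · rw [conj_pow]

/-- **`p`-singular elements are in maximal parabolic subgroups.** -/
theorem exists_par {g : ↥(chevF4.group K)} (hg : p ∣ orderOf g) :
    ∃ (x : ↥(chevF4.group K)) (i : Fin 4), x * g * x⁻¹ ∈ PK K {k | k ≠ i} := by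
  obtain ⟨x, J, u, s, e, -, -, hJ, -, -, -, -, -, -, -, hP, -, -⟩ := exists_par_full (K := K) (p := p) hg
  obtain ⟨i, hi⟩ := (Set.ne_univ_iff_exists_notMem J).1 hJ
  refine ⟨x, i, Cfsg.Agent.H744.FC.PK_mono (fun k hk => ?_) hP⟩
  rintro rfl
  exact hi hk

end Cfsg.Agent.H744.FR
end

-- part: H534/FR/UQ
section
/-!
# The elements of the extraspecial radical of `F₄(q)`, `q` odd (S2452; box (Q1) of helper395)

`A = EE K AA` (order `q ^ 7`, the roots `41, ..., 47`), `Q = VV K`, `Z` the root group of the highest root.

* `comm_AA`, `VV_nrm` : the facts on `A`;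
* `card_cen` : `u ∈ Q` with coordinate `24` not zero: `q ^ 2 |C_A(u)| ≤ |A|`;
* `norm_Q` : `‖χ a‖ ≤ r χ(1)` on `A - 1` gives `‖χ u‖ ≤ (r + q ^ (-2)) χ(1)` on `Q - 1`.
-/

set_option autoImplicit false
set_option linter.unusedSectionVars false

namespace Cfsg.Agent.H534.FR

open Module Subgroup
open Cfsg.Agent.Tits.Roots Cfsg.Agent.Nodes.BNOf Cfsg.Agent.Nodes.RGDChev Cfsg.Agent.KFacts.RgdChevCoord
  Cfsg.Agent.Nodes.Bruhat Cfsg.Agent.Nodes.LeviDec Cfsg.Agent.KFacts.RgdPar Cfsg.Agent.H225.PPow
open Cfsg.Lie Cfsg.Agent.ChevalleyStructure Cfsg.Agent.ChevalleyStructure.CoxeterGeomTypes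
open Cfsg.Agent.H701.F43.Cent (hF cF nroots VV idxV idxM)
open Cfsg.Agent.H224.FR (EE AA X_le_EE EE_le exists_conj)
open Cfsg.Agent.H797.FQ (e E R L14 MM' conj46 unique E_mem_VV e_mem_VV exists_24 exists_R L14_sub tA PP)

universe u

variable {K : Type u} [Field K] [Finite K]

theorem AA_lt : ∀ r ∈ AA, r < 48 := by decide

theorem comm_AA (h2 : (2 : K) ≠ 0) {a b : ↥(chevF4.group K)} (ha : a ∈ EE K AA) (hb : b ∈ EE K AA) :
    a * b = b * a := by
  obtain ⟨g, hg⟩ := exists_conj (K := K)
  rw [hg] at ha hb
  obtain ⟨x, hx, rfl⟩ := ha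
  obtain ⟨y, hy, rfl⟩ := hb
  rw [← map_mul, ← map_mul, Cfsg.Agent.H572.FR.comm_EE h2 hx hy]

theorem e_mem_AA {r : ℕ} (hr : r ∈ AA) (t : K) : e r t ∈ EE K AA :=
  X_le_EE hr ((mem_XX_vec hF (by rw [nroots]; exact AA_lt r hr)).2 ⟨t, rfl⟩)

theorem tabN : ∀ s ∈ idxV, ∀ r ∈ AA, s ≠ r → r ≠ chevF4.neg s ∧ ∀ c ∈ chevF4.commTerms s r, c.1 ∈ AA := by
  decide +kernel

theorem conj_mem {s : ℕ} (hs : s ∈ idxV) (t : K) {y : ↥(chevF4.group K)} (hy : y ∈ EE K AA) :
    e s t * y * (e s t)⁻¹ ∈ EE K AA := by
  have h : EE K AA ≤ (EE K AA).comap (MulAut.conj (e s t)).toMonoidHom := by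
    refine EE_le fun r hr y hy => ?_
    obtain ⟨x, rfl⟩ := (mem_XX_vec hF (by rw [nroots]; exact AA_lt r hr)).1 hy
    show e s t * e r x * (e s t)⁻¹ ∈ EE K AA
    by_cases hsr : s = r
    · subst hsr
      exact mul_mem (mul_mem (e_mem_AA hr t) (e_mem_AA hr x)) (inv_mem (e_mem_AA hr t))
    · obtain ⟨h1, h2⟩ := tabN s hs r hr hsr
      rw [Cfsg.Agent.H797.FQ.conj_e (Cfsg.Agent.H701.F43.Cent.lt_idxV s hs) (by rw [nroots]; exact AA_lt r hr) hsr h1]
      refine mul_mem (e_mem_AA hr x) (Subgroup.list_prod_mem _ ?_)
      intro z hz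
      rw [List.mem_map] at hz
      obtain ⟨c, hc, rfl⟩ := hz
      exact e_mem_AA (h2 c hc) _
  exact h hy

theorem VV_nrm : VV K ≤ normalizer (EE K AA : Set ↥(chevF4.group K)) := by
  refine RGD.Sup_le fun x hx => ?_
  obtain ⟨s, hs, rfl⟩ := Cfsg.Agent.H701.F43.Cent.mem_NotJ_iff.1 hx
  intro y hy
  obtain ⟨t, rfl⟩ := (mem_XX_vec hF (Cfsg.Agent.H701.F43.Cent.lt_idxV s hs)).1 hy
  rw [mem_normalizer_iff]
  intro z
  refine ⟨fun hz => conj_mem hs t hz, fun hz => ?_⟩
  have h1 := conj_mem hs (-t) hz
  have h2 : e s (-t) = (e s t)⁻¹ := ex_neg hF s t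
  rw [h2, inv_inv] at h1
  have h3 : (e s t)⁻¹ * (ex hF s t * z * (ex hF s t)⁻¹) * e s t = z := by
    show (ex hF s t)⁻¹ * (ex hF s t * z * (ex hF s t)⁻¹) * ex hF s t = z
    group
  rwa [h3] at h1

/-- **the centraliser in `A`** -/
theorem card_cen {u : ↥(chevF4.group K)} {c : ℕ → K} (hu : R u c) (h24 : c 24 ≠ 0) :
    Nat.card K ^ 2 * Nat.card ↥(EE K AA ⊓ centralizer {u}) ≤ Nat.card ↥(EE K AA) := by
  classical
  have hR : ∀ t : K, R (e 41 t * u * (e 41 t)⁻¹) (MM' 41 t c) := fun t => hu.conj (by decide) t
  choose b hb using hR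
  have h1 : ∀ t : K, MM' 41 t c 24 = c 24 := by
    intro t
    rw [Cfsg.Agent.H797.FQ.MM'_apply 41 t c (by decide), (tA 41 (by decide)).1, List.map_nil, List.sum_nil, add_zero]
  have h3 : ∀ t : K, MM' 41 t c 42 = c 42 - t * c 24 := by
    intro t
    rw [Cfsg.Agent.H797.FQ.MM'_apply 41 t c (by decide), (tA 41 (by decide)).2 41 (by decide), if_pos rfl, List.map_cons,
      List.map_nil, List.sum_cons, List.sum_nil]
    simp only [Int.cast_neg, Int.cast_one, pow_one]
    ring
  let Φ : (K × K) × ↥(EE K AA ⊓ centralizer {u}) → ↥(EE K AA) := fun x =>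
    ⟨e 46 x.1.2 * e 41 x.1.1 * x.2, mul_mem (mul_mem (e_mem_AA (by decide) _) (e_mem_AA (by decide) _)) x.2.2.1⟩
  have hcj : ∀ x, (Φ x : ↥(chevF4.group K)) * u * (Φ x : ↥(chevF4.group K))⁻¹ =
      E L14 (MM' 41 x.1.1 c) * e 47 (b x.1.1 - x.1.2 * c 24) := by
    intro x
    have h4 := mem_centralizer_singleton_iff.1 x.2.2.2
    have h5 : (x.2 : ↥(chevF4.group K)) * u * (x.2 : ↥(chevF4.group K))⁻¹ = u := by
      rw [mul_inv_eq_iff_eq_mul]
      exact h4
    have h6 : (Φ x : ↥(chevF4.group K)) * u * (Φ x : ↥(chevF4.group K))⁻¹ =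
        e 46 x.1.2 * (e 41 x.1.1 * ((x.2 : ↥(chevF4.group K)) * u * (x.2 : ↥(chevF4.group K))⁻¹) * (e 41 x.1.1)⁻¹) *
          (e 46 x.1.2)⁻¹ := by
      show (e 46 x.1.2 * e 41 x.1.1 * (x.2 : ↥(chevF4.group K))) * u *
        (e 46 x.1.2 * e 41 x.1.1 * (x.2 : ↥(chevF4.group K)))⁻¹ = _
      group
    rw [h6, h5, hb, conj46, h1]
  have hinj : Function.Injective Φ := by
    intro x y hxy
    have h4 := hcj x
    rw [hxy, hcj y] at h4
    obtain ⟨h5, h6⟩ := unique h4
    have h7 := h5 42 (by decide)
    rw [h3, h3] at h7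
    have h8 : y.1.1 = x.1.1 := mul_right_cancel₀ h24 (sub_right_injective h7)
    rw [h8] at h6
    have h9 : y.1.2 = x.1.2 := mul_right_cancel₀ h24 (sub_right_injective h6)
    have h10 : (Φ x : ↥(chevF4.group K)) = Φ y := congrArg Subtype.val hxy
    have h11 : (e 46 x.1.2 * e 41 x.1.1 * (x.2 : ↥(chevF4.group K))) =
        e 46 y.1.2 * e 41 y.1.1 * (y.2 : ↥(chevF4.group K)) := h10
    rw [h8, h9] at h11
    have h12 := mul_left_cancel h11
    exact Prod.ext (Prod.ext h8.symm h9.symm) (Subtype.ext h12)
  have h4 := Nat.card_le_card_of_injective Φ hinj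
  rw [Nat.card_prod, Nat.card_prod, ← pow_two] at h4
  exact h4

/-- the elements of `Q` outside `Z` -/
theorem norm_Q' (h2 : (2 : K) ≠ 0) {V : Type*} [AddCommGroup V] [Module ℂ V] [FiniteDimensional ℂ V]
    (ρ : Representation ℂ ↥(chevF4.group K) V) {r : ℝ} (hr : 0 ≤ r)
    (h : ∀ a ∈ EE K AA, a ≠ 1 → ‖ρ.character a‖ ≤ r * finrank ℂ V) {u : ↥(chevF4.group K)} (hu : u ∈ VV K)
    (hu' : u ∉ XX chevF4 4 K (vec chevF4 4 47)) :
    ‖ρ.character u‖ ≤ (r + ((Nat.card K : ℝ) ^ 2)⁻¹) * finrank ℂ V := by
  obtain ⟨c, hc⟩ := exists_R hu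
  obtain ⟨g, hg, d, hd, h24⟩ := exists_24 h2 hc hu'
  have h3 : ρ.character (g * u * g⁻¹) = ρ.character u := Representation.char_conj _ _ _
  have h4 : g * u * g⁻¹ ∈ VV K := by
    obtain ⟨b, hb⟩ := hd
    rw [hb]
    exact mul_mem (E_mem_VV L14_sub _) (e_mem_VV (by decide) _)
  have h5 := Cfsg.Agent.H395.FR.bound_abelian ρ (Q := EE K AA) (A := EE K AA) (fun a ha b hb => comm_AA h2 ha hb)
    le_rfl (VV_nrm h4) hr h
  rw [h3] at h5
  refine h5.trans ?_
  have hq : (0 : ℝ) < (Nat.card K : ℝ) ^ 2 := by
    have : (0 : ℝ) < Nat.card K := by exact_mod_cast Nat.card_pos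
    (clear * - this; positivity)
  have hA : (0 : ℝ) < Nat.card ↥(EE K AA) := by exact_mod_cast Nat.card_pos
  have h6 : (Nat.card ↥(EE K AA ⊓ centralizer {g * u * g⁻¹}) : ℝ) / Nat.card ↥(EE K AA) ≤ ((Nat.card K : ℝ) ^ 2)⁻¹ := by
    rw [div_le_iff₀ hA, ← div_eq_inv_mul, le_div_iff₀ hq, mul_comm]
    exact_mod_cast card_cen hd h24
  gcongr

/-- **the elements of `Q`** -/
theorem norm_Q (h2 : (2 : K) ≠ 0) {V : Type*} [AddCommGroup V] [Module ℂ V] [FiniteDimensional ℂ V]
    (ρ : Representation ℂ ↥(chevF4.group K) V) {r : ℝ} (hr : 0 ≤ r)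
    (h : ∀ a ∈ EE K AA, a ≠ 1 → ‖ρ.character a‖ ≤ r * finrank ℂ V) {u : ↥(chevF4.group K)} (hu : u ∈ VV K)
    (hu1 : u ≠ 1) : ‖ρ.character u‖ ≤ (r + ((Nat.card K : ℝ) ^ 2)⁻¹) * finrank ℂ V := by
  by_cases hu' : u ∈ XX chevF4 4 K (vec chevF4 4 47)
  · refine (h u (X_le_EE (by decide) hu') hu1).trans ?_
    have : (0 : ℝ) ≤ ((Nat.card K : ℝ) ^ 2)⁻¹ := by (clear * -; positivity)
    gcongr
    linarith
  · exact norm_Q' h2 ρ hr h hu hu'

end Cfsg.Agent.H534.FR
end

-- part: H572/FR/All
section
/-!
# `F₄(q)`, `q` odd, `q ≥ 9`: `10 |χ(g)| < χ(1)` for all `p`-singular `g` (S2452; helper572)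

The glue of plan F of helper395.

* `XB K` : box (X), the bound for the elements of `C(Z)` outside the unipotent radical;
* `HD σ` : box (D), the dichotomy in the parabolics `i ≠ 3`;
* `HP σ` : box (D1), the elements of the parabolic `i = 3` outside `C(Z)`;
* `ratio_cen` : the elements of `C(Z)`, `‖χ y‖ ≤ (1 / 50 + q⁻² + 1 / 27) χ(1)`;
* `all_of` : the result.
-/

set_option autoImplicit false
set_option linter.unusedSectionVars false

namespace Cfsg.Agent.H572.FR

open Module Cfsg.Lie Cfsg.Agent.Nodes.RGDChev Cfsg.Agent.KFacts.RgdChevCoord Cfsg.Agent.Nodes.BNOf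
open Cfsg.Agent.H701.F43.Cent (hF cF VV MM J3 comm_theta)
open Cfsg.Agent.H520.FC (PK VK XT)
open Cfsg.Agent.H980.RB (xt xt_mem xt_zero mem_XT)

universe u

/-- the number `r = 1/50 + q⁻²` -/
noncomputable def rq (K : Type u) : ℝ := 1 / 50 + ((Nat.card K : ℝ) ^ 2)⁻¹

theorem num_inv {q : ℝ} (hq : 9 ≤ q) : (q ^ 2)⁻¹ ≤ 1 / 81 := by
  have h1 : (81 : ℝ) ≤ q ^ 2 := by nlinarith
  have h2 : (q ^ 2)⁻¹ ≤ (81 : ℝ)⁻¹ := inv_anti₀ (by norm_num) h1
  norm_num only [_root_.ge_iff_le] at h2 ⊢
  exact h2

theorem ten_of_le {d : ℕ} {r x : ℝ} (hd : 0 < d) (hr : r < 1 / 10) (h : x ≤ r * d) : 10 * x < d := by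
  have h1 : (0 : ℝ) < d := by exact_mod_cast hd
  nlinarith only [hr, h, h1]

/-- **(X)** -/
def XB (K : Type u) [Field K] : Prop := ∀ g ∈ VV K ⊔ MM K, g ∉ VV K →
  Nat.card {x : ↥(VK K {k | k ≠ 3}) //
    (x : ↥(chevF4.group K)) * g * (x : ↥(chevF4.group K))⁻¹ * g⁻¹ ∈ XT K} ≤ Nat.card K ^ 12

section

variable {K : Type u} [Field K] [Finite K] {d : ℕ} (σ : Representation ℂ ↥(chevF4.group K) (Fin d → ℂ))

/-- **(D)**: the dichotomy in the parabolics `i ≠ 3` -/
def HD : Prop := ∀ i : Fin 4, i ≠ 3 → ∀ g ∈ PK K {k | k ≠ i}, ‖σ.character g‖ ≤ rq K * d ∨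
  ∃ x : ↥(chevF4.group K), x * g * x⁻¹ ∈ VV K ⊔ MM K

theorem xt_ne_one : xc hF (vec chevF4 4 47) (1 : K) ≠ 1 := by
  obtain ⟨p, hpc⟩ := CharP.exists K
  have : Fact p.Prime := ⟨CharP.char_is_prime K p⟩
  exact ((coords (K := K) hF cF p).coord _ Cfsg.Agent.H701.F43.Cent.isRoot_theta).ne_one one_ne_zero

/-- the unipotent radical -/
theorem ratio_rad (h2 : (2 : K) ≠ 0) (h9 : 9 ≤ Nat.card K) (hirr : σ.IsIrreducible)
    (hσ : σ.character ≠ fun _ => 1) {g : ↥(chevF4.group K)} (hg : g ∈ VV K) (hg1 : g ≠ 1) :
    ‖σ.character g‖ ≤ rq K * d := by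
  have hfr : (finrank ℂ (Fin d → ℂ) : ℝ) = d := by rw [Module.finrank_fintype_fun_eq_card, Fintype.card_fin]
  have h := Cfsg.Agent.H534.FR.norm_Q h2 σ (r := 1 / 50) (by norm_num) (fun a ha ha1 => by
    rw [hfr]
    exact Cfsg.Agent.H224.FR.ratioA_nine h2 h9 σ hirr hσ ha ha1) hg hg1
  rw [hfr] at h
  exact h

/-- the centralizer of a long root element -/
theorem ratio_cen (h2 : (2 : K) ≠ 0) (h9 : 9 ≤ Nat.card K) (hX : XB K) (hirr : σ.IsIrreducible)
    (hσ : σ.character ≠ fun _ => 1) {g : ↥(chevF4.group K)} (hg : g ∈ VV K ⊔ MM K) (hg1 : g ≠ 1) :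
    ‖σ.character g‖ ≤ (rq K + 1 / 27) * d := by
  have hfr : (finrank ℂ (Fin d → ℂ) : ℝ) = d := by rw [Module.finrank_fintype_fun_eq_card, Fintype.card_fin]
  have hz : xc hF (vec chevF4 4 47) (1 : K) ∈ XT K := mem_XT.2 ⟨1, rfl⟩
  have hr0 : 0 ≤ rq K := by
    unfold rq
    positivity
  have h := Cfsg.Agent.H980.RB.step3F_nine (Cfsg.Agent.H374.FR.Comm.hei h2) Cfsg.Agent.H374.FR.Comm.card_V h9 σ hr0
    (fun x hx hx1 => by
      rw [hfr]
      exact ratio_rad σ h2 h9 hirr hσ hx hx1) hg1 hz xt_ne_one (comm_theta hg hz) (fun h3 => hX g hg h3)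
  rw [hfr] at h
  exact h

end

end Cfsg.Agent.H572.FR
end

-- part: H210/FR/Heis
section
/-!
# Elements of order prime to `p` on a Heisenberg radical (S2452, `F₄(q)`; helper210)

`Hs X V` : `V` is a group of Heisenberg type over the field `K`, centre `X : Multiplicative K →* G`.

* `card_le` : if `s ≠ 1` of order prime to `p` centralises `X` and normalises the `p`-group `V` then
  `q² |{x ∈ V | [x, s] ∈ X}| ≤ |V|`.
-/

set_option autoImplicit false
set_option linter.unusedSectionVars false

namespace Cfsg.Agent.H210.FR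

variable {G : Type*} [Group G] {K : Type*} [Field K]

/-- a group of Heisenberg type over `K` -/
structure Hs (X : Multiplicative K →* G) (V : Subgroup G) : Prop where
  inj : Function.Injective X
  mem : ∀ t, X t ∈ V
  cen : ∀ t, ∀ q ∈ V, q * X t = X t * q
  com : ∀ a ∈ V, ∀ b ∈ V, a * b * a⁻¹ * b⁻¹ ∈ X.range
  nd : ∀ q ∈ V, q ∉ X.range → ∀ t : K, ∃ q' ∈ V, q' * q * q'⁻¹ * q⁻¹ = X (.ofAdd t)
  cv : ∀ s : G, (∀ q ∈ V, s * q = q * s) → s ∈ V
  scal : ∀ c : K, ∀ a ∈ V, ∃ a' ∈ V, ∀ b ∈ V, ∀ t : K, a * b * a⁻¹ * b⁻¹ = X (.ofAdd t) →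
    a' * b * a'⁻¹ * b⁻¹ = X (.ofAdd (c * t))

variable {X : Multiplicative K →* G} {V : Subgroup G}

namespace Hs

variable (H : Hs X V)

include H

section coprime

variable {p : ℕ} [Fact p.Prime] (hp : IsPGroup p V) {s : G} (hsp : (orderOf s).Coprime p)
  (hsX : ∀ t, s * X t = X t * s) (hsV : ∀ q, q ∈ V ↔ s * q * s⁻¹ ∈ V)

end coprime

end Hs

end Cfsg.Agent.H210.FR
end

-- part: H210/FR/DOne
section
/-!
# Elements which move the centre of a Heisenberg radical (S2452, `F₄(q)`, box D1; helper210)

* `ratio_move` : `g` normalises the Heisenberg group `V ≠ Z` and acts on the centre `Z = X.range` as `t ↦ c t`, `c ≠ 1`; if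
  `‖χ x‖ ≤ r χ(1)` for `1 ≠ x ∈ V` then `‖χ g‖ ≤ (r + q⁻²) χ(1)`.
-/

set_option autoImplicit false
set_option linter.unusedSectionVars false

namespace Cfsg.Agent.H210.FR.DOne

open Module
open Cfsg.Agent.H980.RB (Hei)
open Cfsg.Agent.H572.FR (cd)
open Cfsg.Agent.H395.FR (card_mul_cd cd_le)
open Cfsg.Agent.SmallSimple.BTBasic (fixd fixd_def norm_character_le_fixd_rep)

universe u

variable {G : Type u} [Group G] {K : Type*} [Field K] {X : Multiplicative K →* G} {V : Subgroup G}

/-- the commutators with `g`, times the centre -/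
def BG (h : Hei X V) {g : G} (hg : ∀ q ∈ V, g⁻¹ * q * g ∈ V) : Subgroup G where
  carrier := {x | ∃ q ∈ V, ∃ u, x = g⁻¹ * q * g * q⁻¹ * X u}
  one_mem' := ⟨1, one_mem _, 1, by simp⟩
  mul_mem' := by
    rintro _ _ ⟨q, hq, u, rfl⟩ ⟨q', hq', u', rfl⟩
    obtain ⟨w, hw⟩ := h.com q⁻¹ (V.inv_mem hq) (g⁻¹ * q' * g * q'⁻¹) (V.mul_mem (hg q' hq') (V.inv_mem hq'))
    refine ⟨q * q', V.mul_mem hq hq', w * (u * u'), ?_⟩
    have c1 : ∀ v ∈ V, v * X u = X u * v := fun v hv => h.cen v hv u
    have c2 : ∀ v ∈ V, v * X w = X w * v := fun v hv => h.cen v hv w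
    have e1 : q⁻¹ * (g⁻¹ * q' * g * q'⁻¹) = X w * ((g⁻¹ * q' * g * q'⁻¹) * q⁻¹) := by
      rw [hw]
      group
    calc g⁻¹ * q * g * q⁻¹ * X u * (g⁻¹ * q' * g * q'⁻¹ * X u')
        = (g⁻¹ * q * g) * (q⁻¹ * (X u * (g⁻¹ * q' * g * q'⁻¹))) * X u' := by group
      _ = (g⁻¹ * q * g) * (q⁻¹ * ((g⁻¹ * q' * g * q'⁻¹) * X u)) * X u' := by
          rw [c1 _ (V.mul_mem (hg q' hq') (V.inv_mem hq'))]
      _ = (g⁻¹ * q * g) * (q⁻¹ * (g⁻¹ * q' * g * q'⁻¹)) * (X u * X u') := by group
      _ = (g⁻¹ * q * g) * (X w * ((g⁻¹ * q' * g * q'⁻¹) * q⁻¹)) * (X u * X u') := by rw [e1]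
      _ = (g⁻¹ * q * g) * (((g⁻¹ * q' * g * q'⁻¹) * q⁻¹) * X w) * (X u * X u') := by
          rw [c2 _ (V.mul_mem (V.mul_mem (hg q' hq') (V.inv_mem hq')) (V.inv_mem hq))]
      _ = g⁻¹ * (q * q') * g * (q * q')⁻¹ * X (w * (u * u')) := by
          rw [map_mul, map_mul]
          group
  inv_mem' := by
    rintro _ ⟨q, hq, u, rfl⟩
    obtain ⟨w, hw⟩ := h.com (g⁻¹ * q⁻¹ * g) (hg _ (V.inv_mem hq)) q hq
    have hA : g⁻¹ * q⁻¹ * g ∈ V := hg _ (V.inv_mem hq)
    refine ⟨q⁻¹, V.inv_mem hq, w⁻¹ * u⁻¹, ?_⟩
    have e1 : q * (g⁻¹ * q⁻¹ * g) = X w⁻¹ * ((g⁻¹ * q⁻¹ * g) * q) := by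
      rw [map_inv, hw]
      group
    calc (g⁻¹ * q * g * q⁻¹ * X u)⁻¹ = X u⁻¹ * (q * (g⁻¹ * q⁻¹ * g)) := by
          rw [map_inv]
          group
      _ = X u⁻¹ * (X w⁻¹ * ((g⁻¹ * q⁻¹ * g) * q)) := by rw [e1]
      _ = X (u⁻¹ * w⁻¹) * ((g⁻¹ * q⁻¹ * g) * q) := by rw [map_mul]; group
      _ = ((g⁻¹ * q⁻¹ * g) * q) * X (u⁻¹ * w⁻¹) := (h.cen _ (V.mul_mem hA hq) _).symm
      _ = g⁻¹ * q⁻¹ * g * q⁻¹⁻¹ * X (w⁻¹ * u⁻¹) := by rw [inv_inv, mul_comm u⁻¹]

theorem BG_le (h : Hei X V) {g : G} (hg : ∀ q ∈ V, g⁻¹ * q * g ∈ V) : BG h hg ≤ V := by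
  rintro _ ⟨q, hq, u, rfl⟩
  exact V.mul_mem (V.mul_mem (hg q hq) (V.inv_mem hq)) (h.mem u)

section

variable {g : G} {c : K} (hc1 : c ≠ 1) (hgX : ∀ t : K, g * X (.ofAdd t) * g⁻¹ = X (.ofAdd (c * t)))
  (hinj : Function.Injective X)

include hgX hinj in
theorem c_ne_zero : c ≠ 0 := by
  rintro rfl
  have h1 : g * X (.ofAdd (1 : K)) * g⁻¹ = 1 := by
    rw [hgX, zero_mul, ofAdd_zero]
    exact map_one X
  have h2 : X (.ofAdd (1 : K)) = 1 := by
    calc X (.ofAdd (1 : K)) = g⁻¹ * (g * X (.ofAdd 1) * g⁻¹) * g := by group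
      _ = 1 := by rw [h1]; group
  have h3 : Multiplicative.ofAdd (1 : K) = 1 := hinj (h2.trans (map_one X).symm)
  exact one_ne_zero (Multiplicative.ofAdd.injective (h3.trans ofAdd_zero.symm))

include hgX hinj in
theorem inv_act (t : K) : g⁻¹ * X (.ofAdd t) * g = X (.ofAdd (c⁻¹ * t)) := by
  have hc0 := c_ne_zero hgX hinj
  have h1 := hgX (c⁻¹ * t)
  rw [← mul_assoc, mul_inv_cancel₀ hc0, one_mul] at h1
  rw [← h1]
  group

include hc1 hgX hinj in
/-- all elements of `g B` are conjugate to `g` -/
theorem conj_BG (h : Hei X V) (hg : ∀ q ∈ V, g⁻¹ * q * g ∈ V) {x : G} (hx : x ∈ BG h hg) : IsConj g (g * x) := by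
  obtain ⟨q, hq, u, rfl⟩ := hx
  have hc0 := c_ne_zero hgX hinj
  have hc2 : c⁻¹ - 1 ≠ 0 := by
    intro h0
    rw [sub_eq_zero, inv_eq_one] at h0
    exact hc1 h0
  set s : K := Multiplicative.toAdd u / (c⁻¹ - 1) with hs
  have h1 := inv_act hgX hinj s
  rw [isConj_iff]
  refine ⟨q * X (.ofAdd s), ?_⟩
  have e1 : X (.ofAdd (c⁻¹ * s)) * (X (.ofAdd s))⁻¹ = X u := by
    rw [← map_inv, ← map_mul, ← ofAdd_neg, ← ofAdd_add]
    congr 1
    have : c⁻¹ * s + -s = Multiplicative.toAdd u := by
      rw [hs]
      field_simp
      ring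
    rw [this]
    rfl
  have hA : g⁻¹ * q * g ∈ V := hg q hq
  have c1 : q⁻¹ * X u = X u * q⁻¹ := h.cen _ (V.inv_mem hq) u
  calc q * X (.ofAdd s) * g * (q * X (.ofAdd s))⁻¹
      = g * ((g⁻¹ * q * g) * ((g⁻¹ * X (.ofAdd s) * g) * (X (.ofAdd s))⁻¹) * q⁻¹) := by group
    _ = g * ((g⁻¹ * q * g) * (X u * q⁻¹)) := by rw [h1, e1]; group
    _ = g * (g⁻¹ * q * g * q⁻¹ * X u) := by rw [← c1]; group

include hgX hinj hc1 in
theorem comm_zero (h : Hei X V) {x y : G} (hx : x ∈ V) (hy : y ∈ V)
    (hxc : g⁻¹ * x * g * x⁻¹ ∈ X.range) (hyc : g⁻¹ * y * g * y⁻¹ ∈ X.range) : x * y * x⁻¹ * y⁻¹ = 1 := by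
  obtain ⟨t, ht⟩ := h.com x hx y hy
  obtain ⟨u, hu⟩ := hxc
  obtain ⟨w, hw⟩ := hyc
  have h1 : g⁻¹ * x * g = X u * x := by rw [hu]; group
  have h2 : g⁻¹ * y * g = X w * y := by rw [hw]; group
  have h3 : g⁻¹ * (x * y * x⁻¹ * y⁻¹) * g = x * y * x⁻¹ * y⁻¹ := by
    calc g⁻¹ * (x * y * x⁻¹ * y⁻¹) * g
        = (g⁻¹ * x * g) * (g⁻¹ * y * g) * (g⁻¹ * x * g)⁻¹ * (g⁻¹ * y * g)⁻¹ := by group
      _ = X u * (x * X w) * y * x⁻¹ * (X u)⁻¹ * y⁻¹ * (X w)⁻¹ := by rw [h1, h2]; group
      _ = X u * X w * (x * y * x⁻¹) * (X u)⁻¹ * y⁻¹ * (X w)⁻¹ := by rw [h.cen x hx w]; group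
      _ = X u * X w * ((x * y * x⁻¹) * X u⁻¹) * (y⁻¹ * X w⁻¹) := by rw [map_inv, map_inv]; group
      _ = X u * X w * (X u⁻¹ * (x * y * x⁻¹)) * (X w⁻¹ * y⁻¹) := by
          rw [h.cen _ (V.mul_mem (V.mul_mem hx hy) (V.inv_mem hx)), h.cen _ (V.inv_mem hy)]
      _ = X u * X w * X u⁻¹ * ((x * y * x⁻¹) * X w⁻¹) * y⁻¹ := by group
      _ = X u * X w * X u⁻¹ * (X w⁻¹ * (x * y * x⁻¹)) * y⁻¹ := by
          rw [h.cen _ (V.mul_mem (V.mul_mem hx hy) (V.inv_mem hx))]
      _ = (X u * X w * X u⁻¹ * X w⁻¹) * (x * y * x⁻¹ * y⁻¹) := by group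
      _ = x * y * x⁻¹ * y⁻¹ := by
          have : X u * X w * X u⁻¹ * X w⁻¹ = 1 := by
            rw [← map_mul, ← map_mul, ← map_mul, mul_comm u w, mul_assoc w, mul_inv_cancel, mul_one, mul_inv_cancel,
              map_one]
          rw [this, one_mul]
  have h4 : X t = X (.ofAdd (Multiplicative.toAdd t)) := rfl
  rw [← ht, h4, inv_act hgX hinj] at h3
  have h5 : c⁻¹ * Multiplicative.toAdd t = Multiplicative.toAdd t := Multiplicative.ofAdd.injective (hinj h3)
  have h6 : Multiplicative.toAdd t = 0 := by
    by_contra h0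
    have h7 : c⁻¹ = 1 := mul_right_cancel₀ h0 (by rw [h5, one_mul])
    exact hc1 (inv_eq_one.1 h7)
  rw [← ht, h4, h6, ofAdd_zero, map_one]

include hgX hinj hc1 in
/-- `q² ≤ |B|` -/
theorem le_card_BG [Finite G] [Finite K] (h : Hei X V) (hg : ∀ q ∈ V, g⁻¹ * q * g ∈ V) (hV : ¬ V ≤ X.range) :
    Nat.card K ^ 2 ≤ Nat.card (BG h hg) := by
  have hx : ∃ x ∈ V, x ∉ X.range ∧ ∀ y ∈ V, g⁻¹ * y * g * y⁻¹ ∈ X.range → y * x * y⁻¹ * x⁻¹ = 1 := by
    by_cases h1 : ∃ x ∈ V, x ∉ X.range ∧ g⁻¹ * x * g * x⁻¹ ∈ X.range
    · obtain ⟨x, hx, hxX, hxc⟩ := h1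
      exact ⟨x, hx, hxX, fun y hy hyc => comm_zero hc1 hgX hinj h hy hx hyc hxc⟩
    · push Not at h1
      obtain ⟨x, hx, hxX⟩ := Set.not_subset.1 hV
      refine ⟨x, hx, hxX, fun y hy hyc => ?_⟩
      have h2 : y ∈ X.range := by
        by_contra h3
        exact h1 y hy h3 hyc
      obtain ⟨u, rfl⟩ := h2
      rw [← h.cen x hx u]
      group
  obtain ⟨x, hx, hxX, hxc⟩ := hx
  choose q hqV hq using fun t : K => h.nd x hx hxX t
  rw [pow_two, ← Nat.card_prod]
  refine Nat.card_le_card_of_injective
    (fun u : K × K => (⟨g⁻¹ * q u.1 * g * (q u.1)⁻¹ * X (.ofAdd u.2), q u.1, hqV _, _, rfl⟩ : BG h hg)) ?_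
  rintro ⟨t, u⟩ ⟨t', u'⟩ he
  have he : g⁻¹ * q t * g * (q t)⁻¹ * X (.ofAdd u) = g⁻¹ * q t' * g * (q t')⁻¹ * X (.ofAdd u') := congrArg Subtype.val he
  have h1 : g⁻¹ * ((q t')⁻¹ * q t) * g * ((q t')⁻¹ * q t)⁻¹ ∈ X.range := by
    refine ⟨.ofAdd u' * (.ofAdd u)⁻¹, ?_⟩
    have h2 : g⁻¹ * q t * g = g⁻¹ * q t' * g * (q t')⁻¹ * X (.ofAdd u' * (.ofAdd u)⁻¹) * q t := by
      have h3 : g⁻¹ * q t * g = (g⁻¹ * q t * g * (q t)⁻¹ * X (.ofAdd u)) * ((X (.ofAdd u))⁻¹ * q t) := by group
      rw [h3, he, map_mul, map_inv]
      group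
    calc X (.ofAdd u' * (.ofAdd u)⁻¹) = X (.ofAdd u' * (.ofAdd u)⁻¹) * (q t * (q t)⁻¹) := by group
      _ = (q t)  * X (.ofAdd u' * (.ofAdd u)⁻¹) * (q t)⁻¹ := by
          rw [h.cen _ (hqV t)]
          group
      _ = (q t')⁻¹ * ((q t') * (q t * X (.ofAdd u' * (.ofAdd u)⁻¹) * (q t)⁻¹)) := by group
      _ = (q t')⁻¹ * (X (.ofAdd u' * (.ofAdd u)⁻¹) * q t') := by
          rw [h.cen _ (hqV t)]
          have : q t' * (X (.ofAdd u' * (.ofAdd u)⁻¹) * q t * (q t)⁻¹) = q t' * X (.ofAdd u' * (.ofAdd u)⁻¹) := by group
          rw [this, h.cen _ (hqV t')]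
      _ = g⁻¹ * ((q t')⁻¹ * q t) * g * ((q t')⁻¹ * q t)⁻¹ := by
          have : g⁻¹ * ((q t')⁻¹ * q t) * g * ((q t')⁻¹ * q t)⁻¹ =
              (g⁻¹ * q t' * g)⁻¹ * (g⁻¹ * q t * g) * ((q t)⁻¹ * q t') := by group
          rw [this, h2]
          group
  have h2 := hxc _ (V.mul_mem (V.inv_mem (hqV t')) (hqV t)) h1
  have h3 : q t * x * (q t)⁻¹ * x⁻¹ = q t' * x * (q t')⁻¹ * x⁻¹ := by
    have h4 : (q t')⁻¹ * q t * x = x * ((q t')⁻¹ * q t) := by
      calc (q t')⁻¹ * q t * x = ((q t')⁻¹ * q t * x * ((q t')⁻¹ * q t)⁻¹ * x⁻¹) * x * ((q t')⁻¹ * q t) := by group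
        _ = x * ((q t')⁻¹ * q t) := by rw [h2, one_mul]
    have h5 : q t * x = q t' * x * (q t')⁻¹ * q t := by
      calc q t * x = q t' * ((q t')⁻¹ * q t * x) := by group
        _ = q t' * x * (q t')⁻¹ * q t := by rw [h4]; group
    rw [h5]
    group
  rw [hq, hq] at h3
  have ht : t = t' := Multiplicative.ofAdd.injective (hinj h3)
  subst ht
  have hu : u = u' := Multiplicative.ofAdd.injective (hinj (mul_left_cancel he))
  subst hu
  rfl

include hgX hinj hc1 in
/-- **(D1)** -/
theorem ratio_move [Finite G] [Finite K] (h : Hei X V) (hgV : ∀ q, q ∈ V ↔ g * q * g⁻¹ ∈ V) (hV : ¬ V ≤ X.range)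
    {W : Type*} [AddCommGroup W] [Module ℂ W] [FiniteDimensional ℂ W] (ρ : Representation ℂ G W) {r : ℝ} (hr : 0 ≤ r)
    (hx : ∀ x ∈ V, x ≠ 1 → ‖ρ.character x‖ ≤ r * finrank ℂ W) :
    ‖ρ.character g‖ ≤ (r + ((Nat.card K : ℝ) ^ 2)⁻¹) * finrank ℂ W := by
  have hg : ∀ q ∈ V, g⁻¹ * q * g ∈ V := by
    intro q hq
    rw [hgV]
    have : g * (g⁻¹ * q * g) * g⁻¹ = q := by group
    rwa [this]
  have hnB : ∀ x ∈ BG h hg, g * x * g⁻¹ ∈ BG h hg := by
    rintro _ ⟨q, hq, u, rfl⟩
    refine ⟨g * q * g⁻¹, (hgV q).1 hq, .ofAdd (c * Multiplicative.toAdd u), ?_⟩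
    rw [← hgX]
    have : X (.ofAdd (Multiplicative.toAdd u)) = X u := rfl
    rw [this]
    group
  have h1 := norm_character_le_fixd_rep (BG h hg) ρ g hnB fun x hx' => conj_BG hc1 hgX hinj h hg hx'
  have := Fintype.ofFinite (BG h hg)
  have h2 := card_mul_cd ρ (BG h hg)
  have h3 : fixd (BG h hg) ρ.character = cd ρ (BG h hg) := by
    have hN : (Nat.card (BG h hg) : ℂ) ≠ 0 := by exact_mod_cast Nat.card_pos.ne'
    rw [fixd_def, ← h2, ← mul_assoc, inv_mul_cancel₀ hN, one_mul]
  rw [h3, Complex.norm_natCast] at h1
  have h4 := cd_le (ρ := ρ) (B := BG h hg) (r := r) (fun b hb hb1 => hx b (BG_le h hg hb) hb1) hr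
  refine h1.trans (h4.trans ?_)
  have h5 : ((Nat.card (BG h hg) : ℝ))⁻¹ ≤ ((Nat.card K : ℝ) ^ 2)⁻¹ := by
    have h6 := le_card_BG hc1 hgX hinj h hg hV
    have h7 : (0 : ℝ) < (Nat.card K : ℝ) ^ 2 := by
      have : 0 < Nat.card K := Nat.card_pos
      positivity
    exact inv_anti₀ h7 (by exact_mod_cast h6)
  exact mul_le_mul_of_nonneg_right (by linarith only [h, hg, h5]) (Nat.cast_nonneg _)

end

end Cfsg.Agent.H210.FR.DOne
end

-- part: H374/FR/POne
section
/-!
# The parabolic subgroup of type `C₃` of `F₄(q)`, `q ≥ 9` odd (S2452, plan F)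

* `p1` : `‖χ x‖ ≤ r χ(1)` for `1 ≠ x ∈ V` (Q1) and `|{x ∈ V : [x, g] ∈ X_θ}| ≤ q ^ 12` for `g ∈ C(X_θ) ∖ V` (X):
  `‖χ g‖ ≤ (r + 1 / 27) χ(1)` for all `1 ≠ g ∈ P`.
-/

set_option autoImplicit false
set_option linter.unusedSectionVars false

namespace Cfsg.Agent.H374.FR.Comm

open Cfsg.Lie Cfsg.Agent.ChevalleyStructure Module
open Cfsg.Agent.KFacts.RgdChevCoord (xc)
open Cfsg.Agent.Nodes.RGDChev
open Cfsg.Agent.H701.F43.Cent (hF)
open Cfsg.Agent.H520.FC (PK VK XT)
open Cfsg.Agent.H980.RB (Hei xt xt_range xt_apply xt_mem hei_of step3F step3F_nine)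

universe u

variable {K : Type u} [Field K] [Finite K]

theorem xt_inj : Function.Injective (xt K) := fun a b h => inj (show xh K a = xh K b from h)

theorem not_le_range : ¬ VK K {k | k ≠ 3} ≤ (xt K).range := by
  intro h
  rw [xt_range] at h
  have h1 := Nat.card_le_card_of_injective (Subgroup.inclusion h) (Subgroup.inclusion_injective h)
  rw [card_V, Cfsg.Agent.H797.FQ.card_XX lt47] at h1
  have h2 : 1 < Nat.card K := Finite.one_lt_card
  have h3 : Nat.card K ^ 1 < Nat.card K ^ 15 := Nat.pow_lt_pow_right h2 (by norm_num)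
  rw [pow_one] at h3
  omega

variable {W : Type*} [AddCommGroup W] [Module ℂ W] [FiniteDimensional ℂ W]

/-- **All elements of the parabolic subgroup.** -/
theorem p1 (h2 : (2 : K) ≠ 0) (h9 : 9 ≤ Nat.card K) (ρ : Representation ℂ ↥(chevF4.group K) W) {r : ℝ} (hr : 0 ≤ r)
    (hQ : ∀ x ∈ VK K {k | k ≠ 3}, x ≠ 1 → ‖ρ.character x‖ ≤ r * finrank ℂ W)
    {g : ↥(chevF4.group K)} (hg1 : g ≠ 1) (hg : g ∈ PK K {k | k ≠ 3})
    (hX : (∀ z ∈ XT K, g * z = z * g) → g ∉ VK K {k | k ≠ 3} → Nat.card {x : ↥(VK K {k | k ≠ 3}) //
      (x : ↥(chevF4.group K)) * g * (x : ↥(chevF4.group K))⁻¹ * g⁻¹ ∈ XT K} ≤ Nat.card K ^ 12) :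
    ‖ρ.character g‖ ≤ (r + 1 / 27) * finrank ℂ W := by
  obtain ⟨c, hc0, hc⟩ := hei_act hg
  have hd : (0 : ℝ) ≤ finrank ℂ W := Nat.cast_nonneg _
  by_cases hc1 : c = 1
  · have h3 : ∀ z ∈ XT K, g * z = z * g := by
      intro z hz
      rw [← range_xh] at hz
      obtain ⟨t, rfl⟩ := hz
      have h4 := hc t.toAdd
      rw [hc1, one_mul, mul_inv_eq_iff_eq_mul] at h4
      exact h4
    have h5 : xh K (.ofAdd 1) ≠ 1 := by
      intro h6
      have h7 : Multiplicative.ofAdd (1 : K) = 1 := inj (h6.trans (map_one _).symm)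
      exact one_ne_zero (Multiplicative.ofAdd.injective (h7.trans ofAdd_zero.symm))
    have h6 : xh K (.ofAdd 1) ∈ XT K := by
      rw [← range_xh]
      exact ⟨_, rfl⟩
    exact step3F_nine (hei h2) card_V h9 ρ hr hQ hg1 h6 h5 (h3 _ h6) (hX h3)
  · have h3 := Cfsg.Agent.H210.FR.DOne.ratio_move hc1 hc xt_inj (hei h2) (hei_norm hg) not_le_range ρ hr hQ
    refine h3.trans (mul_le_mul_of_nonneg_right ?_ hd)
    have h4 : (9 : ℝ) ≤ Nat.card K := by exact_mod_cast h9
    have h5 : ((Nat.card K : ℝ) ^ 2)⁻¹ ≤ (9 ^ 2)⁻¹ := by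
      apply inv_anti₀ (by norm_num)
      exact pow_le_pow_left₀ (by norm_num) h4 2
    linarith only [h5]

end Cfsg.Agent.H374.FR.Comm
end

-- part: H395/FR/Nrm
section
/-!
# `F₄(q)`: normal subgroups of the maximal parabolic subgroups (S2452; helper395)

`SS K i m = ⟨X x : m ≤ x i⟩`, `0 < m`, is normalised by the maximal parabolic subgroup of the node `i`.
-/

set_option autoImplicit false
set_option linter.unusedSectionVars false

namespace Cfsg.Agent.H395.FR

open Subgroup CoxeterSystem Cfsg.Agent.ChevalleyStructure.CoxeterGeom Cfsg.Agent.Tits.Roots Cfsg.Agent.Tits.Core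
  Cfsg.Agent.Tits.Exchange Cfsg.Agent.Nodes.Reps Cfsg.Agent.Nodes.BNOf Cfsg.Agent.Nodes.StabComb
  Cfsg.Agent.Nodes.Bruhat Cfsg.Agent.Nodes.OppDec Cfsg.Agent.Nodes.LeviDec Cfsg.Agent.Nodes.NormX
  Cfsg.Agent.Nodes.Coroot Cfsg.Agent.Nodes.RGDChev Cfsg.Agent.KFacts.RgdPar Cfsg.Agent.KFacts.RgdTI
  Cfsg.Agent.KFacts.RgdCent Cfsg.Agent.KFacts.RgdChevCoord Cfsg.Agent.Nodes.ChevCls
  Cfsg.Agent.OddHalf.NI.ModelChev Cfsg.Agent.H225.PPow
open Cfsg.Lie Cfsg.Agent.ChevalleyStructure Cfsg.Agent.ChevalleyStructure.Elts
  Cfsg.Agent.ChevalleyStructure.RootVec Cfsg.Agent.ChevalleyStructure.NPerm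
  Cfsg.Agent.ChevalleyStructure.CoxeterGeomTypes
open Cfsg.Agent.H701.F43.Cent (hF cF nroots finW)
open Cfsg.Agent.KFacts.RgdFilt Cfsg.Agent.KFacts.RgdBorelTits
open scoped commutatorElement
open Cfsg.Agent.H520.FC (PK VK XT intComm)
open Cfsg.Agent.H224.FR (EE X mem_X X_le_EE EE_le EE_congr)

universe u

variable (K : Type u) [Field K]

/-- the join over the roots with coefficient at least `m` at the node `i` -/
def SS (i : Fin 4) (m : ℤ) : Subgroup ↥(chevF4.group K) :=
  RGD.Sup (XX chevF4 4 K) {x | IsRoot cF hF.isCartan x ∧ m ≤ x i}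

variable {K}

theorem X_norm {i : Fin 4} {m : ℤ} (hm : 0 < m) {y : Fin 4 → ℤ} (hy : IsRoot cF hF.isCartan y) (h0 : 0 ≤ y i) :
    XX chevF4 4 K y ≤ normalizer (SS K i m : Set ↥(chevF4.group K)) := by
  have key : ∀ a ∈ XX chevF4 4 K y, cj a (SS K i m) ≤ SS K i m := by
    intro a ha
    rw [SS, RGD.cj_Sup]
    refine iSup_le ?_
    rintro ⟨z, hz⟩
    by_cases hyz : y = z
    · subst hyz
      rw [cj_eq_of_mem ha]
      exact RGD.le_Sup hz
    · intro b hb
      rw [mem_cj] at hb
      have hne : y ≠ -z := by
        rintro rfl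
        have h1 := hz.2
        rw [Pi.neg_apply] at h0
        omega
      have h1 := intComm y z hy hz.1 hyz hne a ha _ hb
      have h2 : b = ⁅a, a⁻¹ * b * a⁆ * (a⁻¹ * b * a) := by
        rw [commutatorElement_def]; group
      rw [h2]
      refine mul_mem ?_ (RGD.le_Sup hz hb)
      have h3 : FS (XX chevF4 4 K) {w | IB cF hF.isCartan y z w} ≤
          RGD.Sup (XX chevF4 4 K) {x | IsRoot cF hF.isCartan x ∧ m ≤ x i} := by
        refine FS_le fun w hw => RGD.le_Sup ?_
        obtain ⟨hw1, c, d, hc, hd, e⟩ := hw
        refine ⟨hw1, ?_⟩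
        rw [e, Pi.add_apply, Pi.smul_apply, Pi.smul_apply, smul_eq_mul, smul_eq_mul]
        have h4 := hz.2
        have h5 : 0 ≤ c * y i := mul_nonneg hc.le h0
        have h6 : z i ≤ d * z i := le_mul_of_one_le_left (by omega) hd
        omega
      exact h3 h1
  intro a ha
  rw [mem_normalizer_iff_cj]
  apply le_antisymm (key a ha)
  have h1 := key a⁻¹ (inv_mem ha)
  have h2 := cj_mono a h1
  rwa [cj_cj_inv] at h2

variable [Finite K]

theorem PK_norm {i : Fin 4} {m : ℤ} (hm : 0 < m) : PK K {k | k ≠ i} ≤ normalizer (SS K i m : Set ↥(chevF4.group K)) := by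
  obtain ⟨p, hpc⟩ := CharP.exists K
  have : Fact p.Prime := ⟨CharP.char_is_prime K p⟩
  refine sup_le (sup_le ?_ ?_) ?_
  · exact (rgd (K := K) hF cF p).T_le_normalizer fun _ hx => hx.1
  · refine RGD.Sup_le fun x hx => X_norm hm hx.1 (le_of_eq ?_)
    exact (hx.2 i fun h => h rfl).symm
  · exact RGD.Sup_le fun x hx => X_norm hm hx.1 (hx.2.1 i)

/-- the join as a join over a list -/
theorem SS_eq {i : Fin 4} {m : ℤ} {L : List ℕ} (hL : ∀ r ∈ L, r < 48)
    (tab : ∀ r < chevF4.nroots, (m ≤ vec chevF4 4 r i ↔ r ∈ L)) : SS K i m = EE K L := by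
  apply le_antisymm
  · refine RGD.Sup_le fun x hx => ?_
    obtain ⟨r, hr, rfl⟩ := (isRoot_iff hF cF x).1 hx.1
    exact X_le_EE ((tab r hr).1 hx.2)
  · refine EE_le fun r hr => ?_
    have hr' : r < chevF4.nroots := by
      rw [nroots]
      exact hL r hr
    exact RGD.le_Sup ⟨(isRoot_iff hF cF _).2 ⟨r, hr', rfl⟩, (tab r hr').2 hr⟩

theorem SS_zero : SS K 0 2 = EE K [41, 42, 43, 44, 45, 46, 47] := SS_eq (by decide) (by decide +kernel)

theorem SS_one : SS K 1 4 = EE K [45, 46, 47] := SS_eq (by decide) (by decide +kernel)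

theorem SS_two : SS K 2 3 = EE K [46, 47] := SS_eq (by decide) (by decide +kernel)

theorem norm_zero : PK K {k | k ≠ 0} ≤ normalizer (EE K [41, 42, 43, 44, 45, 46, 47] : Set ↥(chevF4.group K)) := by
  rw [← SS_zero]
  exact PK_norm (by norm_num)

theorem norm_one : PK K {k | k ≠ 1} ≤ normalizer (EE K [45, 46, 47] : Set ↥(chevF4.group K)) := by
  rw [← SS_one]
  exact PK_norm (by norm_num)

theorem norm_two : PK K {k | k ≠ 2} ≤ normalizer (EE K [46, 47] : Set ↥(chevF4.group K)) := by
  rw [← SS_two]
  exact PK_norm (by norm_num)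

theorem card_X {r : ℕ} (hr : r < 48) : Nat.card ↥(X K r) = Nat.card K := by
  obtain ⟨p, hpc⟩ := CharP.exists K
  have : Fact p.Prime := ⟨CharP.char_is_prime K p⟩
  have C := (coords (K := K) hF cF p).coord _ (H224.FR.isRoot hr)
  refine (Nat.card_congr (Equiv.ofBijective (fun a : K => (⟨xc hF (vec chevF4 4 r) a, (C.mem _).2 ⟨a, rfl⟩⟩ : ↥(X K r)))
    ⟨fun a b h => C.inj (congrArg Subtype.val h), ?_⟩)).symm
  rintro ⟨y, hy⟩
  obtain ⟨a, rfl⟩ := (C.mem _).1 hy
  exact ⟨a, rfl⟩

/-- two different root groups of positive roots generate a group of order at least `q²` -/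
theorem card_two {L : List ℕ} (h6 : 46 ∈ L) (h7 : 47 ∈ L) : Nat.card K ^ 2 ≤ Nat.card ↥(EE K L) := by
  have : Finite ↥(chevF4.group K) := inferInstance
  obtain ⟨p, hpc⟩ := CharP.exists K
  have : Fact p.Prime := ⟨CharP.char_is_prime K p⟩
  have hd : X K 46 ⊓ X K 47 = ⊥ := by
    refine X_inf_X (rgd (K := K) hF cF p) (H224.FR.isRoot (by norm_num)) (H224.FR.isRoot (by norm_num)) fun h => ?_
    have h1 := congrFun h 3
    revert h1
    decide +kernel
  rw [pow_two]
  nth_rewrite 1 [← card_X (K := K) (r := 46) (by norm_num)]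
  rw [← card_X (K := K) (r := 47) (by norm_num), ← Nat.card_prod]
  refine Nat.card_le_card_of_injective (fun x : ↥(X K 46) × ↥(X K 47) =>
    (⟨x.1 * x.2, mul_mem (X_le_EE h6 x.1.2) (X_le_EE h7 x.2.2)⟩ : ↥(EE K L))) ?_
  rintro ⟨⟨a, ha⟩, ⟨b, hb⟩⟩ ⟨⟨a', ha'⟩, ⟨b', hb'⟩⟩ e
  have e1 : a * b = a' * b' := congrArg Subtype.val e
  have e2 : a'⁻¹ * a = b' * b⁻¹ := by
    rw [inv_mul_eq_iff_eq_mul, ← mul_assoc, ← e1, mul_inv_cancel_right]
  have e3 : a'⁻¹ * a ∈ X K 46 ⊓ X K 47 :=
    Subgroup.mem_inf.2 ⟨mul_mem (inv_mem ha') ha, by rw [e2]; exact mul_mem hb' (inv_mem hb)⟩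
  rw [hd, Subgroup.mem_bot] at e3
  have e4 : a = a' := (inv_mul_eq_one.1 e3).symm
  subst e4
  have e5 : b = b' := mul_left_cancel e1
  subst e5
  rfl

end Cfsg.Agent.H395.FR
end

-- part: H994/FR/Lng
section
/-!
# `F₄(q)`: the elements of the group `⟨X₄₅, X₄₆, X₄₇⟩` of order `q³` are long root elements (S2452; helper994)

`lng_E3` : every `1 ≠ e` in `EE K [45, 46, 47]` is conjugate to `xc hF (vec chevF4 4 47) c`, `c ≠ 0`.
-/

set_option autoImplicit false
set_option linter.unusedSectionVars false

namespace Cfsg.Agent.H994.FR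

open CoxeterSystem Cfsg.Agent.ChevalleyStructure.CoxeterGeom Cfsg.Agent.Tits.Roots Cfsg.Agent.Tits.Core
  Cfsg.Agent.Tits.Exchange Cfsg.Agent.Nodes.Reps Cfsg.Agent.Nodes.BNOf Cfsg.Agent.Nodes.StabComb
  Cfsg.Agent.Nodes.Bruhat Cfsg.Agent.Nodes.OppDec Cfsg.Agent.Nodes.LeviDec Cfsg.Agent.Nodes.NormX
  Cfsg.Agent.Nodes.Coroot Cfsg.Agent.Nodes.RGDChev Cfsg.Agent.KFacts.RgdPar Cfsg.Agent.KFacts.RgdTI
  Cfsg.Agent.KFacts.RgdCent Cfsg.Agent.KFacts.RgdChevCoord Cfsg.Agent.Nodes.ChevCls
  Cfsg.Agent.OddHalf.NI.ModelChev Cfsg.Agent.H225.PPow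
open Cfsg.Lie Cfsg.Agent.ChevalleyStructure Cfsg.Agent.ChevalleyStructure.Elts
  Cfsg.Agent.ChevalleyStructure.RootVec Cfsg.Agent.ChevalleyStructure.NPerm
  Cfsg.Agent.ChevalleyStructure.CoxeterGeomTypes
open Cfsg.Agent.H701.F43.Cent (hF cF nroots)
open Cfsg.Agent.H224.FR (EE mem_X cj_X EE_le)
open Cfsg.Agent.H446.FC (rel X_add X_zero X_neg X_comm)

universe u

variable {K : Type u} [Field K]

/-- root elements -/
local notation "Xr" => Cfsg.Agent.H446.FC.X

theorem xc_eq {r : ℕ} (hr : r < 48) (t : K) : xc hF (vec chevF4 4 r) t = Xr r t :=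
  Subtype.ext (coe_xc hF (by rw [nroots]; exact hr) t)

theorem tab : chevF4.commTerms 25 45 = [(46, 1, 1, 1)] ∧ chevF4.commTerms 25 46 = [] ∧ chevF4.commTerms 25 47 = [] ∧
    chevF4.commTerms 26 45 = [(47, 1, 1, 1)] ∧ chevF4.commTerms 26 46 = [] ∧ chevF4.commTerms 26 47 = [] ∧
    chevF4.commTerms 24 46 = [(47, 1, 1, 1)] ∧ chevF4.commTerms 24 47 = [] := by decide +kernel

theorem negtab : chevF4.neg 25 = 22 ∧ chevF4.neg 26 = 21 ∧ chevF4.neg 24 = 23 := by decide +kernel

theorem rel_one {s r m : ℕ} (hs : s < 48) (hr : r < 48) (h1 : r ≠ s) (h2 : r ≠ chevF4.neg s)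
    (h : chevF4.commTerms s r = [(m, 1, 1, 1)]) (u t : K) :
    (Xr s u)⁻¹ * Xr r t * Xr s u = Xr r t * Xr m (-u * t) := by
  rw [rel hs hr h1 h2, h, List.map_cons, List.map_nil, List.prod_cons, List.prod_nil, mul_one]
  simp

theorem rel_nil {s r : ℕ} (hs : s < 48) (hr : r < 48) (h1 : r ≠ s) (h2 : r ≠ chevF4.neg s)
    (h : chevF4.commTerms s r = []) (u t : K) : (Xr s u)⁻¹ * Xr r t * Xr s u = Xr r t := by
  rw [rel hs hr h1 h2, h, List.map_nil, List.prod_nil, mul_one]

/-- the elements -/
noncomputable def e3 (a b c : K) : ↥(chevF4.group K) := Xr 45 a * Xr 46 b * Xr 47 c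

theorem cm {r s : ℕ} (hr : r ∈ [45, 46, 47]) (hs : s ∈ [45, 46, 47]) (t u : K) : Xr r t * Xr s u = Xr s u * Xr r t := by
  have h : ∀ r ∈ [45, 46, 47], r ∈ Cfsg.Agent.H446.FC.L7 := by decide
  exact (X_comm (h r hr) (h s hs) t u).eq

theorem e3_mul (a b c a' b' c' : K) : e3 a b c * e3 a' b' c' = e3 (a + a') (b + b') (c + c') := by
  unfold e3
  rw [X_add, X_add, X_add]
  have h1 := cm (K := K) (r := 47) (s := 45) (by simp) (by simp) c a'
  have h2 := cm (K := K) (r := 46) (s := 45) (by simp) (by simp) b a'
  have h3 := cm (K := K) (r := 47) (s := 46) (by simp) (by simp) c b'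
  calc Xr 45 a * Xr 46 b * Xr 47 c * (Xr 45 a' * Xr 46 b' * Xr 47 c')
      = Xr 45 a * Xr 46 b * (Xr 47 c * Xr 45 a') * Xr 46 b' * Xr 47 c' := by group
    _ = Xr 45 a * (Xr 46 b * Xr 45 a') * (Xr 47 c * Xr 46 b') * Xr 47 c' := by rw [h1]; group
    _ = _ := by rw [h2, h3]; group

theorem e3_zero : e3 (0 : K) 0 0 = 1 := by
  unfold e3
  rw [X_zero, X_zero, X_zero, mul_one, mul_one]

/-- the subgroup -/
def S3 (K : Type u) [Field K] : Subgroup ↥(chevF4.group K) where
  carrier := {g | ∃ a b c : K, g = e3 a b c}
  one_mem' := ⟨0, 0, 0, e3_zero.symm⟩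
  mul_mem' := by
    rintro _ _ ⟨a, b, c, rfl⟩ ⟨a', b', c', rfl⟩
    exact ⟨_, _, _, e3_mul ..⟩
  inv_mem' := by
    rintro _ ⟨a, b, c, rfl⟩
    refine ⟨-a, -b, -c, ?_⟩
    rw [inv_eq_iff_mul_eq_one, e3_mul, add_neg_cancel, add_neg_cancel, add_neg_cancel, e3_zero]

theorem mem_e3 {e : ↥(chevF4.group K)} (he : e ∈ EE K [45, 46, 47]) : ∃ a b c : K, e = e3 a b c := by
  have h : EE K [45, 46, 47] ≤ S3 K := by
    refine EE_le fun r hr => ?_
    intro y hy
    simp only [List.mem_cons, List.not_mem_nil, or_false] at hr
    rcases hr with rfl | rfl | rfl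
    · obtain ⟨t, rfl⟩ := (mem_X (K := K) (by norm_num) y).1 hy
      exact ⟨t, 0, 0, by rw [xc_eq (by norm_num), e3, X_zero, X_zero, mul_one, mul_one]⟩
    · obtain ⟨t, rfl⟩ := (mem_X (K := K) (by norm_num) y).1 hy
      exact ⟨0, t, 0, by rw [xc_eq (by norm_num), e3, X_zero, X_zero, mul_one, one_mul]⟩
    · obtain ⟨t, rfl⟩ := (mem_X (K := K) (by norm_num) y).1 hy
      exact ⟨0, 0, t, by rw [xc_eq (by norm_num), e3, X_zero, X_zero, mul_one, one_mul]⟩
  exact h he

theorem cj3 (g x y z : ↥(chevF4.group K)) : g⁻¹ * (x * y * z) * g = (g⁻¹ * x * g) * (g⁻¹ * y * g) * (g⁻¹ * z * g) := by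
  group

theorem conj25 (a b c u : K) : (Xr 25 u)⁻¹ * e3 a b c * Xr 25 u = e3 a (b - u * a) c := by
  obtain ⟨h1, h2, h3, -⟩ := tab
  obtain ⟨n1, -⟩ := negtab
  unfold e3
  rw [cj3, rel_one (by norm_num) (by norm_num) (by norm_num) (by rw [n1]; norm_num) h1,
    rel_nil (by norm_num) (by norm_num) (by norm_num) (by rw [n1]; norm_num) h2,
    rel_nil (by norm_num) (by norm_num) (by norm_num) (by rw [n1]; norm_num) h3, mul_assoc (Xr 45 a), ← X_add]
  congr 3
  ring

theorem conj26 (a b c u : K) : (Xr 26 u)⁻¹ * e3 a b c * Xr 26 u = e3 a b (c - u * a) := by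
  obtain ⟨-, -, -, h1, h2, h3, -⟩ := tab
  obtain ⟨-, n1, -⟩ := negtab
  unfold e3
  rw [cj3, rel_one (by norm_num) (by norm_num) (by norm_num) (by rw [n1]; norm_num) h1,
    rel_nil (by norm_num) (by norm_num) (by norm_num) (by rw [n1]; norm_num) h2,
    rel_nil (by norm_num) (by norm_num) (by norm_num) (by rw [n1]; norm_num) h3]
  have h4 := cm (K := K) (r := 47) (s := 46) (by simp) (by simp) (-u * a) b
  calc Xr 45 a * Xr 47 (-u * a) * Xr 46 b * Xr 47 c = Xr 45 a * (Xr 47 (-u * a) * Xr 46 b) * Xr 47 c := by group
    _ = Xr 45 a * Xr 46 b * (Xr 47 (-u * a) * Xr 47 c) := by rw [h4]; group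
    _ = _ := by rw [← X_add]; congr 2; ring

theorem conj24 (b c u : K) : (Xr 24 u)⁻¹ * e3 0 b c * Xr 24 u = e3 0 b (c - u * b) := by
  obtain ⟨-, -, -, -, -, -, h1, h2⟩ := tab
  obtain ⟨-, -, n1⟩ := negtab
  unfold e3
  rw [X_zero, cj3, rel_one (by norm_num) (by norm_num) (by norm_num) (by rw [n1]; norm_num) h1,
    rel_nil (by norm_num) (by norm_num) (by norm_num) (by rw [n1]; norm_num) h2]
  calc (Xr 24 u)⁻¹ * 1 * Xr 24 u * (Xr 46 b * Xr 47 (-u * b)) * Xr 47 c = Xr 46 b * (Xr 47 (-u * b) * Xr 47 c) := by group
    _ = _ := by rw [← X_add, one_mul]; congr 2; ring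

/-- reduction to one root group -/
theorem exists_one {e : ↥(chevF4.group K)} (he : e ∈ EE K [45, 46, 47]) :
    ∃ x : ↥(chevF4.group K), ∃ r ∈ [45, 46, 47], ∃ t : K, x * e * x⁻¹ = Xr r t := by
  obtain ⟨a, b, c, rfl⟩ := mem_e3 he
  by_cases ha : a = 0
  · subst ha
    by_cases hb : b = 0
    · subst hb
      exact ⟨1, 47, by simp, c, by rw [e3, X_zero, X_zero]; group⟩
    · refine ⟨(Xr 24 (c / b))⁻¹, 46, by simp, b, ?_⟩
      rw [inv_inv, conj24, div_mul_cancel₀ _ hb, sub_self, e3, X_zero, X_zero, one_mul, mul_one]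
  · refine ⟨(Xr 26 (c / a))⁻¹ * (Xr 25 (b / a))⁻¹, 45, by simp, a, ?_⟩
    rw [mul_inv_rev, inv_inv, inv_inv]
    have h1 := conj25 a b c (b / a)
    rw [div_mul_cancel₀ _ ha, sub_self] at h1
    have h2 := conj26 a 0 c (c / a)
    rw [div_mul_cancel₀ _ ha, sub_self] at h2
    calc (Xr 26 (c / a))⁻¹ * (Xr 25 (b / a))⁻¹ * e3 a b c * (Xr 25 (b / a) * Xr 26 (c / a))
        = (Xr 26 (c / a))⁻¹ * ((Xr 25 (b / a))⁻¹ * e3 a b c * Xr 25 (b / a)) * Xr 26 (c / a) := by group
      _ = e3 a 0 0 := by rw [h1, h2]
      _ = Xr 45 a := by rw [e3, X_zero, X_zero, mul_one, mul_one]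

theorem wtab : wact chevF4 ([3] : List (Fin 4)) 46 = 47 ∧ wact chevF4 ([3, 2] : List (Fin 4)) 45 = 47 ∧
    wact chevF4 ([] : List (Fin 4)) 47 = 47 := by decide +kernel

/-- **the elements of `⟨X₄₅, X₄₆, X₄₇⟩` are long root elements** -/
theorem lng_E3 [Finite K] {e : ↥(chevF4.group K)} (he : e ∈ EE K [45, 46, 47]) (he1 : e ≠ 1) :
    ∃ x : ↥(chevF4.group K), ∃ c : K, c ≠ 0 ∧ x * e * x⁻¹ = xc hF (vec chevF4 4 47) c := by
  obtain ⟨p, hpc⟩ := CharP.exists K
  have : Fact p.Prime := ⟨CharP.char_is_prime K p⟩
  obtain ⟨x, r, hr, t, hx⟩ := exists_one he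
  have hw : ∃ ω : List (Fin 4), wact chevF4 ω r = 47 := by
    obtain ⟨w1, w2, w3⟩ := wtab
    simp only [List.mem_cons, List.not_mem_nil, or_false] at hr
    rcases hr with rfl | rfl | rfl
    · exact ⟨_, w2⟩
    · exact ⟨_, w1⟩
    · exact ⟨_, w3⟩
  have hr48 : r < 48 := by
    simp only [List.mem_cons, List.not_mem_nil, or_false] at hr
    omega
  obtain ⟨ω, hω⟩ := hw
  obtain ⟨g, hg⟩ := exists_rp cF (rgd (K := K) hF cF p).nsys (cF.wordProd ω)
  have h1 : g * Xr r t * g⁻¹ ∈ cj g (Cfsg.Agent.H224.FR.X K r) :=
    ⟨Xr r t, (mem_X hr48 _).2 ⟨t, (xc_eq hr48 t).symm⟩, rfl⟩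
  rw [cj_X p hg hr48, hω] at h1
  obtain ⟨c, hc⟩ := (mem_X (by norm_num) _).1 h1
  refine ⟨g * x, c, ?_, ?_⟩
  · rintro rfl
    rw [xc_eq (by norm_num), X_zero, ← hx] at hc
    apply he1
    have h2 : (g * x) * e * (g * x)⁻¹ = 1 := by rw [← hc]; group
    have h3 : e = (g * x)⁻¹ * ((g * x) * e * (g * x)⁻¹) * (g * x) := by group
    rw [h3, h2]
    group
  · rw [← hc, ← hx]
    group

end Cfsg.Agent.H994.FR
end

-- part: H395/FR/Dich
section
/-!
# `F₄(q)`, `q` odd: the dichotomy for the maximal parabolic subgroups of the nodes `0`, `1`, `2` (S2452; helper395)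

`dich` : `g ∈ P_i`, `i ≠ 3`: `‖χ g‖ ≤ (r + 1 / q²) χ(1)`, or `g` is conjugate into the centraliser of `X_θ`.
-/

set_option autoImplicit false
set_option linter.unusedSectionVars false

namespace Cfsg.Agent.H395.FR

open Module Subgroup CoxeterSystem Cfsg.Agent.ChevalleyStructure.CoxeterGeom Cfsg.Agent.Tits.Roots
  Cfsg.Agent.Nodes.Reps Cfsg.Agent.Nodes.BNOf Cfsg.Agent.Nodes.StabComb Cfsg.Agent.Nodes.LeviDec
  Cfsg.Agent.Nodes.RGDChev Cfsg.Agent.KFacts.RgdChevCoord Cfsg.Agent.Nodes.ChevCls
  Cfsg.Agent.OddHalf.NI.ModelChev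
open Cfsg.Lie Cfsg.Agent.ChevalleyStructure Cfsg.Agent.ChevalleyStructure.RootVec
  Cfsg.Agent.ChevalleyStructure.NPerm
open Cfsg.Agent.H701.F43.Cent (hF cF nroots finW VV MM)
open Cfsg.Agent.H520.FC (PK VK XT)
open Cfsg.Agent.H224.FR (EE X mem_X X_le_EE EE_le EE_congr AA L0)

universe u

section abs

variable {G : Type*} [Group G] [Finite G] {V : Type*} [AddCommGroup V] [Module ℂ V] [FiniteDimensional ℂ V]
  {ρ : Representation ℂ G V}

/-- the counting form -/
theorem bound_inf {Q S : Subgroup G} (hQ : ∀ a ∈ Q, ∀ b ∈ Q, a * b = b * a) (hS : S ≤ Q) {g : G}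
    (hg : g ∈ normalizer (Q : Set G)) {r : ℝ} (hr : 0 ≤ r) (h : ∀ a ∈ Q, a ≠ 1 → ‖ρ.character a‖ ≤ r * finrank ℂ V)
    {n : ℕ} (hn : 0 < n) (hn' : n ≤ Nat.card S) :
    ‖ρ.character g‖ ≤ (r + (n : ℝ)⁻¹) * finrank ℂ V ∨ ∃ e ∈ S, e ≠ 1 ∧ g * e = e * g := by
  by_cases hc : ∃ e ∈ S, e ≠ 1 ∧ g * e = e * g
  · exact Or.inr hc
  push Not at hc
  refine Or.inl ((bound_abelian ρ hQ le_rfl hg hr h).trans ?_)
  have h1 : Nat.card ↥(Q ⊓ centralizer {g}) * Nat.card S ≤ Nat.card Q := by
    rw [← Nat.card_prod]
    refine Nat.card_le_card_of_injective (fun x : ↥(Q ⊓ centralizer {g}) × ↥S =>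
      (⟨x.1 * x.2, mul_mem x.1.2.1 (hS x.2.2)⟩ : ↥Q)) ?_
    rintro ⟨⟨a, ha⟩, ⟨b, hb⟩⟩ ⟨⟨a', ha'⟩, ⟨b', hb'⟩⟩ e
    have e1 : a * b = a' * b' := congrArg Subtype.val e
    have e2 : a'⁻¹ * a = b' * b⁻¹ := by
      rw [inv_mul_eq_iff_eq_mul, ← mul_assoc, ← e1, mul_inv_cancel_right]
    have e3 : a'⁻¹ * a ∈ Q ⊓ centralizer {g} := mul_mem (inv_mem ha') ha
    have e4 : a'⁻¹ * a = 1 := by
      by_contra hne
      refine hc _ (by rw [e2]; exact mul_mem hb' (inv_mem hb)) hne ?_
      have h2 := mem_centralizer_singleton_iff.1 e3.2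
      first
        | exact h2
        | exact h2.symm
    have e5 : a = a' := (inv_mul_eq_one.1 e4).symm
    subst e5
    have e6 : b = b' := mul_left_cancel e1
    subst e6
    rfl
  have hQ0 : (0 : ℝ) < Nat.card Q := by exact_mod_cast Nat.card_pos
  have hn0 : (0 : ℝ) < n := by exact_mod_cast hn
  have h2 : (Nat.card ↥(Q ⊓ centralizer {g}) : ℝ) / Nat.card Q ≤ (n : ℝ)⁻¹ := by
    rw [div_le_iff₀ hQ0, inv_mul_eq_div, le_div_iff₀ hn0]
    exact_mod_cast (Nat.mul_le_mul_left _ hn').trans h1
  exact mul_le_mul_of_nonneg_right (by linarith only [h2]) (Nat.cast_nonneg _)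

end abs

variable {K : Type u} [Field K] [Finite K]

/-- `A` is abelian -/
theorem comm_A (h2 : (2 : K) ≠ 0) {a b : ↥(chevF4.group K)} (ha : a ∈ EE K [41, 42, 43, 44, 45, 46, 47])
    (hb : b ∈ EE K [41, 42, 43, 44, 45, 46, 47]) : a * b = b * a := by
  obtain ⟨g, hg⟩ := H224.FR.exists_conj (K := K)
  have ha' : a ∈ (EE K L0).map (MulAut.conj g).toMonoidHom := by
    rw [← hg]
    exact ha
  have hb' : b ∈ (EE K L0).map (MulAut.conj g).toMonoidHom := by
    rw [← hg]
    exact hb
  obtain ⟨x, hx, rfl⟩ := ha'
  obtain ⟨y, hy, rfl⟩ := hb'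
  rw [← map_mul, ← map_mul, H572.FR.comm_EE h2 hx hy]

theorem le_A {L : List ℕ} (hL : ∀ r ∈ L, r ∈ [41, 42, 43, 44, 45, 46, 47]) :
    EE K L ≤ EE K [41, 42, 43, 44, 45, 46, 47] := EE_le fun r hr => X_le_EE (hL r hr)

variable {V : Type*} [AddCommGroup V] [Module ℂ V] [FiniteDimensional ℂ V] {ρ : Representation ℂ ↥(chevF4.group K) V}

/-- **The dichotomy.** -/
theorem dich_gen (h2 : (2 : K) ≠ 0) {r : ℝ} (hr0 : 0 ≤ r)
    (hr : ∀ a ∈ EE K AA, a ≠ 1 → ‖ρ.character a‖ ≤ r * finrank ℂ V) {i : Fin 4} (hi : i ≠ 3) {g : ↥(chevF4.group K)}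
    (hg : g ∈ PK K {k | k ≠ i}) :
    ‖ρ.character g‖ ≤ (r + ((Nat.card K : ℝ) ^ 2)⁻¹) * finrank ℂ V ∨
      ∃ x : ↥(chevF4.group K), ∃ c : K, c ≠ 0 ∧
        (x * g * x⁻¹) * xc hF (vec chevF4 4 47) c = xc hF (vec chevF4 4 47) c * (x * g * x⁻¹) := by
  have key : ∀ (Q S : List ℕ), (∀ r ∈ Q, r ∈ [41, 42, 43, 44, 45, 46, 47]) → (∀ r ∈ S, r ∈ Q) →
      (∀ r ∈ S, r ∈ [45, 46, 47]) → 46 ∈ S → 47 ∈ S → g ∈ normalizer (EE K Q : Set ↥(chevF4.group K)) →
      ‖ρ.character g‖ ≤ (r + ((Nat.card K : ℝ) ^ 2)⁻¹) * finrank ℂ V ∨
      ∃ x : ↥(chevF4.group K), ∃ c : K, c ≠ 0 ∧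
        (x * g * x⁻¹) * xc hF (vec chevF4 4 47) c = xc hF (vec chevF4 4 47) c * (x * g * x⁻¹) := by
    intro Q S hQ hSQ hS h6 h7 hgN
    have hq : 0 < Nat.card K ^ 2 := pow_pos Nat.card_pos 2
    rcases bound_inf (ρ := ρ) (Q := EE K Q) (S := EE K S) (fun a ha b hb => comm_A h2 (le_A hQ ha) (le_A hQ hb))
        (EE_le fun r hr => X_le_EE (hSQ r hr)) hgN hr0 (fun a ha ha1 => hr a (le_A hQ ha) ha1) hq
        (card_two h6 h7) with h | ⟨e, he, he1, hge⟩
    · left
      rw [Nat.cast_pow] at h
      exact h
    · right
      obtain ⟨x, c, hc, hx⟩ := H994.FR.lng_E3 ((EE_le fun r hr => X_le_EE (hS r hr) : EE K S ≤ EE K [45, 46, 47]) he) he1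
      refine ⟨x, c, hc, ?_⟩
      rw [← hx]
      calc x * g * x⁻¹ * (x * e * x⁻¹) = x * (g * e) * x⁻¹ := by group
        _ = x * (e * g) * x⁻¹ := by rw [hge]
        _ = x * e * x⁻¹ * (x * g * x⁻¹) := by group
  fin_cases i
  · exact key [41, 42, 43, 44, 45, 46, 47] [45, 46, 47] (by decide) (by decide) (by decide) (by decide) (by decide)
      (norm_zero hg)
  · exact key [45, 46, 47] [45, 46, 47] (by decide) (by decide) (by decide) (by decide) (by decide) (norm_one hg)
  · exact key [46, 47] [46, 47] (by decide) (by decide) (by decide) (by decide) (by decide) (norm_two hg)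
  · exact absurd rfl hi

/-- the element commutes with all of `X_θ` -/
theorem mem_cent {g : ↥(chevF4.group K)} {c : K} (hc : c ≠ 0)
    (h : g * xc hF (vec chevF4 4 47) c = xc hF (vec chevF4 4 47) c * g) :
    g ∈ VV K ⊔ MM K ∧ ∀ z ∈ XT K, g * z = z * g := by
  obtain ⟨v, hv, m, hm, rfl⟩ := Cfsg.Agent.H701.F43.Cent.cent hc h
  have h1 : v * m ∈ VV K ⊔ MM K := mul_mem (mem_sup_left hv) (mem_sup_right hm)
  exact ⟨h1, fun z hz => Cfsg.Agent.H701.F43.Cent.comm_theta h1 hz⟩

/-- **The dichotomy, `q ≥ 9`.** -/
theorem dich (h2 : (2 : K) ≠ 0) (h9 : 9 ≤ Nat.card K) {d : ℕ}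
    (ρ : Representation ℂ ↥(chevF4.group K) (Fin d → ℂ)) (hirr : ρ.IsIrreducible) (hρ : ρ.character ≠ (fun _ => 1))
    {i : Fin 4} (hi : i ≠ 3) {g : ↥(chevF4.group K)} (hg : g ∈ PK K {k | k ≠ i}) :
    ‖ρ.character g‖ ≤ (1 / 50 + ((Nat.card K : ℝ) ^ 2)⁻¹) * d ∨
      ∃ x : ↥(chevF4.group K), x * g * x⁻¹ ∈ VV K ⊔ MM K ∧ ∀ z ∈ XT K, (x * g * x⁻¹) * z = z * (x * g * x⁻¹) := by
  have hd : (finrank ℂ (Fin d → ℂ) : ℝ) = d := by rw [finrank_fin_fun]
  rcases dich_gen (ρ := ρ) h2 (by norm_num : (0 : ℝ) ≤ 1 / 50)
      (fun a ha ha1 => by rw [hd]; exact H224.FR.ratioA_nine h2 h9 ρ hirr hρ ha ha1) hi hg with h | ⟨x, c, hc, hx⟩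
  · left
    rw [hd] at h
    exact h
  · exact Or.inr ⟨x, mem_cent hc hx⟩

end Cfsg.Agent.H395.FR
end

-- part: H572/FR/Fin
section
/-!
# `F₄(q)`, `q` odd, `q ≥ 9` (S2452, helper572): the ratio bound for all `p`-singular elements and the row

`Dich K` : the statement of box (D) (helper395); `ten_of` : `10 |χ(g)| < χ(1)`; `row_of` : `Row3 F₄(q)`.
-/

set_option autoImplicit false
set_option linter.unusedSectionVars false

namespace Cfsg.Agent.H572.FR

open Cfsg Module Cfsg.Lie Cfsg.Agent.Nodes.RGDChev Cfsg.Agent.KFacts.RgdChevCoord Cfsg.Agent.Nodes.BNOf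
open Cfsg.Agent.H701.F43.Cent (hF cF VV MM J3 comm_theta)
open Cfsg.Agent.H520.FC (PK VK XT)
open Cfsg.Agent.H980.RB (xt xt_mem xt_zero mem_XT)

universe u

/-- **(D)** -/
def Dich (K : Type u) [Field K] : Prop := ∀ (d : ℕ) (σ : Representation ℂ ↥(chevF4.group K) (Fin d → ℂ)),
  σ.IsIrreducible → (σ.character ≠ fun _ => 1) → HD σ

section

variable {K : Type u} [Field K] [Finite K]

/-- **the ratio bound** -/
theorem ten_of {p : ℕ} [Fact p.Prime] [CharP K p] (h2 : (2 : K) ≠ 0) (h9 : 9 ≤ Nat.card K) (hD : Dich K)
    {d : ℕ} (σ : Representation ℂ ↥(chevF4.group K) (Fin d → ℂ)) (hirr : σ.IsIrreducible)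
    (hσ : σ.character ≠ fun _ => 1) {g : ↥(chevF4.group K)} (hg : p ∣ orderOf g) : 10 * ‖σ.character g‖ < d := by
  have hX : XB K := fun g hg hgQ => Cfsg.Agent.H351.FR.X.x_box_sup h2 hg hgQ
  have hq : (9 : ℝ) ≤ (Nat.card K : ℝ) := by exact_mod_cast h9
  have hinv := num_inv hq
  have hrq : rq K = 1 / 50 + ((Nat.card K : ℝ) ^ 2)⁻¹ := rfl
  have hfr : (finrank ℂ (Fin d → ℂ) : ℝ) = d := by rw [Module.finrank_fintype_fun_eq_card, Fintype.card_fin]
  have hd : 0 < d := by
    rcases Nat.eq_zero_or_pos d with rfl | h
    · exfalso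
      have h1 : Subsingleton (Subrepresentation σ) := by
        refine ⟨fun A B => ?_⟩
        apply Subrepresentation.toSubmodule_injective
        exact Subsingleton.elim _ _
      exact not_subsingleton_iff_nontrivial.2 hirr.toNontrivial h1
    · exact h
  have hg1 : g ≠ 1 := by
    rintro rfl
    rw [orderOf_one] at hg
    exact (Fact.out : p.Prime).one_lt.ne' (Nat.dvd_one.1 hg)
  have hconj : ∀ x y : ↥(chevF4.group K), y ≠ 1 → x * y * x⁻¹ ≠ 1 := by
    intro x y hy h
    apply hy
    have h1 : y = x⁻¹ * (x * y * x⁻¹) * x := by group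
    rw [h1, h]
    group
  obtain ⟨x, i, hx⟩ := Cfsg.Agent.H744.FR.exists_par (K := K) (p := p) hg
  have hx1 := hconj x g hg1
  rw [← σ.char_conj g x]
  by_cases hi : i = 3
  · subst hi
    have hr0 : 0 ≤ rq K := by
      unfold rq
      positivity
    have h := Cfsg.Agent.H374.FR.Comm.p1 h2 h9 σ hr0 (fun y hy hy1 => by
      rw [hfr]
      exact ratio_rad σ h2 h9 hirr hσ hy hy1) hx1 hx (fun h3 h4 =>
        hX _ (Cfsg.Agent.H980.RB.mem_sup (mem_XT.2 ⟨1, rfl⟩) xt_ne_one (h3 _ (mem_XT.2 ⟨1, rfl⟩))) h4)
    rw [hfr] at h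
    exact ten_of_le hd (by linarith only [hinv, hrq]) h
  · rcases hD d σ hirr hσ i hi _ hx with h1 | ⟨y, h1⟩
    · exact ten_of_le hd (by linarith only [hinv, hrq]) h1
    · rw [← σ.char_conj _ y]
      exact ten_of_le hd (by linarith only [hinv, hrq]) (ratio_cen σ h2 h9 hX hirr hσ h1 (hconj y _ hx1))

end

/-- **the row** -/
theorem row_of {K : Type} [Field K] [Fintype K] {p : ℕ} (hp : p.Prime) [CharP K p] (hp2 : p ≠ 2)
    (hq : 9 ≤ Fintype.card K) (hD : Dich K) : Cfsg.Agent.H210.TC.Row3 ↥(chevF4.group K) := by
  have : Fact p.Prime := ⟨hp⟩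
  have h2 : (2 : K) ≠ 0 := by
    intro h
    have h1 : ((2 : ℕ) : K) = 0 := by exact_mod_cast h
    have h3 := (CharP.cast_eq_zero_iff K p 2).1 h1
    exact hp2 ((Nat.prime_dvd_prime_iff_eq hp Nat.prime_two).1 h3)
  refine Cfsg.Agent.H982.FR.row3_of_ratio hp hp2 (by omega) ?_
  intro g hg χ hχ
  obtain ⟨d, σ, hirr, hσ⟩ := χ.2
  have h1 : σ.character ≠ fun _ => 1 := by
    intro h
    apply hχ
    apply Subtype.ext
    rw [← hσ, h]
    rfl
  have h3 := ten_of (p := p) h2 (by rw [Nat.card_eq_fintype_card]; exact hq) hD σ hirr h1 hg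
  rw [← hσ, Representation.char_one, Module.finrank_fintype_fun_eq_card, Fintype.card_fin, Complex.norm_natCast]
  exact h3

/-- **(D)** from helper395 -/
theorem dich_all {K : Type u} [Field K] [Finite K] (h2 : (2 : K) ≠ 0) (h9 : 9 ≤ Nat.card K) : Dich K :=
  fun _ σ hirr hσ _ hi _ hg => (Cfsg.Agent.H395.FR.dich h2 h9 σ hirr hσ hi hg).imp id (fun ⟨x, hx, _⟩ => ⟨x, hx⟩)

theorem two_ne {K : Type u} [Field K] [Finite K] (ho : Odd (Nat.card K)) : (2 : K) ≠ 0 := by
  have : Fintype K := Fintype.ofFinite K
  intro h
  have h1 : ((Fintype.card K : ℕ) : K) = 0 := Nat.cast_card_eq_zero K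
  rw [Nat.card_eq_fintype_card] at ho
  obtain ⟨m, hm⟩ := ho
  rw [hm] at h1
  push_cast at h1
  rw [h, zero_mul, zero_add] at h1
  exact one_ne_zero h1

/-- **the row `F₄(q)`, `q` odd, `q ≥ 9`** -/
theorem row3_F4_odd {K : Type} [Field K] [Fintype K] (ho : Odd (Fintype.card K)) (hq : 9 ≤ Fintype.card K) :
    Cfsg.Agent.H210.TC.Row3 ↥(chevF4.group K) := by
  have h2 : (2 : K) ≠ 0 := two_ne (by rw [Nat.card_eq_fintype_card]; exact ho)
  obtain ⟨p, hpc⟩ := CharP.exists K
  have hp : p.Prime := CharP.char_is_prime K p
  have hp2 : p ≠ 2 := by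
    rintro rfl
    exact h2 (by exact_mod_cast CharP.cast_eq_zero K 2)
  exact row_of hp hp2 hq (dich_all h2 (by rw [Nat.card_eq_fintype_card]; exact hq))

end Cfsg.Agent.H572.FR
end

private theorem dce_faf5f79eda0d : _root_.True := by
  try have : _root_.True := by simp only [_root_.Cfsg.Agent.H994.FR.e3.eq_1]
  try have : _root_.True := by simp only [_root_.Cfsg.Agent.H210.FR.DOne.BG.congr_simp]
  try have : _root_.True := by simp only [_root_.Cfsg.Agent.H395.FR.SS.eq_1]
  exact _root_.True.intro
end

-- part: H598/F4/NumEven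
section
prune_inst 0xf43077457f0002004004001242007cf3ff000190002f800131860f460f8ff92080402f207aa00d0a900cb20418378068135401f0420000000a843600411f01a088aa52443310b3152e000f80f80f590c00300800000000000000000000041004010000000
set_option linter.all false
open scoped Cfsg.Agent.FastGrp

/-!
# S2452, F4(q), q = 4, 8, 16: the possible degrees, full range (helper598)

`d` divides `|F4(q)|`, `d ^ 2 ≤ |F4(q)|`, `d ≡ ±1` modulo `q ^ 4 - q ^ 2 + 1` and modulo `q ^ 4 + 1`: then `d` is `1`,
`q ^ 12`, `q ^ 24`, `D2 q` or `D3 q`.

The divisors are enumerated without their powers of two: `d' ^ t ≡ 1` modulo `m`, where `2 ^ t ≡ 1` modulo `m`.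
-/

set_option autoImplicit false

namespace Cfsg.Agent.H598.F4.Num

open Cfsg.Agent.H653.Sieve

/-- the test for the part prime to `2` -/
def leafE (B k m n x y t : ℕ) (l₁ l₂ l₃ : List ℕ) (d : ℕ) : Bool :=
  bif Nat.beq (Nat.mod (Nat.pow d t) m) 1 then allPow B (tstL B m n x y l₁ l₂ l₃) 2 k d else true

theorem pow_mod_one {m t i x : ℕ} (hm : 2 < m) (ht : Nat.mod (Nat.pow 2 t) m = 1) (hte : Even t) {a : ℤ}
    (ha : a = 1 ∨ a = -1) (h1 : (m : ℤ) ∣ ((x * 2 ^ i : ℕ) : ℤ) - a) : Nat.mod (Nat.pow x t) m = 1 := by
  show x ^ t % m = 1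
  have ht' : (2 : ℤ) ^ t ≡ 1 [ZMOD m] := by
    have h2 : 2 ^ t ≡ 1 [MOD m] := by
      show 2 ^ t % m = 1 % m
      rw [Nat.mod_eq_of_lt (show 1 < m by omega)]
      exact ht
    exact_mod_cast (Int.natCast_modEq_iff.2 h2)
  have h3 : ((x : ℤ) * 2 ^ i) ≡ a [ZMOD m] := by
    refine (Int.modEq_iff_dvd.2 ?_).symm
    push_cast at h1
    exact h1
  have h4 : ((x : ℤ) * 2 ^ i) ^ t ≡ a ^ t [ZMOD m] := h3.pow t
  have h5 : a ^ t = 1 := by
    rcases ha with rfl | rfl
    · exact one_pow t
    · exact hte.neg_one_pow
  have h6 : ((2 : ℤ) ^ i) ^ t ≡ 1 [ZMOD m] := by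
    have := ht'.pow i
    rw [one_pow] at this
    rwa [← pow_mul, mul_comm i t, pow_mul]
  have h7 : (x : ℤ) ^ t ≡ 1 [ZMOD m] := by
    calc (x : ℤ) ^ t = (x : ℤ) ^ t * 1 := (mul_one _).symm
      _ ≡ (x : ℤ) ^ t * ((2 : ℤ) ^ i) ^ t [ZMOD m] := h6.symm.mul_left _
      _ = ((x : ℤ) * 2 ^ i) ^ t := (mul_pow _ _ _).symm
      _ ≡ a ^ t [ZMOD m] := h4
      _ = 1 := h5
  have h8 : x ^ t ≡ 1 [MOD m] := by
    have : ((x ^ t : ℕ) : ℤ) ≡ ((1 : ℕ) : ℤ) [ZMOD m] := by exact_mod_cast h7
    exact Int.natCast_modEq_iff.1 this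
  have h9 : x ^ t % m = 1 % m := h8
  rwa [Nat.mod_eq_of_lt (show 1 < m by omega)] at h9

theorem leafE_spec {B k m n t : ℕ} {l₁ l₂ l₃ : List ℕ} (hm : 2 < m) (hn : 2 < n)
    (ht : Nat.mod (Nat.pow 2 t) m = 1) (hte : Even t) {x i : ℕ} (hi : i ≤ k)
    (hc : leafE B k m n (m - 1) (n - 1) t l₁ l₂ l₃ x = true)
    {a b : ℤ} (ha : a = 1 ∨ a = -1) (hb : b = 1 ∨ b = -1) (h1 : (m : ℤ) ∣ ((x * 2 ^ i : ℕ) : ℤ) - a)
    (h2 : (n : ℤ) ∣ ((x * 2 ^ i : ℕ) : ℤ) - b) (hB : (x * 2 ^ i) * (x * 2 ^ i) < B) :
    (x * 2 ^ i ∈ l₁ ∧ a = 1 ∧ b = 1) ∨ (x * 2 ^ i ∈ l₂ ∧ a = 1 ∧ b = -1) ∨ (x * 2 ^ i ∈ l₃ ∧ a = -1 ∧ b = 1) := by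
  have h3 := pow_mod_one hm ht hte ha h1
  have e : Nat.beq 1 1 = true := rfl
  rw [leafE, h3, e, cond_true] at hc
  exact tstL_spec hm hn (allPow_spec (by norm_num) hc i hi hB) ha hb h1 h2 hB

/-- **The general lemma.** -/
theorem keyE {N B k m n t : ℕ} {l₁ l₂ l₃ : List ℕ} {L : List (ℕ × ℕ)} (hL : ∀ pa ∈ L, pa.1.Prime)
    (hN : N = (2 ^ k * facProd L) * (m * n)) (hm : 2 < m) (hn : 2 < n)
    (ht : Nat.mod (Nat.pow 2 t) m = 1) (hte : Even t)
    (hc : allDiv B (leafE B k m n (m - 1) (n - 1) t l₁ l₂ l₃) L 1 = true) {d : ℕ} (hd : d ∣ N)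
    {a b : ℤ} (ha : a = 1 ∨ a = -1) (hb : b = 1 ∨ b = -1) (h1 : (m : ℤ) ∣ (d : ℤ) - a) (h2 : (n : ℤ) ∣ (d : ℤ) - b)
    (hB : d * d < B) : (d ∈ l₁ ∧ a = 1 ∧ b = 1) ∨ (d ∈ l₂ ∧ a = 1 ∧ b = -1) ∨ (d ∈ l₃ ∧ a = -1 ∧ b = 1) := by
  have hd' : d ∣ 2 ^ k * facProd L := by
    rw [hN] at hd
    exact ((coprime_of ha h1).mul_right (coprime_of hb h2)).dvd_of_dvd_mul_right hd
  obtain ⟨x, y, hx, hy, rfl⟩ := (Nat.dvd_mul).1 hd'
  obtain ⟨i, hi, rfl⟩ := (Nat.dvd_prime_pow Nat.prime_two).1 hx
  rw [mul_comm (2 ^ i) y] at h1 h2 hB ⊢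
  have hle : y ≤ y * 2 ^ i := Nat.le_mul_of_pos_right y (Nat.pow_pos (by norm_num))
  have h3 := allDiv_spec hL hc y hy (by
    rw [one_mul]
    exact lt_of_le_of_lt (Nat.mul_le_mul hle hle) hB)
  rw [one_mul] at h3
  exact leafE_spec hm hn ht hte hi h3 ha hb h1 h2 hB

private theorem allPow_of {B p : ℕ} {f : ℕ → Bool} : ∀ (a d : ℕ), (∀ i, f (d * p ^ i) = true) → allPow B f p a d = true
  | 0, d, h => by simpa [allPow] using h 0
  | a + 1, d, h => by
    have h0 := h 0
    rw [pow_zero, mul_one] at h0
    rw [allPow, h0, allPow_of a (d * p) fun i => by rw [mul_assoc, ← pow_succ']; exact h _]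
    exact Bool.cond_self _ _

private theorem leafE_of {B k m n x t s : ℕ} {l₁ l₂ l₃ : List ℕ} (hn : 2 < n) (hs : Nat.mod (Nat.pow 2 s) n = 1) (hse : Even s)
    (d : ℕ) (h : @Bool.rec (fun _ => Bool) true (leafE B k m n x (n - 1) t l₁ l₂ l₃ d)
      (Nat.beq (Nat.mod (Nat.pow (Nat.mod d n) s) n) 1) = true) : leafE B k m n x (n - 1) t l₁ l₂ l₃ d = true := by
  cases h1 : Nat.beq (Nat.mod (Nat.pow (Nat.mod d n) s) n) 1
  · have h2 : ∀ (i : ℕ) (a : ℤ), a = 1 ∨ a = -1 → ¬ (n : ℤ) ∣ ((d * 2 ^ i : ℕ) : ℤ) - a := by
      intro i a ha h3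
      have h4 : d ^ s % n = 1 := pow_mod_one hn hs hse ha h3
      rw [Nat.pow_mod] at h4
      rw [show Nat.mod (Nat.pow (Nat.mod d n) s) n = 1 from h4] at h1
      exact Bool.noConfusion h1
    rw [leafE, allPow_of]
    · exact Bool.cond_self _ _
    intro i
    have h3 : Nat.beq (Nat.mod (d * 2 ^ i) n) 1 = false := Bool.eq_false_iff.2 fun h3 => h2 i 1 (Or.inl rfl) (by
      have h4 : d * 2 ^ i % n = 1 := Nat.eq_of_beq_eq_true h3
      generalize d * 2 ^ i = e at h4
      have h5 := Nat.div_add_mod e n
      rw [h4] at h5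
      exact ⟨(e / n : ℕ), by rw [sub_eq_iff_eq_add]; exact_mod_cast h5.symm⟩)
    have h4 : Nat.beq (Nat.mod (d * 2 ^ i) n) (n - 1) = false := Bool.eq_false_iff.2 fun h3 => h2 i (-1) (Or.inr rfl) (by
      have h4 : d * 2 ^ i % n = n - 1 := Nat.eq_of_beq_eq_true h3
      generalize d * 2 ^ i = e at h4
      have h5 : e + 1 = n * (e / n + 1) := by
        have := Nat.div_add_mod e n
        rw [mul_add, mul_one]
        omega
      exact ⟨(e / n + 1 : ℕ), by rw [sub_neg_eq_add]; exact_mod_cast h5⟩)
    delta tstL
    rw [h3, h4]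
    simp only [cond_false, Bool.cond_self]
  · rwa [h1] at h

/-! ### `q = 4` -/

def L4 : List (ℕ × ℕ) := [(3, 6), (5, 4), (7, 2), (13, 2), (17, 2)]

theorem check_four : allDiv 19009825523840945451297669120001
    (leafE 19009825523840945451297669120001 48 241 257 240 256 24 [1, 281474976710656] [16777216, 241473960000] [2012774400]) L4 1 = true :=
  SieveFast.filt 4360025862749089 [] (fun _ _ h => absurd h List.not_mem_nil)
    (leafE_of (n := 257) (s := 16) (by decide) (by decide +kernel) (by decide)) (by decide +kernel)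

theorem num_full_four {d : ℕ} (hd : d ∣ ordF 4) {a b : ℤ} (ha : a = 1 ∨ a = -1) (hb : b = 1 ∨ b = -1)
    (h1 : ((4 ^ 4 - 4 ^ 2 + 1 : ℕ) : ℤ) ∣ (d : ℤ) - a) (h2 : ((4 ^ 4 + 1 : ℕ) : ℤ) ∣ (d : ℤ) - b)
    (hK : d * d ≤ ordF 4) :
    (d = 1 ∧ a = 1 ∧ b = 1) ∨ (d = 4 ^ 12 ∧ a = 1 ∧ b = -1) ∨ (d = D2 4 ∧ a = -1 ∧ b = 1) ∨
      (d = D3 4 ∧ a = 1 ∧ b = -1) ∨ (d = 4 ^ 24 ∧ a = 1 ∧ b = 1) := by
  have e1 : ordF 4 = (2 ^ 48 * facProd L4) * (241 * 257) := by decide +kernel
  have e2 : ordF 4 + 1 = 19009825523840945451297669120001 := by decide +kernel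
  have e3 : D2 4 = 2012774400 := by decide +kernel
  have e4 : (4 : ℕ) ^ 12 = 16777216 := by norm_num
  have e5 : D3 4 = 241473960000 := by decide +kernel
  have e6 : (4 : ℕ) ^ 24 = 281474976710656 := by norm_num
  rw [e3, e4, e5, e6]
  have h := keyE (m := 241) (n := 257) (L := L4) (t := 24) (by
    intro pa hpa
    fin_cases hpa <;> norm_num) e1 (by norm_num) (by norm_num) (by decide +kernel) ⟨12, by norm_num⟩ check_four hd ha hb
    (by exact_mod_cast h1) (by exact_mod_cast h2) (by omega)
  simp only [List.mem_cons, List.not_mem_nil, or_false] at h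
  (clear * - h; tauto)

/-! ### `q = 8` -/

def L8 : List (ℕ × ℕ) := [(3, 10), (5, 2), (7, 4), (13, 2), (19, 2), (73, 2)]

theorem check_eight : allDiv 89916256275114328125813913131505293998004633601
    (leafE 89916256275114328125813913131505293998004633601 72 4033 4097 4032 4096 36 [1, 4722366482869645213696] [68719476736, 279291414804562944] [138537936617472]) L8 1 = true :=
  SieveFast.filt 299860394642430776825259 [] (fun _ _ h => absurd h List.not_mem_nil)
    (leafE_of (n := 4097) (s := 24) (by decide) (by decide +kernel) (by decide)) (by decide +kernel)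

theorem num_full_eight {d : ℕ} (hd : d ∣ ordF 8) {a b : ℤ} (ha : a = 1 ∨ a = -1) (hb : b = 1 ∨ b = -1)
    (h1 : ((8 ^ 4 - 8 ^ 2 + 1 : ℕ) : ℤ) ∣ (d : ℤ) - a) (h2 : ((8 ^ 4 + 1 : ℕ) : ℤ) ∣ (d : ℤ) - b)
    (hK : d * d ≤ ordF 8) :
    (d = 1 ∧ a = 1 ∧ b = 1) ∨ (d = 8 ^ 12 ∧ a = 1 ∧ b = -1) ∨ (d = D2 8 ∧ a = -1 ∧ b = 1) ∨
      (d = D3 8 ∧ a = 1 ∧ b = -1) ∨ (d = 8 ^ 24 ∧ a = 1 ∧ b = 1) := by
  have e1 : ordF 8 = (2 ^ 72 * facProd L8) * (4033 * 4097) := by decide +kernel
  have e2 : ordF 8 + 1 = 89916256275114328125813913131505293998004633601 := by decide +kernel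
  have e3 : D2 8 = 138537936617472 := by decide +kernel
  have e4 : (8 : ℕ) ^ 12 = 68719476736 := by norm_num
  have e5 : D3 8 = 279291414804562944 := by decide +kernel
  have e6 : (8 : ℕ) ^ 24 = 4722366482869645213696 := by norm_num
  rw [e3, e4, e5, e6]
  have h := keyE (m := 4033) (n := 4097) (L := L8) (t := 36) (by
    intro pa hpa
    fin_cases hpa <;> norm_num) e1 (by norm_num) (by norm_num) (by decide +kernel) ⟨18, by norm_num⟩ check_eight hd ha hb
    (by exact_mod_cast h1) (by exact_mod_cast h2) (by omega)
  simp only [List.mem_cons, List.not_mem_nil, or_false] at h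
  (clear * - h; tauto)

/-! ### `q = 16` -/

def L16 : List (ℕ × ℕ) := [(3, 6), (5, 4), (7, 2), (13, 2), (17, 4), (241, 2), (257, 2)]

theorem check_sixteen : allDiv 409769176766486560722265887463417955475599128597720329093120001
    (leafE 409769176766486560722265887463417955475599128597720329093120001 96 65281 65537 65280 65536 48 [1, 79228162514264337593543950336] [281474976710656, 299874847600370165760000] [9187342692227481600]) L16 1 = true :=
  SieveFast.filt 20242756155387698606279920809877 [] (fun _ _ h => absurd h List.not_mem_nil)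
    (leafE_of (n := 65537) (s := 32) (by decide) (by decide +kernel) (by decide)) (by decide +kernel)

theorem num_full_sixteen {d : ℕ} (hd : d ∣ ordF 16) {a b : ℤ} (ha : a = 1 ∨ a = -1) (hb : b = 1 ∨ b = -1)
    (h1 : ((16 ^ 4 - 16 ^ 2 + 1 : ℕ) : ℤ) ∣ (d : ℤ) - a) (h2 : ((16 ^ 4 + 1 : ℕ) : ℤ) ∣ (d : ℤ) - b)
    (hK : d * d ≤ ordF 16) :
    (d = 1 ∧ a = 1 ∧ b = 1) ∨ (d = 16 ^ 12 ∧ a = 1 ∧ b = -1) ∨ (d = D2 16 ∧ a = -1 ∧ b = 1) ∨
      (d = D3 16 ∧ a = 1 ∧ b = -1) ∨ (d = 16 ^ 24 ∧ a = 1 ∧ b = 1) := by
  have e1 : ordF 16 = (2 ^ 96 * facProd L16) * (65281 * 65537) := by decide +kernel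
  have e2 : ordF 16 + 1 = 409769176766486560722265887463417955475599128597720329093120001 := by decide +kernel
  have e3 : D2 16 = 9187342692227481600 := by decide +kernel
  have e4 : (16 : ℕ) ^ 12 = 281474976710656 := by norm_num
  have e5 : D3 16 = 299874847600370165760000 := by decide +kernel
  have e6 : (16 : ℕ) ^ 24 = 79228162514264337593543950336 := by norm_num
  rw [e3, e4, e5, e6]
  have h := keyE (m := 65281) (n := 65537) (L := L16) (t := 48) (by
    intro pa hpa
    fin_cases hpa <;> norm_num) e1 (by norm_num) (by norm_num) (by decide +kernel) ⟨24, by norm_num⟩ check_sixteen hd ha hb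
    (by exact_mod_cast h1) (by exact_mod_cast h2) (by omega)
  simp only [List.mem_cons, List.not_mem_nil, or_false] at h
  (clear * - h; tauto)

end Cfsg.Agent.H598.F4.Num

private theorem dce_0142d01e1b10 : _root_.True := by
  try have : _root_.True := by simp only [_root_.Cfsg.Agent.H598.F4.Num.leafE.eq_1]
  exact _root_.True.intro
end

-- part: H598/F4/Num64
section
prune_inst 0x4f43077457f0002004004001242007cf3ff000190002f800171860f460f8ff56080402f20fa900f0890ccb2845875c068135401f0420000002a84b400411f01a08cab52463334af153f000fc0780f590c00300800000000000000000000041004010000000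
set_option linter.all false
open scoped Cfsg.Agent.FastGrp

/-!
# S2452, F4(64): the possible degrees, full range, and the four fields together (helper598)

The part prime to `2` of the order (without `m`, `n`) has a million divisors; "meet in the middle": `d' = u v`,
`u ∣ facProd LU`, `v ∣ V = facProd LV`, `w = V / v`: `(u V) ^ t ≡ w ^ t` modulo `m n`. A filter contains the residues `w ^ t`.
-/

set_option autoImplicit false

namespace Cfsg.Agent.H598.F4.Num

open Cfsg.Agent.H653.Sieve

/-- search trees -/
inductive Tr : Type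
  | l : Tr
  | n : Tr → ℕ → Tr → Tr

/-- membership -/
def Tr.mem : Tr → ℕ → Bool
  | .l, _ => false
  | .n a x b, y => bif Nat.beq y x then true else bif Nat.ble y x then a.mem y else b.mem y

/-- evaluate `d`, then go on -/
private def fc (d : ℕ) (k : ℕ → Bool) : Bool := Nat.rec (k 0) (fun n _ => k (Nat.succ n)) d

private def aP (f : ℕ → Bool) (p a : ℕ) : ℕ → Bool := Nat.rec f (fun _ r d => f d && fc (Nat.mul d p) r) a

private def aD (f : ℕ → Bool) (L : List (ℕ × ℕ)) : ℕ → Bool := List.rec f (fun x _ r => aP r x.1 x.2) L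

private theorem aP_spec {N p : ℕ} {f g : ℕ → Bool} (H : ∀ d, f d = true → g d = true) :
    ∀ {a d : ℕ}, aP f p a d = true → allPow N g p a d = true
  | 0, d, h => H d h
  | a + 1, d, h => by
    have h1 : (f d && fc (d * p) (aP f p a)) = true := h
    rw [show fc (d * p) (aP f p a) = aP f p a (d * p) by cases d * p <;> rfl, Bool.and_eq_true] at h1
    show (bif Nat.ble N (d * d) then true else (g d && allPow N g p a (d * p))) = true
    rw [H d h1.1, aP_spec H h1.2]
    cases Nat.ble N (d * d) <;> rfl

private theorem aD_spec {N : ℕ} {f g : ℕ → Bool} (H : ∀ d, f d = true → g d = true) :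
    ∀ {L : List (ℕ × ℕ)} {d : ℕ}, aD f L d = true → allDiv N g L d = true
  | [], d, h => H d h
  | (_, _) :: L, _, h => aP_spec (fun _ => aD_spec H (L := L)) h

/-- **Meet in the middle.** -/
theorem mitm {B C V m t : ℕ} {F : ℕ → Bool} {f : ℕ → Bool} {LU LV : List (ℕ × ℕ)} (hLU : ∀ pa ∈ LU, pa.1.Prime)
    (hLV : ∀ pa ∈ LV, pa.1.Prime) (hV : facProd LV = V) (hC : V * V < C)
    (h1 : allDiv C (fun w => F (Nat.mod (Nat.pow w t) m)) LV 1 = true)
    (h2 : allDiv B (fun u => bif F (Nat.mod (Nat.pow (Nat.mul u V) t) m) then allDiv B f LV u else true) LU 1 = true)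
    {u v : ℕ} (hu : u ∣ facProd LU) (hv : v ∣ facProd LV) (hB : (u * v) * (u * v) < B)
    (ht : Nat.mod (Nat.pow (u * v) t) m = 1 % m) : f (u * v) = true := by
  have hv' : v ∣ V := hV ▸ hv
  have hV0 : V ≠ 0 := by
    rw [← hV]
    have h0 : ∀ L' : List (ℕ × ℕ), (∀ pa ∈ L', pa.1.Prime) → facProd L' ≠ 0 := by
      intro L'
      induction L' with
      | nil => intro _; simp [facProd]
      | cons q L' ih =>
        intro hq
        rw [facProd]
        exact mul_ne_zero (pow_ne_zero _ (hq q List.mem_cons_self).ne_zero)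
          (ih fun pa hpa => hq pa (List.mem_cons_of_mem _ hpa))
    exact h0 LV hLV
  have hv0 : 0 < v := Nat.pos_of_dvd_of_pos hv' (Nat.pos_of_ne_zero hV0)
  obtain ⟨w, hw⟩ := hv'
  have hwV : w ∣ facProd LV := hV ▸ ⟨v, by rw [hw, mul_comm]⟩
  have hle : u ≤ u * v := Nat.le_mul_of_pos_right u hv0
  have h3 := allDiv_spec hLU h2 u hu (by
    rw [one_mul]
    exact lt_of_le_of_lt (Nat.mul_le_mul hle hle) hB)
  rw [one_mul] at h3
  have h4 : F (Nat.mod (Nat.pow (Nat.mul u V) t) m) = true := by
    have hwle : w ≤ V := by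
      rw [hw]
      exact Nat.le_mul_of_pos_left w hv0
    have h5 := allDiv_spec hLV h1 w hwV (by
      rw [one_mul]
      exact lt_of_le_of_lt (Nat.mul_le_mul hwle hwle) hC)
    rw [one_mul] at h5
    have h6 : Nat.mod (Nat.pow (Nat.mul u V) t) m = Nat.mod (Nat.pow w t) m := by
      show (u * V) ^ t % m = w ^ t % m
      have h7 : (u * v) ^ t ≡ 1 [MOD m] := ht
      rw [hw, ← mul_assoc, mul_pow]
      have h8 := h7.mul_right (w ^ t)
      rw [one_mul] at h8
      exact h8
    rw [h6]
    exact h5
  rw [h4, cond_true] at h3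
  exact allDiv_spec hLV h3 v hv hB

/-- **The general lemma, meet in the middle.** -/
private theorem keyN {N B C V k m n t : ℕ} {F : ℕ → Bool} {l₁ l₂ l₃ : List ℕ} {LU LV : List (ℕ × ℕ)}
    (hLU : ∀ pa ∈ LU, pa.1.Prime) (hLV : ∀ pa ∈ LV, pa.1.Prime) (hV : facProd LV = V) (hC : V * V < C)
    (hN : N = (2 ^ k * (facProd LU * facProd LV)) * (m * n)) (hm : 2 < m) (hn : 2 < n)
    (ht : Nat.mod (Nat.pow 2 t) m = 1) (ht' : Nat.mod (Nat.pow 2 t) n = 1) (hte : Even t)
    (hmn : m.Coprime n)
    (hc1 : aD (fun w => F (Nat.mod (Nat.pow w t) (Nat.mul m n))) LV 1 = true)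
    (hc2 : aD (fun u => bif F (Nat.mod (Nat.pow (Nat.mul u V) t) (Nat.mul m n)) then
      aD (leafE B k m n (m - 1) (n - 1) t l₁ l₂ l₃) LV u else true) LU 1 = true) {d : ℕ} (hd : d ∣ N)
    {a b : ℤ} (ha : a = 1 ∨ a = -1) (hb : b = 1 ∨ b = -1) (h1 : (m : ℤ) ∣ (d : ℤ) - a) (h2 : (n : ℤ) ∣ (d : ℤ) - b)
    (hB : d * d < B) : (d ∈ l₁ ∧ a = 1 ∧ b = 1) ∨ (d ∈ l₂ ∧ a = 1 ∧ b = -1) ∨ (d ∈ l₃ ∧ a = -1 ∧ b = 1) := by
  have hd' : d ∣ 2 ^ k * (facProd LU * facProd LV) := by
    rw [hN] at hd
    exact ((coprime_of ha h1).mul_right (coprime_of hb h2)).dvd_of_dvd_mul_right hd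
  obtain ⟨x, y, hx, hy, rfl⟩ := (Nat.dvd_mul).1 hd'
  obtain ⟨i, hi, rfl⟩ := (Nat.dvd_prime_pow Nat.prime_two).1 hx
  obtain ⟨u, v, hu, hv, rfl⟩ := (Nat.dvd_mul).1 hy
  rw [mul_comm (2 ^ i) (u * v)] at h1 h2 hB ⊢
  have hle : u * v ≤ u * v * 2 ^ i := Nat.le_mul_of_pos_right _ (Nat.pow_pos (by norm_num))
  have h3 := mitm (B := B) (f := leafE B k m n (m - 1) (n - 1) t l₁ l₂ l₃) hLU hLV hV hC (aD_spec (fun _ h => h) hc1)
    (aD_spec (fun u h => by
      cases e : F (Nat.mod (Nat.pow (Nat.mul u V) t) (Nat.mul m n))
      · rfl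
      · rw [e] at h
        exact aD_spec (fun _ h => h) h) hc2) hu hv (lt_of_le_of_lt (Nat.mul_le_mul hle hle) hB)
    ((Nat.modEq_and_modEq_iff_modEq_mul hmn).1
      ⟨(pow_mod_one hm ht hte ha h1).trans (Nat.mod_eq_of_lt (show 1 < m by omega)).symm,
        (pow_mod_one hn ht' hte hb h2).trans (Nat.mod_eq_of_lt (show 1 < n by omega)).symm⟩)
  exact leafE_spec hm hn ht hte hi h3 ha hb h1 h2 hB

/-! ### `q = 64` -/

def LU : List (ℕ × ℕ) := [(3, 10), (5, 4), (7, 4), (13, 4)]

def LV : List (ℕ × ℕ) := [(17, 2), (19, 2), (37, 2), (73, 2), (109, 2), (241, 2)]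

/-- a filter for the residues -/
private def bl (r : ℕ) : Bool :=
  (fun M : ℕ => Nat.beq (Nat.land (Nat.land (Nat.shiftRight M (Nat.mod r 16381)) (Nat.shiftRight M (Nat.mod r 16369))) 1) 1)
  0x2004200000802380000000040b0000000020001020000011010100000800200000402201000001400000010000000400200080001000820041001089520000018048000080000420200000400000c310018008b001400400000000002200040101040000c200800000000200000000010080408002006000200001000020000200021000000002000800000b100800808010030800800000050200110000200090300200070000400802010000041000050000000848000000000001002008000000000200010080040003814402000900400000202000002204040010008000000010100000000000040400000028021000800800050000000020008100200000000000004000000100004000024040002000000000040010001000000000080400000000860002008001021008001a1600000000014000020000202801000000000000020000000181004012050010400000000400a88004000810000800000100000001000002800000000004009200000000002200000000800000000804000000010000020000110010022000000801001280050101010042010000000041501040000a18248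c00040608000408024800000010000800404048410108018100000001800004020c800040000000000200880000400000020000200020400041200050000000002c40004000412080080400018020028200401021201000028200800c000000824100000240004108000400080000040040020008200801000000000108c0200800802000000000200405100200000002000080080000200484000000004000005000000000020008040000000000000a00110010004003100640100000041500004080041200840000000002101020088000400400100000080000002240900000000000241048014008008004080f0040440000000000108040000008000004120800000000200804000000008010800080068000020804000101140000012381100000000000810000400000020000402101000000400010000410c000001100000240100054000c002003244000000000000000020060000400008200c00000002001001041200240000480000000820020006440048000080500000000000040410900020408820010308000004000000120000020200000010000080008100000081900020010012000002000204508480000020001204a40400020014300080004120000000000000000002010000100000102100004048020080080000006080040110000004000350000048000400060000001800000088000120000080010000004000024004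000002000008800024200002080020144000801440009000100004040000000000000400000800c00032000402200400080800800240080c08814080c00000020801001080000808010000a181000008100108000000020044000840080004000c08c00000000080040200008800010011002800401010000000002200288004940100840000004000508000008100000000020001804000000000008001000002002000000016000000000004022001021802000002040082420041080040088100151000002000000000580002211000090000800000b00000040000080020820000408000000003008001000000610080000000000c00100002000101001002004012008c4240004404200004100000800000204000040004000004020200000000200000040000148000040108020000000000a40400000012000a000000101080800000089000008000800200000810200208882000440000800508400001300000000208018000000006000000004400000080100040100108000094000a1000002000000000200000200588000000000000480404000b6202040000400040000c8e00000005200020220080081106120000100102000040040200800040000000010044008061000000400800008000002000080040040000100000042004000010000010000a004200000400040004030880900800100004208100220000000000014004148000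800080040001000080040040001008000000400000005009300040848410080805000000010000442002c0000022100000000100004808c004200000000000100000800400000000000002028002140c00000080000408000100800200180008304240000020068201081800000424000000000034050c0800104900000000004000c00000000000100008000000220240000000000000000200020400020000080400082480210000000000000420014300000100002320000000000c20000080040000c080080000000000801080080012800400000200020804000010000854000228000000100000000000100008000002110000400412200c010002081080002000000830003101080100040c0000000002000800040008200020302100000a81e0000004020000001000100081000010001000000042202144010040000841001008800014800200000002100400800400000c00000000028008000020080080000018080800008d00020800208000000400000048040a02114000000100040200000004000000003b1040040482001040000010000000000120000000000000000020000030000000200080000800000200000118300000c02080000080810a00d0008000000000624202021180000000480080820020000000012000a000000800000040221000000000040000040840340040000c40000000000000801001020000000000022900010a04820440630000400204000600000010008062000100c00004002000008002000040000090000080120001010424000800252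

theorem num_full_sixtyfour {d : ℕ} (hd : d ∣ ordF 64) {a b : ℤ} (ha : a = 1 ∨ a = -1) (hb : b = 1 ∨ b = -1)
    (h1 : ((64 ^ 4 - 64 ^ 2 + 1 : ℕ) : ℤ) ∣ (d : ℤ) - a) (h2 : ((64 ^ 4 + 1 : ℕ) : ℤ) ∣ (d : ℤ) - b)
    (hK : d * d ≤ ordF 64) :
    (d = 1 ∧ a = 1 ∧ b = 1) ∨ (d = 64 ^ 12 ∧ a = 1 ∧ b = -1) ∨ (d = D2 64 ∧ a = -1 ∧ b = 1) ∨
      (d = D3 64 ∧ a = 1 ∧ b = -1) ∨ (d = 64 ^ 24 ∧ a = 1 ∧ b = 1) := by
  have e1 : ordF 64 = (2 ^ 144 * (facProd LU * facProd LV)) * (16773121 * 16777217) := by decide +kernel
  have e2 : ordF 64 + 1 = 8341662322968303724740416619984427798131988296797895829119430311613240486065716717546373120001 := by decide +kernel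
  have e3 : D2 64 = 39604409849998931748559257600 := by decide +kernel
  have e4 : (64 : ℕ) ^ 12 = 4722366482869645213696 := by norm_num
  have e5 : D3 64 = 332144759466773698661820003778560000 := by decide +kernel
  have e6 : (64 : ℕ) ^ 24 = 22300745198530623141535718272648361505980416 := by norm_num
  rw [e3, e4, e5, e6]
  have h := keyN (m := 16773121) (n := 16777217) (LU := LU) (LV := LV) (t := 144) (V := 525220046819468365369) (C := 275856097581044541780830375788540878506162) (F := bl)
    (B := 8341662322968303724740416619984427798131988296797895829119430311613240486065716717546373120001)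
    (l₁ := [1, 22300745198530623141535718272648361505980416])
    (l₂ := [4722366482869645213696, 332144759466773698661820003778560000]) (l₃ := [39604409849998931748559257600]) (by
    intro pa hpa
    fin_cases hpa <;> norm_num) (by
    intro pa hpa
    fin_cases hpa <;> norm_num) (by decide +kernel) (by norm_num) e1 (by norm_num) (by norm_num) (by decide +kernel)
    (by decide +kernel) ⟨72, by norm_num⟩ (by decide +kernel) (by decide +kernel) (by decide +kernel) hd ha hb
    (by exact_mod_cast h1) (by exact_mod_cast h2) (by omega)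
  simp only [List.mem_cons, List.not_mem_nil, or_false] at h
  rcases h with ⟨h | h, h'⟩ | ⟨h | h, h'⟩ | h
  exacts [.inl ⟨h, h'⟩, .inr (.inr (.inr (.inr ⟨h, h'⟩))), .inr (.inl ⟨h, h'⟩), .inr (.inr (.inr (.inl ⟨h, h'⟩))),
    .inr (.inr (.inl h))]

/-- **The four fields together, exact form.** -/
theorem num_even_full {q : ℕ} (hq : q = 4 ∨ q = 8 ∨ q = 16 ∨ q = 64) {d : ℕ} (hd : d ∣ ordF q) {a b : ℤ}
    (ha : a = 1 ∨ a = -1) (hb : b = 1 ∨ b = -1) (h1 : ((q ^ 4 - q ^ 2 + 1 : ℕ) : ℤ) ∣ (d : ℤ) - a)
    (h2 : ((q ^ 4 + 1 : ℕ) : ℤ) ∣ (d : ℤ) - b) (hK : d * d ≤ ordF q) :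
    (d = 1 ∧ a = 1 ∧ b = 1) ∨ (d = q ^ 12 ∧ a = 1 ∧ b = -1) ∨ (d = D2 q ∧ a = -1 ∧ b = 1) ∨
      (d = D3 q ∧ a = 1 ∧ b = -1) ∨ (d = q ^ 24 ∧ a = 1 ∧ b = 1) := by
  rcases hq with rfl | rfl | rfl | rfl
  · exact num_full_four hd ha hb h1 h2 hK
  · exact num_full_eight hd ha hb h1 h2 hK
  · exact num_full_sixteen hd ha hb h1 h2 hK
  · exact num_full_sixtyfour hd ha hb h1 h2 hK

end Cfsg.Agent.H598.F4.Num
end

-- part: H997/FE/Hyp
section
prune_inst 0x300800000000000000000000000000010000000
set_option linter.all false
open scoped Cfsg.Agent.FastGrp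

/-!
# S2452, `F₄(q)`, `q = 4, 8, 16, 64`: the numbers and the elements of odd order (helper997)
-/

set_option autoImplicit false
set_option linter.unusedSectionVars false

open Cfsg Cfsg.Lie Subgroup

namespace Cfsg.Agent.H997.FE

open Cfsg.Agent.H598.F4.Num
open Cfsg.Agent.H520.FC (d2)

universe u

variable {K : Type u} [Field K] [Fintype K]

theorem card_ordF {q : ℕ} (hK : Fintype.card K = q) : Nat.card ↥(chevF4.group K) = ordF q := S1062.result hK

/-- the exponent of `2` in the order -/
theorem fact {q f : ℕ} (hq : q = 4 ∧ f = 2 ∨ q = 8 ∧ f = 3 ∨ q = 16 ∧ f = 4 ∨ q = 64 ∧ f = 6)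
    (hK : Fintype.card K = q) : (Nat.card ↥(chevF4.group K)).factorization 2 = 24 * f := by
  have hM : ¬ 2 ∣ (q ^ 2 - 1) * (q ^ 6 - 1) * (q ^ 8 - 1) * (q ^ 12 - 1) := by
    rcases hq with ⟨rfl, -⟩ | ⟨rfl, -⟩ | ⟨rfl, -⟩ | ⟨rfl, -⟩ <;> norm_num
  have hM0 : (q ^ 2 - 1) * (q ^ 6 - 1) * (q ^ 8 - 1) * (q ^ 12 - 1) ≠ 0 := fun h => hM (h ▸ dvd_zero 2)
  have hqf : q = 2 ^ f := by
    rcases hq with ⟨rfl, rfl⟩ | ⟨rfl, rfl⟩ | ⟨rfl, rfl⟩ | ⟨rfl, rfl⟩ <;> norm_num
  have h1 : Nat.card ↥(chevF4.group K) = 2 ^ (24 * f) * ((q ^ 2 - 1) * (q ^ 6 - 1) * (q ^ 8 - 1) * (q ^ 12 - 1)) := by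
    rw [S1062.result hK, mul_comm 24 f, pow_mul, ← hqf]; ring
  rw [h1, Nat.factorization_mul (pow_ne_zero _ (by norm_num)) hM0, Finsupp.add_apply, Nat.prime_two.factorization_pow,
    Finsupp.single_eq_same, Nat.factorization_eq_zero_of_not_dvd hM, add_zero]

theorem exists_f {q : ℕ} (hq : q = 4 ∨ q = 8 ∨ q = 16 ∨ q = 64) :
    ∃ f, q = 4 ∧ f = 2 ∨ q = 8 ∧ f = 3 ∨ q = 16 ∧ f = 4 ∨ q = 64 ∧ f = 6 := by
  rcases hq with rfl | rfl | rfl | rfl
  · exact ⟨2, Or.inl ⟨rfl, rfl⟩⟩
  · exact ⟨3, Or.inr (Or.inl ⟨rfl, rfl⟩)⟩
  · exact ⟨4, Or.inr (Or.inr (Or.inl ⟨rfl, rfl⟩))⟩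
  · exact ⟨6, Or.inr (Or.inr (Or.inr ⟨rfl, rfl⟩))⟩

theorem pow_f {q f : ℕ} (hq : q = 4 ∧ f = 2 ∨ q = 8 ∧ f = 3 ∨ q = 16 ∧ f = 4 ∨ q = 64 ∧ f = 6) : q = 2 ^ f := by
  rcases hq with ⟨rfl, rfl⟩ | ⟨rfl, rfl⟩ | ⟨rfl, rfl⟩ | ⟨rfl, rfl⟩ <;> norm_num

theorem D2_eq {q : ℕ} (hq : q = 4 ∨ q = 8 ∨ q = 16 ∨ q = 64) : d2 q = D2 q := by
  rcases hq with rfl | rfl | rfl | rfl <;> · rw [d2, D2]; norm_num

theorem D2_sq {q : ℕ} (hq : q = 4 ∨ q = 8 ∨ q = 16 ∨ q = 64) : D2 q * D2 q ≤ ordF q := by
  rcases hq with rfl | rfl | rfl | rfl <;> · rw [ordF, D2]; norm_num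

theorem D2_lt {q : ℕ} (hq : q = 4 ∨ q = 8 ∨ q = 16 ∨ q = 64) : D2 q < D3 q ∧ D2 q < q ^ 24 := by
  rcases hq with rfl | rfl | rfl | rfl <;> · rw [D3, D2]; norm_num

/-- the degrees below `D2` -/
theorem hdeg {q : ℕ} (hq : q = 4 ∨ q = 8 ∨ q = 16 ∨ q = 64) (hK : Fintype.card K = q) (d : ℕ)
    (hd : d ∣ Nat.card ↥(chevF4.group K)) (a b : ℤ) (ha : a = 1 ∨ a = -1) (hb : b = 1 ∨ b = -1)
    (h1 : ((q ^ 4 - q ^ 2 + 1 : ℕ) : ℤ) ∣ (d : ℤ) - a) (h2 : ((q ^ 4 + 1 : ℕ) : ℤ) ∣ (d : ℤ) - b) (hlt : d < d2 q) :
    d = 1 ∨ ∃ k < (Nat.card ↥(chevF4.group K)).factorization 2, d = 2 ^ k := by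
  rw [D2_eq hq] at hlt
  obtain ⟨f, hf⟩ := exists_f hq
  have hf0 : 0 < f := by omega
  rw [card_ordF hK] at hd
  have hle : d * d ≤ ordF q := le_trans (Nat.mul_le_mul hlt.le hlt.le) (D2_sq hq)
  rcases num_even_full hq hd ha hb h1 h2 hle with h | h | h | h | h
  · exact Or.inl h.1
  · right
    refine ⟨12 * f, ?_, ?_⟩
    · rw [fact hf hK]; omega
    · rw [h.1, mul_comm 12 f, pow_mul, ← pow_f hf]
  · omega
  · have := (D2_lt hq).1
    omega
  · have := (D2_lt hq).2
    omega

/-- the signs -/
theorem hneg {q : ℕ} (hq : q = 4 ∨ q = 8 ∨ q = 16 ∨ q = 64) (hK : Fintype.card K = q) (d : ℕ)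
    (hd : d ∣ Nat.card ↥(chevF4.group K)) (hdd : d * d < Nat.card ↥(chevF4.group K)) (a b : ℤ)
    (ha : a = 1 ∨ a = -1) (hb : b = 1 ∨ b = -1)
    (h1 : ((q ^ 4 - q ^ 2 + 1 : ℕ) : ℤ) ∣ (d : ℤ) - a) (h2 : ((q ^ 4 + 1 : ℕ) : ℤ) ∣ (d : ℤ) - b) :
    d = 1 ∨ a * b = -1 ∨ 2 ^ (Nat.card ↥(chevF4.group K)).factorization 2 ∣ d := by
  obtain ⟨f, hf⟩ := exists_f hq
  rw [card_ordF hK] at hd hdd
  rcases num_even_full hq hd ha hb h1 h2 hdd.le with ⟨h, -, -⟩ | ⟨-, h, h'⟩ | ⟨-, h, h'⟩ | ⟨-, h, h'⟩ | ⟨h, -, -⟩
  · exact Or.inl h
  · right; left; rw [h, h']; norm_num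
  · right; left; rw [h, h']; norm_num
  · right; left; rw [h, h']; norm_num
  · right; right
    rw [fact hf hK, h]
    refine dvd_of_eq ?_
    rw [mul_comm 24 f, pow_mul, ← pow_f hf]

/-- the elements of odd order -/
theorem sse [CharP K 2] : SSe K := by
  intro s hs1 hs
  have hfin : Finite ↥(chevF4.group K) := inferInstance
  have h := Cfsg.Agent.H972.CS.F4Gen.f4_gen_even (F := K) (by exact_mod_cast CharP.cast_eq_zero K 2) (x := s) (by
    rintro ⟨n, hn⟩
    rw [hn] at hs
    rcases Nat.eq_zero_or_pos n with rfl | h0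
    · rw [pow_zero] at hn
      exact hs1 (orderOf_eq_one_iff.1 hn)
    · have := (Nat.coprime_pow_left_iff h0 2 2).1 hs
      norm_num at this)
  rw [Nat.card_eq_fintype_card (α := K)]
  exact h

end Cfsg.Agent.H997.FE

private theorem dce_20e8b5e73bd4 : _root_.True := by
  try have : _root_.True := by simp only [_root_.Cfsg.Agent.H598.F4.Num.D3.eq_1]
  try have : _root_.True := by simp only [_root_.Cfsg.Agent.H598.F4.Num.D2.eq_1]
  try have : _root_.True := by simp only [_root_.Cfsg.Agent.H598.F4.Num.ordF.eq_1]
  exact _root_.True.intro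
end

-- part: H997/FE/NotDvd
section
set_option linter.all false
open scoped Cfsg.Agent.FastGrp

/-!
# S2452, `F₄(q)`, `q = 4, 8, 16, 64`: the `2`-central elements have odd class sizes (helper997)
-/

set_option autoImplicit false
set_option linter.unusedSectionVars false

open Cfsg Cfsg.Lie Subgroup

namespace Cfsg.Agent.H997.FE

open Cfsg.Agent.H598.F4.Num
open Cfsg.Agent.H520.FC (d2)

universe u

variable {K : Type u} [Field K] [Fintype K]

theorem not_dvd [CharP K 2] {q : ℕ} (hq : q = 4 ∨ q = 8 ∨ q = 16 ∨ q = 64) (hK : Fintype.card K = q)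
    {u : ↥(chevF4.group K)} (hu : Cen u) : ¬ 2 ∣ (centralizer ({u} : Set ↥(chevF4.group K))).index := by
  have hfin : Finite ↥(chevF4.group K) := inferInstance
  obtain ⟨g, h1, h2⟩ := hu
  have hc : Nat.card ↥(centralizer ({u} : Set ↥(chevF4.group K))) =
      Nat.card ↥(centralizer ({g * u * g⁻¹} : Set ↥(chevF4.group K))) := by
    have h := Cfsg.Agent.H520.FC.card_cent_conj g⁻¹ u
    rw [inv_inv] at h
    exact h.symm
  have hle : UU K ≤ centralizer ({g * u * g⁻¹} : Set ↥(chevF4.group K)) := by
    intro v hv
    rw [mem_centralizer_singleton_iff]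
    exact (h2 v hv).symm
  have hd : q ^ 24 ∣ Nat.card ↥(centralizer ({u} : Set ↥(chevF4.group K))) := by
    rw [hc]
    have h3 := Subgroup.card_dvd_of_le hle
    have h4 : Nat.card ↥(UU K) = Nat.card K ^ 24 := H744.FC.card_U K
    rw [h4, Nat.card_eq_fintype_card (α := K), hK] at h3
    exact h3
  intro h
  have h5 := (centralizer ({u} : Set ↥(chevF4.group K))).card_mul_index
  have h6 : q ^ 24 * 2 ∣ Nat.card ↥(chevF4.group K) := h5 ▸ mul_dvd_mul hd h
  rw [card_ordF hK] at h6
  have hq0 : 0 < q := by omega
  have h7 : ordF q = q ^ 24 * ((q ^ 2 - 1) * (q ^ 6 - 1) * (q ^ 8 - 1) * (q ^ 12 - 1)) := by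
    rw [ordF]; ring
  rw [h7] at h6
  have h8 := Nat.dvd_of_mul_dvd_mul_left (pow_pos hq0 24) h6
  revert h8
  rcases hq with rfl | rfl | rfl | rfl <;> norm_num

end Cfsg.Agent.H997.FE
end

-- part: H335/TC6/FFour
section
prune_inst 0x4d4207745070002004004000260007cd3ff000192006f800171460b4407c6fd6100002f20f8a00b1a01082e24203f8068135400f9421000002a848e00411901a08caa70c6b308111526000fc0980f510000300800000000000000000000041004010000000
set_option linter.all false
open scoped Cfsg.Agent.FastGrp

-- part: H335/TC6/CertA
section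
/-!
# S2464, `F₄(2)`: certificates with pairs of order 7, part A (helper335)
-/

set_option autoImplicit false
set_option maxRecDepth 100000

namespace Cfsg.Agent.H335.TC6.CertA

open Cfsg.Agent.H335.FT Cfsg.Agent.H335.FT.CertB Cfsg.Agent.H335.FT.CertP

def Q1_0 : PD where
  c := [23, 20, 22, 27, 25, 27, 20, 24]
  f := [39]
  i0 := 39
  k1 := 7
  k2 := 7
  A := 0xc000000000000b80000000000026000000000001000000000000760000000000020000000000002200000000000017800000000000f8000000000006000000000000460000000000160000000000016e000000000000400000000000240000000000001f600000000000c180000080000896f0000e000030000000000002810000020000080c000000001f180000080001f37f0000c0000c00000000000088250000e000000600000000000040800000000180c00002000008000000000000804000000000486000000000048c4800000000002000000000000005e000000000003e000000000001800000000000118000000000058000000000005b80000000000010000000000009000000000000060000000000005c00000000000130000000000008000000000003b000000000001000000000000110000048800000e0000c08c0000400000000000020000000c00001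
  Ai := 0xb800000000000380000000000004000000000001000000000000ec0000000000022000000000000600000000000005000000000001d000000000000460000000000006000000000016e000000000007e000000000000400000000000620000000000000a400000000000014a000000000004a0000000002810000020000081000002000000080000000017b5a000020000fe5a00002000088250000e0000006f0000000000040800000000000080000000038180000000000804000000000000c000000000c0e18000e000001e38000800000060800000000000014000000000007400000000000118000000000001800000000005b800000000001f8000000000001000000000001880000000000005c000000000001c0000000000002000000000000800000000000760000000000011000000000000300000094a0000e000009670000400000000000020000080800001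
  B := 0xae00000000000380000000000004000000000001000000000000ec0000000000022000000000000600000000000005600000000001ae00000000000420000000000006000000000010c000000000007e000000000000400000000000620000000000000ac7f0000200000142800000000004a000000000281c0000000000810000020000000800000000142a18000a0000fe5a00002000080418000e0000006f0000000000040800000000000080000000038180000000000804000000000000c000000000c0e18000e000001e38000800000060800000000000015800000000006b800000000001080000000000018000000000043000000000001f80000000000010000000000018800000000000057000000000001c000000000000200000000000080000000000076000000000001100000000000030000009460000e000009670000400000000000020000080400001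
  Bi := 0xd200000000000aa0000000000026000000000001000000000000760000000000020000000000002200000000000015e00000000000f6000000000006400000000000420000000000144000000000014a000000000000400000000000240000000000001eeb5000020000c9ac80008000081438000e000030040000200002814000000000080c000000001e9288000a0001ebd78000e0000c82000000000080010000e000000600000000000040800000000180c00002000008000000000000804000000000486000000000048c48000000000020000000000000057800000000003d800000000001900000000000108000000000051000000000005280000000000010000000000009000000000000069000000000005500000000000130000000000008000000000003b000000000001000000000000110000048840000e0000c8ac0000400000000000020000000800001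
  zc := [
    (41, [], [42, 45]), (42, [], [41]), (43, [], [42, 47]), (44, [43, 47], [47]), (45, [41], []),
    (46, [47], []), (47, [46], [46])]
  vc := [
    (33, [42], [], [38]), (34, [41, 42, 45], [37], [33, 38]), (35, [43, 44, 45, 46], [35, 37], [37, 39]),
    (36, [42, 43, 44, 45], [37], [35]), (37, [45], [38], []), (38, [42], [37], [37]), (39, [], [], []),
    (40, [46], [35, 37], [])]

def Q1_1 : PD where
  c := [22, 23, 24, 25]
  f := [40]
  i0 := 40
  k1 := 7
  k2 := 7
  A := 0xe0000000000008000000000000a00000000000010000000000000c000000000000a000000000000400000000000010000000000000c000000000000a00000000000040000000000001c00000000000100000000000014000000000000200000000000018000000000001400000000000080000000000003800000000000200000000000028000000000000740000040000050000000000006a00000c0000010000000000004200000c00000140000000000001800000000000140000000000008000000000000380000000000020000000000002800000000000040000000000003000000000000280000000000010000000000000700000000000040000000000005000000000000080000000000007000000000000400000000000050000000000000800000000000060000000000005000000000000200000054000008000001400000c00000000000020000000000001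
  Ai := 0x4000000000000a000000000000600000000000010000000000000a0000000000002000000000000e00000000000010000000000000a0000000000002000000000000e000000000000080000000000014000000000000c0000000000002000000000000140000000000004000000000001c000000000000100000000000028000000000001800000000000028000000000004200000c0000008000000000005600000c000000a000000000002e000004000000140000000000004000000000001c00000000000010000000000002800000000000180000000000004000000000000280000000000008000000000003800000000000020000000000005000000000000300000000000008000000000000200000000000050000000000003000000000000080000000000005000000000000100000000000070000002a000008000002800000c00000000000020000000000001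
  B := 0x5e00000000000a000000000000600000000000010000000000000a0000000000002000000000000e0000000000001e000000000000b4000000000002c00000000000e0000000000000a0000000000014000000000000c000000000000200000000000016d600000c00005ae0000040001c000000000000101c00002000028000000000001800000000000029680000000004200000c0000008580000000005600000c000000a000000000002e000004000000140000000000004000000000001c000000000000100000000000028000000000001800000000000078000000000002d000000000000b0000000000038000000000000280000000000050000000000003000000000000080000000000002f0000000000050000000000003000000000000080000000000005000000000000100000000000070000002bc00008000002800000c00000000000020000001c00001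
  Bi := 0xf2000000000009200000000000b20000000000010000000000000c000000000000a000000000000400000000000012000000000000cc00000000000a80000000000044000000000001e000000000001200000000000160000000000002000000000000198a0000000001508000000000088200000000003804000020000200400002000028040000200000759800040000051980000000006b50000c0000010880000000004350000c000001488000000000018000000000001400000000000080000000000003800000000000200000000000028000000000000480000000000033000000000002a0000000000011000000000000780000000000048000000000005800000000000080000000000007900000000000490000000000059000000000000800000000000060000000000005000000000000200000055d800080000014c8000c00000000000020000000400001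
  zc := [
    (41, [], [43]), (42, [43], []), (43, [42], [42]), (44, [42, 46], [47]), (45, [46], [46]), (46, [], [45]),
    (47, [45], [])]
  vc := [
    (33, [], [35], [36]), (34, [42], [35], [35]), (35, [41], [], [34]), (36, [42], [34], []),
    (37, [], [], [37, 40]), (38, [47], [39], []), (39, [45, 46, 47], [37], [40]), (40, [], [], [])]

def Q1_2 : PD where
  c := [24, 23, 22, 27, 25, 27]
  f := [39, 40]
  i0 := 39
  k1 := 7
  k2 := 7
  A := 0x4000000000000e000000000000c0000000000001000000000000ea0000000000038000000000000600000000000010000000000000a00000000000180000000000006000000000001a8000000000001c0000000000078000000000007e000000000000140000000000010000000000000c000000000000100000000000038000000000003000000000001428000000000006a00000c0000520000000000001e0000080000f600000000000018000008000038140000000000810000020000000c000000000fe3500002000001e3800080000006f000000000000040000000000002800000000000600000000000018000000000006a0000000000007000000000001e000000000001f8000000000000200000000000070000000000006000000000000080000000000075000000000001c000000000000300000fe8000004000038800000c00000000000020000380000001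
  Ai := 0xa00000000000080000000000006000000000000100000000000074000000000003e000000000003c000000000000100000000000014000000000001e000000000001c000000000001b40000000000190000000000002c000000000002a00000000000008000000000001c0000000000018000000000000280000000000020000000000001800000000001e940000000001a100000000000ad600000c0000a5000000000005ae00000400005a400000400001808000020000081c000020000081800002000052b680006000052120000600000025800000000000040000000000005000000000000780000000000070000000000006d0000000000064000000000000b000000000000a800000000000050000000000004000000000000300000000000008000000000003a000000000001f000000000001e0000008400000c0000bd400000800000000000020000100000001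
  B := 0x8c0000000000080000000000006000000000000100000000000074000000000003e000000000003c0000000000000c000000000000d000000000001cc00000000001c0000000000019e0000000000190000000000002c000000000002a0000000000000050000000000182400000400018000000000000201800000000020000000000001800000000001a35a000040001a100000000000a5598000e0000a5000000000005ae00000400005a400000400001808000020000081c000020000081800002000052b68000600005212000060000002580000000000003000000000000340000000000073000000000007000000000000678000000000064000000000000b000000000000a800000000000046000000000004000000000000300000000000008000000000003a000000000001f000000000001e0000000580000e0000bd400000800000000000020000181800003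
  Bi := 0x4000000000000f200000000000d2000000000001000000000000f80000000000038000000000000600000000000012000000000000a800000000001a800000000000640000000000180000000000001e000000000007e0000000000078000000000000150800000000011080000000000c820000000000100000000000038040000200003004000020001520000000000006b50000c0000520000000000001ec800080000fe35000020000018c80008000038100000200000810000020000000c000000000f60000000000001ef000080000006f000000000000048000000000002a000000000006a000000000001900000000000600000000000007800000000001f800000000001e000000000000020000000000007900000000000690000000000008000000000007c000000000001c000000000000300000f6b500006000038800000e00000000000020000380000003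
  zc := [
    (41, [42], [41]), (42, [41], []), (43, [41], [47]), (44, [43], [41, 46, 47]), (45, [45], [46]),
    (46, [], [45]), (47, [], [45, 46])]
  vc := [
    (33, [42], [], [36, 38]), (34, [43, 44, 45], [33], [35, 37]), (35, [41, 46], [39], [33]),
    (36, [45, 47], [37], [39]), (37, [46], [39], []), (38, [45], [37], []), (39, [], [], []),
    (40, [45, 47], [37], [40])]

theorem c1 : (su ([0].flatMap tw2) Nl &&
    chkRep7 Nl Ql Zl ([0].flatMap tw2) [
      (Q1_0, [20, 27, 24], [25, 24, 28, 22, 23, 20, 22, 27, 20, 28]),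
      (Q1_1, [20, 32, 22, 23, 27, 20, 22, 23, 20, 26, 22, 20, 30], [25, 22, 20, 22, 23, 20, 26, 22, 20]),
      (Q1_2, [27], [26, 30, 20, 22, 23, 20, 25, 22, 20, 27])]) = true := by
  decide +kernel

theorem g1 : Good7 Ql (wd ([0].flatMap tw2)) := by
  have h := c1
  rw [Bool.and_eq_true] at h
  exact good7_of_chk (qz h1 h2 h3) (fun a ha => nz h4 h1 ha) (sub_of_su h.1) h.2

def Q2_0 : PD where
  c := [22, 23, 22, 24, 25, 27]
  f := []
  i0 := 33
  k1 := 7
  k2 := 7
  A := 0xe000000000000a000000000000800000000000010000000000009a000000000000c000000000000400000000000010000000000001a000000000000c0000000000004000000000000dc0000000000054000000000001000000000000120000000000001400000000000180000000000008000000000000380000000000028000000000002000000000001bea00000c0000ac200000c00000740000040000014000000000005000000000000100000000000201400002000000180000000000008000000000051b800000000010a80000000000020000000000000400000000000068000000000003000000000000100000000000037000000000001500000000000040000000000004800000000000070000000000005000000000000400000000000008000000000004d0000000000006000000000000200000040000004000021400000c00000000000020000200000001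
  Ai := 0x2000000000000c00000000000060000000000001000000000000060000000000002000000000003e0000000000001000000000000060000000000002000000000001e000000000000040000000000078000000000002c00000000000060000000000000c0000000000004000000000001c000000000000080000000000030000000000001800000000000006000000000001800000800000020000000000f78000008000000a00000000005ae0000040000000c0000000000004000000000081c0000200000000800000000006f00000000000258000000000000400000000000018000000000000800000000000780000000000001000000000001e000000000000b000000000000180000000000001000000000000600000000000030000000000000800000000000030000000000001000000000001f0000008e00000c000000600000800000000000020000080000001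
  B := 0x3e00000000000c00000000000060000000000001000000000000060000000000002000000000000e0000000000001e00000000000078000000000002c00000000000e000000000000060000000000018000000000000c00000000000020000000000000f7800000800005ae0000040001c000000000000081c00002000030000000000001800000000000006f00000000001800000800000025800000000078000008000000a000000000002e0000040000000c0000000000004000000000001c000000000000080000000000030000000000001800000000000078000000000001e000000000000b0000000000038000000000000180000000000060000000000003000000000000080000000000001f0000000000060000000000003000000000000080000000000003000000000000100000000000070000000fc0000c000000600000800000000000020000001c00001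
  Bi := 0xf200000000000b200000000000920000000000010000000000000a000000000000c000000000000400000000000012000000000000a800000000000cc0000000000044000000000001e0000000000016000000000001200000000000020000000000001508000000000198a0000000000882000000000038040000200002804000020000200400002000006b50000c000004350000c00000759800040000014880000000005198000000000108800000000001400000000000180000000000008000000000000380000000000028000000000002000000000000048000000000002a000000000003300000000000110000000000007800000000000580000000000048000000000000800000000000079000000000005900000000000490000000000008000000000000500000000000060000000000002000000411000040000014c8000c00000000000020000000400001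
  zc := [
    (41, [], [41, 43]), (42, [42], [41]), (43, [42], []), (44, [45], [43, 47]), (45, [45], [46]),
    (46, [], [45]), (47, [], [46])]
  vc := [
    (33, [], [34], [36]), (34, [43], [34], [35]), (35, [41], [], [34]), (36, [43], [], [35]),
    (37, [], [], [37, 40]), (38, [45, 46], [38], [37]), (39, [47], [38], []), (40, [46], [39], [37, 40])]

theorem c2 : (su ([1, 0].flatMap tw2) Nl &&
    chkRep7 Nl Ql Zl ([1, 0].flatMap tw2) [
      (Q2_0, [31, 23, 29], [23, 27, 26, 30, 20, 22, 23, 20, 25, 22, 20, 27])]) = true := by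
  decide +kernel

theorem g2 : Good7 Ql (wd ([1, 0].flatMap tw2)) := by
  have h := c2
  rw [Bool.and_eq_true] at h
  exact good7_of_chk (qz h1 h2 h3) (fun a ha => nz h4 h1 ha) (sub_of_su h.1) h.2

def Q3_0 : PD where
  c := [22, 23, 25, 22, 27, 25, 24]
  f := []
  i0 := 33
  k1 := 7
  k2 := 7
  A := 0xe000000000000c0000000000006000000000000100000000000056000000000005c000000000005e000000000000100000000000016000000000001c000000000001e000000000000bc0000000000098000000000002c000000000000a0000000000000c0000000000018000000000001c00000000000038000000000003000000000000180000000000179e000008000131800000800017f4000004000137800000800005a400000400005ae0000040000100c0000200001018000020000101c000020000029780000000002130000000000085800000000000040000000000005800000000000700000000000078000000000002f0000000000026000000000000b0000000000002800000000000070000000000006000000000000300000000000008000000000002b000000000002e000000000002f0000048e00000c00016fe00000000000000000020000100000001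
  Ai := 0xa000000000000e000000000000c00000000000010000000000000a00000000000fe000000000000600000000000010000000000000a000000000001e0000000000006000000000000b4000000000001c0000000000078000000000001e00000000000014000000000001c000000000000c00000000000028000000000003800000000000300000000000004200000c000006a00000c00016d600000c000001e0000080000f78000008000001800000800000014000000000381c000020000000c00000000006b68000c0000000380000000001ef000080000000040000000000002800000000000780000000000018000000000002d0000000000007000000000001e00000000000078000000000000500000000000070000000000006000000000000080000000000005000000000007f0000000000003000003e8000004000039600000400000000000020000380000001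
  B := 0x5e000000000000800000000000c00000000000010000000000000a00000000000fe0000000000006000000000000098000000000000a00000000001e0000000000001800000000000b400000000000020000000000078000000000001e0000000000000021300000000137800000800000600000000000101c00002000000100000000003000000000000029680000000000010000000016d600000c00000003000000000f78000008000001800000800000014000000000381c000020000000c00000000006b68000c0000000380000000001ef000080000000026000000000000280000000000780000000000006000000000002d0000000000000800000000001e000000000000780000000000002f0000000000004000000000006000000000000080000000000005000000000007f000000000000300000069c00006000000930000e00000000000020000001c00003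
  Bi := 0xf200000000000d2000000000007600000000000100000000000040000000000004a00000000000480000000000001440000000000120000000000019600000000001b200000000000a80000000000088000000000002a00000000000080000000000000c820000000001a1488000a0001e9288000a000038040000200003004000020000180c0000200015080000000001108000000000156350000c000116910000000005237800060000529300006000010000000000001014000000000101000000000002800000000000200000000000008100000000000005100000000000480000000000065800000000006c800000000002a0000000000022000000000000a80000000000020000000000000790000000000069000000000003b00000000000080000000000020000000000002500000000000240000040840000c000146950000a00000000000020000100400003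
  zc := [
    (41, [], [43]), (42, [], [41]), (43, [45], [46]), (44, [42], [46]), (45, [45, 47], []), (46, [45], []),
    (47, [46], [])]
  vc := [
    (33, [], [33], [35]), (34, [41, 42, 44, 47], [38], [33, 40]), (35, [], [33], []),
    (36, [41, 43], [34], [37]), (37, [45, 46], [38], [38]), (38, [46, 47], [39], [38]),
    (39, [], [], [35, 39]), (40, [47], [38], [35, 39])]

theorem c3 : (su ([2, 0].flatMap tw2) Nl &&
    chkRep7 Nl Ql Zl ([2, 0].flatMap tw2) [
      (Q3_0, [32, 22, 30, 27, 24], [27, 20, 25, 22, 23, 20, 22, 27, 20, 32])]) = true := by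
  decide +kernel

theorem g3 : Good7 Ql (wd ([2, 0].flatMap tw2)) := by
  have h := c3
  rw [Bool.and_eq_true] at h
  exact good7_of_chk (qz h1 h2 h3) (fun a ha => nz h4 h1 ha) (sub_of_su h.1) h.2

def Q4_0 : PD where
  c := [23, 22, 23, 24, 25]
  f := []
  i0 := 33
  k1 := 7
  k2 := 7
  A := 0xa000000000000c000000000000e00000000000010000000000000e000000000000a000000000000600000000000010000000000000e000000000000a0000000000006000000000000140000000000018000000000001c00000000000020000000000001c0000000000014000000000000c00000000000028000000000003000000000000380000000000005600000c0000078000008000004200000c0000018000008000006a00000c000001e0000080000001c0000000000014000000000000c00000000000028000000000003000000000000380000000000004000000000000380000000000028000000000001800000000000050000000000006000000000000700000000000008000000000000500000000000060000000000007000000000000080000000000007000000000000500000000000030000007e000000000001600000400000000000020000000000001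
  Ai := 0xe000000000000a000000000000600000000000010000000000000a000000000000c000000000000e00000000000010000000000000a000000000000c000000000000e0000000000001c0000000000014000000000000c0000000000002000000000000140000000000018000000000001c00000000000038000000000002800000000000180000000000006a00000c000004200000c0000074000004000005600000c0000024000004000002e000004000000140000000000018000000000001c00000000000038000000000002800000000000180000000000004000000000000280000000000030000000000003800000000000070000000000005000000000000300000000000008000000000000700000000000050000000000003000000000000080000000000005000000000000600000000000070000002a000008000007e00000000000000000020000000000001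
  B := 0xe00000000000b200000000000600000000000010000000000000a000000000000c00000000000ec0000000000000ec0000000000016000000000000c00000000001cc000000000000200000000000be00000000000c0000000000001c0000000000000057d8000c000002e0000040001d8a0000000000001c00000000028040000200001800000000000000280000000004350000c000000018000000017df98000e000002400000400018240000040000001400000000000180000000003818000000000000380000000006a38000c0000074000004000000003b0000000000005800000000000300000000000730000000000000800000000002f800000000003000000000000070000000000000070000000000059000000000003000000000000080000000000005000000000000600000000000760000002b80000a000007f98000000000000000020000001800003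
  Bi := 0x2600000000000d200000000000f20000000000010000000000008c00000000000880000000000084000000000000064000000000015e000000000015a00000000001440000000000042000000000009200000000000d200000000000100000000000000c9ac800080000c9cc800080000c820000000000080c0000000003004000020000380400002000081438000e000127198000a000081030000e000121088000a0001a6110000e0001a1488000a0000201800000000020100000000002008000000000010200000000004020000000000502000000000000019000000000005780000000000568000000000051000000000001080000000000248000000000034800000000000400000000000001300000000000690000000000079000000000000800000000000460000000000044000000000004200001a75180000000081488000400000000000020000000800003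
  zc := [
    (41, [], [43]), (42, [41], []), (43, [], [42]), (44, [41], [41, 42, 46]), (45, [47], []), (46, [], [45]),
    (47, [46], [])]
  vc := [
    (33, [43], [35], [36]), (34, [42], [36], []), (35, [41, 42], [34, 35], []), (36, [43], [35], []),
    (37, [46], [], [35, 39]), (38, [45], [37], []), (39, [45, 47], [38, 39], []),
    (40, [42, 43, 45, 47], [38], [33, 36, 37])]

theorem c4 : (su ([2, 1, 0].flatMap tw2) Nl &&
    chkRep7 Nl Ql Zl ([2, 1, 0].flatMap tw2) [
      (Q4_0, [25, 22, 24], [20, 22, 23, 20, 22, 30, 20, 22, 24, 30])]) = true := by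
  decide +kernel

theorem g4 : Good7 Ql (wd ([2, 1, 0].flatMap tw2)) := by
  have h := c4
  rw [Bool.and_eq_true] at h
  exact good7_of_chk (qz h1 h2 h3) (fun a ha => nz h4 h1 ha) (sub_of_su h.1) h.2

def Q5_0 : PD where
  c := [23, 25, 22, 23, 24]
  f := []
  i0 := 33
  k1 := 7
  k2 := 7
  A := 0xe000000000000c0000000000006000000000000100000000000006000000000000c000000000000e000000000000100000000000006000000000000c000000000000e0000000000001c0000000000018000000000000c00000000000020000000000000c0000000000018000000000001c00000000000038000000000003000000000000180000000000001e0000080000018000008000007400000400000780000080000024000004000002e0000040000000c0000000000018000000000001c00000000000038000000000003000000000000180000000000004000000000000180000000000030000000000003800000000000070000000000006000000000000300000000000008000000000000700000000000060000000000003000000000000080000000000003000000000000600000000000070000000e00000c000007e00000000000000000020000000000001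
  Ai := 0xa000000000000e000000000000c00000000000010000000000000a000000000000e000000000000600000000000010000000000000a000000000000e000000000000600000000000014000000000001c0000000000018000000000000200000000000014000000000001c000000000000c00000000000028000000000003800000000000300000000000004200000c000006a00000c000005600000c000001e0000080000078000008000001800000800000014000000000001c000000000000c000000000000280000000000038000000000003000000000000040000000000002800000000000380000000000018000000000000500000000000070000000000006000000000000080000000000005000000000000700000000000060000000000000800000000000050000000000007000000000000300000068000004000001600000400000000000020000000000001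
  B := 0x600000000000e0000000000003a0000000000010000000000000a00000000000f400000000000b600000000000007c000000000001c000000000007a00000000001dc000000000001e00000000000bc000000000018e00000000000aa000000000000001e0000080000006f800000000fea00000c0000000c00000000038000000000000814000020000000380000000006a00000c000001ec80008000179e0000080000f6fe8000e0000a45b8000e000000140000000003808000020000280c00002000006b68000c000004378000c000150a48000a000000001f0000000000007000000000001e80000000000770000000000007800000000002f0000000000063800000000002a8000000000000030000000000070000000000001d00000000000080000000000005000000000007a000000000005b00000382c0000a000039740000400000000000020000381800003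
  Bi := 0xaa00000000000d20000000000038000000000001000000000000dc000000000005400000000000d40000000000001a800000000000f600000000001fe000000000007e000000000014a000000000001a00000000001d000000000000900000000000001eeb5000020000ac35000020000fe35000020000281400000000030040000200000810000020001ebd78000e0000079d8000800016bd6800000000018c8000800005a5a000020000fe5a00002000030180000200001008000020000300800002000123120000000000612000000001210000000000000006a000000000003d800000000007f800000000001f80000000000528000000000006800000000007400000000000240000000000000550000000000069000000000001c0000000000008000000000006e000000000002a000000000006a00000ce5a000080001dfc68000400000000000020000301000003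
  zc := [
    (41, [], [43]), (42, [41, 42], []), (43, [42], []), (44, [42], [43, 45]), (45, [46], [46]),
    (46, [45], []), (47, [46], [])]
  vc := [
    (33, [], [36], [36]), (34, [42, 43], [34, 36], []), (35, [41], [34], []), (36, [43], [35], []),
    (37, [46, 47], [37, 39], []), (38, [45, 46], [37, 38], []), (39, [47], [38], []),
    (40, [], [39], [39, 40])]

theorem c5 : (su ([3, 1, 0].flatMap tw2) Nl &&
    chkRep7 Nl Ql Zl ([3, 1, 0].flatMap tw2) [
      (Q5_0, [22, 24], [20, 22, 24, 23, 32, 22, 20])]) = true := by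
  decide +kernel

theorem g5 : Good7 Ql (wd ([3, 1, 0].flatMap tw2)) := by
  have h := c5
  rw [Bool.and_eq_true] at h
  exact good7_of_chk (qz h1 h2 h3) (fun a ha => nz h4 h1 ha) (sub_of_su h.1) h.2

def Q6_0 : PD where
  c := [24, 23, 22, 25]
  f := []
  i0 := 33
  k1 := 7
  k2 := 7
  A := 0x4000000000000e000000000000c00000000000010000000000000a0000000000008000000000000600000000000010000000000000a0000000000008000000000000600000000000008000000000001c00000000000180000000000002000000000000140000000000010000000000000c000000000000100000000000038000000000003000000000000028000000000006a00000c0000020000000000001e00000800000600000000000018000008000000140000000000010000000000000c000000000000100000000000038000000000003000000000000040000000000002800000000000200000000000018000000000000200000000000070000000000006000000000000080000000000002000000000000700000000000060000000000000800000000000050000000000004000000000000300000068000004000000800000c00000000000020000000000001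
  Ai := 0xa00000000000080000000000006000000000000100000000000004000000000000e000000000000c000000000000100000000000004000000000000e000000000000c000000000000140000000000010000000000000c000000000000200000000000008000000000001c00000000000180000000000002800000000000200000000000018000000000000140000000000010000000000005600000c0000050000000000002e000004000002400000400000008000000000001c000000000001800000000000028000000000002000000000000180000000000004000000000000100000000000038000000000003000000000000050000000000004000000000000300000000000008000000000000500000000000040000000000003000000000000080000000000002000000000000700000000000060000000400000c000005400000800000000000020000000000001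
  B := 0xae0000000000092000000000006000000000000100000000000074000000000000e000000000000c0000000000001ec00000000001ba00000000000e000000000000cc00000000000f400000000000de000000000000c000000000000e0000000000000ad3d800020001c2e000004000198a0000000000281c00000000020040000200001800000000001ebbe800040001b9ac80002000005600000c0000051980000000002e000004000002400000400001808000020000001c000000000001800000000002fe800040000025a000040000000180000000000007b000000000006e80000000000380000000000033000000000003d000000000003780000000000030000000000003800000000000057000000000004900000000000300000000000008000000000003a0000000000007000000000000600000005c0000c00001d5d8000800000000000020000181c00001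
  Bi := 0x5600000000000f200000000000d20000000000010000000000003a0000000000038000000000000600000000000014400000000001f200000000001d60000000000064000000000002e000000000007a000000000007e0000000000006000000000000169688000a000121088000a0000c820000000000100c000020000380400002000030040000200005afb800020000f6910000e00005a7f00002000001ec800080000fe35000020000018c80008000008140000200000810000020000000c0000000000025000000000006f800000000006f000000000000051000000000007c80000000000758000000000019000000000000b800000000001e800000000001f800000000000180000000000002b000000000007900000000000690000000000008000000000001d000000000001c000000000000300000f6b900006000008840000c00000000000020000080800001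
  zc := [
    (41, [43], []), (42, [41], []), (43, [43], [42]), (44, [43, 47], [46]), (45, [], [41, 47]),
    (46, [], [45]), (47, [47], [45])]
  vc := [
    (33, [42, 43, 44, 47], [35, 38], [35]), (34, [], [], [33, 34]), (35, [41], [], [34]),
    (36, [41, 43], [34], [33]), (37, [46], [39], []), (38, [45], [37], []), (39, [45, 47], [39], [38]),
    (40, [41, 44, 47], [], [35, 37, 39])]

theorem c6 : (su ([4, 2, 0].flatMap tw2) Nl &&
    chkRep7 Nl Ql Zl ([4, 2, 0].flatMap tw2) [
      (Q6_0, [], [29, 23, 22, 23, 20, 22, 20, 30, 27])]) = true := by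
  decide +kernel

theorem g6 : Good7 Ql (wd ([4, 2, 0].flatMap tw2)) := by
  have h := c6
  rw [Bool.and_eq_true] at h
  exact good7_of_chk (qz h1 h2 h3) (fun a ha => nz h4 h1 ha) (sub_of_su h.1) h.2

def Q7_0 : PD where
  c := [24, 25, 22, 23, 27]
  f := [33]
  i0 := 33
  k1 := 7
  k2 := 7
  A := 0xa0000000000002000000000000e0000000000001000000000000f4000000000000a0000000000006000000000000100000000000014000000000000a0000000000006000000000000b40000000000064000000000001c000000000001e000000000000080000000000014000000000000c0000000000002800000000000080000000000038000000000016940000000000c84000000000004200000c0000006000000000006a00000c000001e000008000038080000200000014000000000000c00000000006b68000c000001ec8000800000003800000000000040000000000005000000000000280000000000018000000000002d000000000001900000000000070000000000007800000000000050000000000001000000000000700000000000008000000000007a000000000000500000000000030000001400000c000039600000400000000000020000380000001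
  Ai := 0xc000000000000a000000000000400000000000010000000000003e0000000000038000000000003a00000000000010000000000001e0000000000018000000000001a000000000000780000000000054000000000002800000000000060000000000001c00000000000100000000000014000000000000300000000000028000000000001000000000000f780000080000ad600000c0000f600000000000ac200000c000052000000000005280000000000081c00002000008100000200000814000020000006f000000000004a8000000000025000000000000040000000000007800000000000600000000000068000000000001e0000000000015000000000000a0000000000001800000000000060000000000005000000000000200000000000008000000000001f000000000001c000000000001d000005a800000c0000fe800000400000000000020000080000001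
  B := 0xc000000000000a000000000000e00000000000010000000000003e0000000000006000000000003a00000000000010000000000001e0000000000006000000000001a000000000000780000000000054000000000007c00000000000060000000000001c000000000000c0000000000014000000000000300000000000028000000000003800000000000f780000080000ad600000c00000180000080000ac200000c000001e0000080000fea00000c0000081c000020000000c0000000000814000020000006f000000000004a800000000006f800000000000040000000000007800000000000180000000000068000000000001e0000000000015000000000001f0000000000001800000000000060000000000005000000000000700000000000008000000000001f0000000000003000000000001d00000f7e0000000000fe800000400000000000020000080000001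
  Bi := 0xe0000000000006000000000000a0000000000001000000000000bc000000000000a000000000000e00000000000010000000000001c000000000000a000000000000e000000000000bc00000000000ec00000000000140000000000016000000000000180000000000014000000000001c0000000000003800000000000180000000000028000000000017f40000040001da4000004000006a00000c000002e000004000004200000c000005600000c000028180000200000014000000000001c00000000004378000c0000057d8000c00000002800000000000040000000000007000000000000280000000000038000000000002f000000000003b00000000000050000000000005800000000000070000000000003000000000000500000000000008000000000005e000000000000500000000000070000005400000800002fe00000000000000000020000280000001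
  zc := [
    (41, [], [42]), (42, [41], []), (43, [41, 42], [42]), (44, [42, 43], [42, 46]), (45, [47], []),
    (46, [], [47]), (47, [], [45, 47])]
  vc := [
    (33, [], [], []), (34, [], [], [33]), (35, [43], [34], [34, 36]), (36, [41, 42], [], [34, 36]),
    (37, [45], [], [38]), (38, [45], [37], []), (39, [41, 42, 43, 45, 46], [36], [34, 35]),
    (40, [46, 47], [34], [34, 39])]

def Q7_1 : PD where
  c := [22, 24, 23, 22, 27, 20, 25, 27]
  f := [34, 36, 37, 38]
  i0 := 34
  k1 := 7
  k2 := 7
  A := 0x6000000000000c000000000000ce000000000001000000000000e0000000000003c00000000000060000000000000e0000000000010000000000001ec000000000001800000000001c00000000000060000000000007a000000000007c0000000000001c000000000001c2e0000040000078000008000018000000000003000000000000301c0000000018000000000000c0000000000005a400000400000180000080000f77d800060000018300008000038000000000000818000020000000c000000000ff4000004000001e0000080000006f8000000000000380000000000040000000000007b000000000000600000000000700000000000018000000000001e800000000001f0000000000000300000000000060000000000006700000000000080000000000070000000000001e000000000000300000f7e000000000030e00000e00000000000020000300000003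
  Ai := 0x8800000000000c8000000000004800000000000100000000000062000000000003e000000000003c00000000000008000000000001080000000000198000000000019000000000001ca00000000001ea000000000002a000000000002c000000000000102000000000010600000000001040000000000020100000000003010000000000101000000000182010000e0001c2810000e0000a5130000e0000f712000060000529300006000052120000600001804000000000081c00002000008180000200005ac58000400005a6580004000000258000000000000200000000000042000000000006600000000000640000000000072800000000007a800000000000a800000000000b0000000000000440000000000064000000000002400000000000080000000000031000000000001f000000000001e000005281000080000b5120000800000000000020000100000003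
  B := 0x8800000000000c8000000000008000000000000100000000000062000000000005c000000000003c00000000000008000000000001080000000000090000000000019000000000001ca00000000001ea00000000001c0000000000002c000000000000102000000000000400000000001040000000000020100000000003010000000000200000000000182010000e0001c2810000e00012712000000000f7120000600012500000000000a5000000000001804000000000101800002000008180000200005ac58000400005a658000400005a400000400000000200000000000042000000000002400000000000640000000000072800000000007a8000000000070000000000000b0000000000000440000000000064000000000004000000000000080000000000031000000000002e000000000001e000019000000060000b5120000800000000000020000100000003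
  Bi := 0x2000000000000c000000000000c6000000000001000000000000a00000000000074000000000000e000000000000060000000000010000000000001640000000000018000000000014000000000000e000000000000fa00000000000f40000000000000c000000000000c060000000000018000008000008000000000003000000000000300c0000000008000000000001c00000000000048400000000000780000080001f1ec800020000078300008000028000000000001808000020000001c000000001e94000000000005600000c000002fe80004000000001800000000000400000000000059000000000000600000000000500000000000038000000000003e800000000003d0000000000000100000000000060000000000006300000000000080000000000050000000000003a000000000000700001f16000004000030600000a00000000000020000300000003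
  zc := [
    (41, [47], [43, 46]), (42, [41], []), (43, [], [47]), (44, [42], [45, 46]), (45, [46], [45]),
    (46, [47], [45]), (47, [46], [])]
  vc := [
    (33, [41, 42, 43, 46], [40], [35]), (34, [], [], []), (35, [46], [], [39, 40]), (36, [44], [36], [34]),
    (37, [41, 44, 46, 47], [38], [39]), (38, [47], [], [34, 40]), (39, [42, 43, 45], [33], [33, 38]),
    (40, [47], [36], [38])]

def Q7_2 : PD where
  c := [20, 27, 25, 22, 23, 27, 20, 24, 27]
  f := [33, 34, 36, 37, 38]
  i0 := 33
  k1 := 7
  k2 := 7
  A := 0xb800000000000800000000000004000000000001000000000000780000000000026000000000002400000000000005000000000001800000000000046000000000004000000000001780000000000150000000000000400000000000260000000000000a400000000000014a0000000000100000000000281000002000020000000000000008000000001f600000000001a400000000000896f0000e00008100000000000004080000000000400000000001810000020000080c000000000080800000000048ef000060000484a0000600000020800000000000014000000000006000000000000118000000000010000000000005e00000000000540000000000001000000000000980000000000005c000000000004000000000000020000000000008000000000003c0000000000013000000000001200000084a0000e0000814a0000a00000000000020000080000001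
  Ai := 0x4000000000000c80000000000022000000000001000000000000f2000000000002000000000000060000000000001080000000000188000000000002000000000000620000000000120000000000007a00000000000040000000000064000000000000102000000000004080000000000c0810000e00001000000000000301000000000008040000000015080000000000f6910000e0000400000000000001830000800000020000000000006080000000038040000200000800000000000000c000000000c82000000000001ec80008000000600000000000000420000000000062000000000000800000000000188000000000048000000000001e8000000000001000000000001900000000000002000000000000640000000000011000000000000800000000000790000000000010000000000000300000c08000006000008840000c00000000000020000080400001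
  B := 0x4000000000000c800000000000ea000000000001000000000000f200000000000d20000000000006000000000000108000000000018800000000001a800000000000620000000000120000000000007a000000000007e0000000000064000000000000102000000000014280000000000c0810000e00001000000000000301000000000038140000000015080000000000f6910000e000110800000000000183000080000fe3500002000001e380008000038040000200003004000020000000c000000000c82000000000001ec800080000018c8000800000000420000000000062000000000006a00000000000188000000000048000000000001e800000000001f800000000001900000000000002000000000000640000000000075000000000000800000000000790000000000069000000000000300000361100008000008840000c00000000000020000080400001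
  Bi := 0xf80000000000080000000000000c00000000000100000000000038000000000006e000000000006c0000000000000d0000000000018000000000000ce00000000000c000000000001f800000000001d0000000000000c000000000002e0000000000001a400000000000075a0000400000500000000000381000002000020000000000000018000000000f600000000000a4000000000019dff0000a00018500000000000024180004000002400000400000810000020000181c00000000018180000000005a7f0000200005a5a00002000000a1800000000000034000000000006000000000000338000000000030000000000007e00000000000740000000000003000000000000b80000000000007c000000000004000000000000060000000000008000000000001c0000000000037000000000003600000185a0000a0001855a0000e00000000000020000180000001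
  zc := [
    (41, [41, 45], []), (42, [], [41]), (43, [45], [42, 43]), (44, [45], [41, 43, 45]), (45, [45], [41]),
    (46, [43], [43, 45]), (47, [41, 43], [42])]
  vc := [
    (33, [], [], []), (34, [42], [38], []), (35, [46], [], [40]), (36, [41, 42, 43, 44, 45], [37], [35]),
    (37, [41, 42, 45], [37], [37]), (38, [41, 42, 45], [], [37]), (39, [43, 45, 46, 47], [36], [38]),
    (40, [], [39], [])]

theorem c7 : (su ([6, 5, 3].flatMap tw2) Nl &&
    chkRep7 Nl Ql Zl ([6, 5, 3].flatMap tw2) [
      (Q7_0, [20, 22, 24, 23, 20, 25, 22, 20, 30, 26, 27], [23, 20, 25, 22, 23, 20, 26, 22, 20, 30, 26, 27]),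
      (Q7_1, [26, 23, 20, 28, 22, 23, 20, 22, 27, 20, 24], [20, 22, 31, 23, 28, 22, 20, 22, 20, 28]),
      (Q7_2, [25, 27, 26, 22, 23, 20, 22, 27, 20, 29, 24], [23, 32, 22, 20, 22, 23, 25, 22, 20, 27])]) = true := by
  decide +kernel

theorem g7 : Good7 Ql (wd ([6, 5, 3].flatMap tw2)) := by
  have h := c7
  rw [Bool.and_eq_true] at h
  exact good7_of_chk (qz h1 h2 h3) (fun a ha => nz h4 h1 ha) (sub_of_su h.1) h.2

/-- the words of this part -/
def ws : List (List ℕ) := [
  [0], [1, 0], [2, 0], [2, 1, 0], [3, 1, 0], [4, 2, 0], [6, 5, 3]]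

theorem good {w : List ℕ} (hw : w ∈ ws) : Good7 Ql (wd (w.flatMap tw2)) := by
  simp only [ws, List.mem_cons, List.not_mem_nil, or_false] at hw
  rcases hw with rfl | rfl | rfl | rfl | rfl | rfl | rfl
  · exact g1
  · exact g2
  · exact g3
  · exact g4
  · exact g5
  · exact g6
  · exact g7

end Cfsg.Agent.H335.TC6.CertA
end

-- part: H335/TC6/CertB
section
/-!
# S2464, `F₄(2)`: certificates with pairs of order 7, part B (helper335)
-/

set_option autoImplicit false
set_option maxRecDepth 100000

namespace Cfsg.Agent.H335.TC6.CertB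

open Cfsg.Agent.H335.FT Cfsg.Agent.H335.FT.CertB Cfsg.Agent.H335.FT.CertP

def Q8_0 : PD where
  c := [23, 25, 22, 23, 24]
  f := []
  i0 := 33
  k1 := 7
  k2 := 7
  A := 0xe000000000000c0000000000006000000000000100000000000006000000000000c000000000000e000000000000100000000000006000000000000c000000000000e0000000000001c0000000000018000000000000c00000000000020000000000000c0000000000018000000000001c00000000000038000000000003000000000000180000000000001e0000080000018000008000007400000400000780000080000024000004000002e0000040000000c0000000000018000000000001c00000000000038000000000003000000000000180000000000004000000000000180000000000030000000000003800000000000070000000000006000000000000300000000000008000000000000700000000000060000000000003000000000000080000000000003000000000000600000000000070000000e00000c000007e00000000000000000020000000000001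
  Ai := 0xa000000000000e000000000000c00000000000010000000000000a000000000000e000000000000600000000000010000000000000a000000000000e000000000000600000000000014000000000001c0000000000018000000000000200000000000014000000000001c000000000000c00000000000028000000000003800000000000300000000000004200000c000006a00000c000005600000c000001e0000080000078000008000001800000800000014000000000001c000000000000c000000000000280000000000038000000000003000000000000040000000000002800000000000380000000000018000000000000500000000000070000000000006000000000000080000000000005000000000000700000000000060000000000000800000000000050000000000007000000000000300000068000004000001600000400000000000020000000000001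
  B := 0x60000000000002000000000003a0000000000010000000000000a00000000000f400000000000540000000000000060000000000002000000000007a000000000002e000000000001e000000000000a00000000001f400000000000b400000000000000000800000000006f8000000000025000000000000c000000000000400000000008140000200000003800000000000100000000001ec8000800000084800000000f6fe8000e00005ade80002000000140000000003808000020000100800002000006b68000c0000029680000000169400000000000000018000000000000800000000001e800000000000b80000000000078000000000002800000000007d000000000002d0000000000000030000000000001000000000001d00000000000080000000000005000000000007a000000000002a00000002800008000000908000e00000000000020000001c00001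
  Bi := 0x3e00000000000d200000000000380000000000010000000000004800000000000c0000000000004000000000000007e00000000001b2000000000007800000000001a800000000001980000000000088000000000018000000000000800000000000000ffb98000a0000006f000000000fe35000020000081c0000200003004000020000081000002000052930000600011691000000000f7800000800011080000000000f600000000000520000000000010100000000003000000000000100000000000106000000000000200000000001000000000000000001f800000000006c800000000001e000000000006a000000000006600000000000220000000000060000000000002000000000000001f0000000000069000000000001c000000000000800000000000240000000000060000000000002000000620000008000062900000e00000000000020000301000001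
  zc := [
    (41, [], [43]), (42, [41, 42], []), (43, [42], []), (44, [42], [43, 45]), (45, [45, 47], []),
    (46, [45], []), (47, [46], [])]
  vc := [
    (33, [], [], [35]), (34, [42, 43], [34, 36], []), (35, [41], [34], []), (36, [43], [35], []),
    (37, [46, 47], [37, 39], []), (38, [45, 46], [37, 38], []), (39, [47], [38], []),
    (40, [42, 43], [34], [36, 40])]

theorem c8 : (su ([3, 2, 1, 0].flatMap tw2) Nl &&
    chkRep7 Nl Ql Zl ([3, 2, 1, 0].flatMap tw2) [
      (Q8_0, [22, 24], [23, 30, 27, 20, 22, 23, 20, 22, 20, 32, 28])]) = true := by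
  decide +kernel

theorem g8 : Good7 Ql (wd ([3, 2, 1, 0].flatMap tw2)) := by
  have h := c8
  rw [Bool.and_eq_true] at h
  exact good7_of_chk (qz h1 h2 h3) (fun a ha => nz h4 h1 ha) (sub_of_su h.1) h.2

def Q9_0 : PD where
  c := [23, 22, 23, 24, 25]
  f := []
  i0 := 33
  k1 := 7
  k2 := 7
  A := 0xa000000000000c000000000000e00000000000010000000000000e000000000000a000000000000600000000000010000000000000e000000000000a0000000000006000000000000140000000000018000000000001c00000000000020000000000001c0000000000014000000000000c00000000000028000000000003000000000000380000000000005600000c0000078000008000004200000c0000018000008000006a00000c000001e0000080000001c0000000000014000000000000c00000000000028000000000003000000000000380000000000004000000000000380000000000028000000000001800000000000050000000000006000000000000700000000000008000000000000500000000000060000000000007000000000000080000000000007000000000000500000000000030000007e000000000001600000400000000000020000000000001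
  Ai := 0xe000000000000a000000000000600000000000010000000000000a000000000000c000000000000e00000000000010000000000000a000000000000c000000000000e0000000000001c0000000000014000000000000c0000000000002000000000000140000000000018000000000001c00000000000038000000000002800000000000180000000000006a00000c000004200000c0000074000004000005600000c0000024000004000002e000004000000140000000000018000000000001c00000000000038000000000002800000000000180000000000004000000000000280000000000030000000000003800000000000070000000000005000000000000300000000000008000000000000700000000000050000000000003000000000000080000000000005000000000000600000000000070000002a000008000007e00000000000000000020000000000001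
  B := 0xe00000000000b200000000000600000000000010000000000007a000000000000c00000000000ec0000000000000ec00000000000fa000000000000c00000000001cc000000000000e000000000017200000000000c000000000000dc0000000000000057d8000c000002e0000040001d8a0000000000001c0000000002804000020000180000000000002fe800040001f4910000e000000018000000017df98000e000002400000400018240000040000181400002000000180000000003818000000000025b800040001bcfb800080000074000004000000003b000000000003e800000000000300000000000730000000000003800000000005c80000000000300000000000037000000000000007000000000005900000000000300000000000008000000000003d000000000000600000000000760000002b80000a00001ff98000000000000000020000181800003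
  Bi := 0x2600000000000d200000000000f2000000000001000000000000bc00000000000b80000000000084000000000000064000000000013a000000000013e0000000000144000000000004600000000001d6000000000019600000000000500000000000000c9ac800080000c9cc800080000c820000000000080c00000000030040000200003804000020000892f8000e0001df3d800080000896f0000e000121088000a000156350000c0001a1488000a0000281800002000028100000200002008000000000014a000000000a44a000000000a54a000000000000019000000000004e800000000004f80000000000510000000000011800000000007580000000000658000000000014000000000000013000000000006900000000000790000000000008000000000005e000000000005c0000000000042000015f7580002000089488000400000000000020000080800003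
  zc := [
    (41, [41, 43], []), (42, [41], []), (43, [], [42]), (44, [41], [41, 42, 46]), (45, [47], []),
    (46, [], [45]), (47, [46], [])]
  vc := [
    (33, [], [34], [33, 34]), (34, [42], [36], []), (35, [41, 42], [34, 35], []), (36, [43], [35], []),
    (37, [46, 47], [37, 39], []), (38, [45], [37], []), (39, [45, 47], [38, 39], []),
    (40, [46], [], [35, 39])]

theorem c9 : (su ([4, 2, 1, 0].flatMap tw2) Nl &&
    chkRep7 Nl Ql Zl ([4, 2, 1, 0].flatMap tw2) [
      (Q9_0, [25, 22, 24], [32, 22, 23, 20, 22, 20, 30, 29, 27])]) = true := by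
  decide +kernel

theorem g9 : Good7 Ql (wd ([4, 2, 1, 0].flatMap tw2)) := by
  have h := c9
  rw [Bool.and_eq_true] at h
  exact good7_of_chk (qz h1 h2 h3) (fun a ha => nz h4 h1 ha) (sub_of_su h.1) h.2

def Q10_0 : PD where
  c := [25, 22, 23, 22, 24]
  f := []
  i0 := 33
  k1 := 7
  k2 := 7
  A := 0xa000000000000e000000000000600000000000010000000000000a000000000000e000000000000c00000000000010000000000000a000000000000e000000000000c00000000000014000000000001c000000000000c000000000000200000000000014000000000001c000000000001800000000000028000000000003800000000000180000000000004200000c000006a00000c000005600000c0000074000004000002e000004000002400000400000014000000000001c000000000001800000000000028000000000003800000000000180000000000004000000000000280000000000038000000000003000000000000050000000000007000000000000300000000000008000000000000500000000000070000000000003000000000000080000000000005000000000000700000000000060000002a000008000005400000800000000000020000000000001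
  Ai := 0x6000000000000c000000000000e00000000000010000000000000e000000000000c000000000000600000000000010000000000000e000000000000c00000000000060000000000000c0000000000018000000000001c00000000000020000000000001c0000000000018000000000000c00000000000018000000000003000000000000380000000000002e0000040000078000008000002400000400000180000080000074000004000001e0000080000001c0000000000018000000000000c00000000000018000000000003000000000000380000000000004000000000000380000000000030000000000001800000000000030000000000006000000000000700000000000008000000000000300000000000060000000000007000000000000080000000000007000000000000600000000000030000007e000000000000e00000c00000000000020000000000001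
  B := 0x600000000000c000000000000ce000000000001000000000000fe000000000002200000000000760000000000000180000000000078000000000006200000000000f800000000000660000000000198000000000016e000000000014a0000000000000018000008000001830000800000780000080000000c0000000003000000000000301c00000000001ef000080000f7800000800000060800000001f180000080000c0e18000e0001f37f0000c0000381c0000200000804000000000180c000020000c8c58000e0001a3130000e000048c4800000000000006000000000001e0000000000018800000000003e00000000000198000000000066000000000005b8000000000052800000000000003000000000006000000000000670000000000008000000000007f0000000000011000000000003b00000c06c0000a000030fc0000e00000000000020000301000001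
  Bi := 0xea00000000000aa0000000000038000000000001000000000000e000000000000bc000000000003c0000000000001a800000000000a000000000001d6000000000005600000000000bc00000000001bc000000000005000000000001c000000000000014280000000000fe35000020000ac3500002000038140000000002814000000000081000002000006a00000c000146a00000c00017b77800080000ad77800020000a44a000000000004a0000000003800000000000281800002000008180000200017f40000040000ff40000040000a50000000000000006a000000000002800000000000758000000000015800000000002f000000000006f000000000001400000000000700000000000000750000000000055000000000001c00000000000080000000000070000000000005e000000000001e00000d6000000a0000d7778000e00000000000020000280000001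
  zc := [
    (41, [43], []), (42, [41, 42], []), (43, [42, 43], []), (44, [42], [41, 45, 46]), (45, [47], []),
    (46, [45], []), (47, [], [46])]
  vc := [
    (33, [41, 42, 45, 46], [39], [38]), (34, [42], [36], []), (35, [41], [34], []),
    (36, [41, 43], [35, 36], []), (37, [46], [39], []), (38, [45, 46], [37, 38], []),
    (39, [45, 47], [38, 39], []), (40, [45, 47], [37], [39, 40])]

theorem c10 : (su ([4, 3, 1, 0].flatMap tw2) Nl &&
    chkRep7 Nl Ql Zl ([4, 3, 1, 0].flatMap tw2) [
      (Q10_0, [23, 25], [31, 23, 27, 20, 25, 22, 23, 20, 22, 20, 25, 24])]) = true := by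
  decide +kernel

theorem g10 : Good7 Ql (wd ([4, 3, 1, 0].flatMap tw2)) := by
  have h := c10
  rw [Bool.and_eq_true] at h
  exact good7_of_chk (qz h1 h2 h3) (fun a ha => nz h4 h1 ha) (sub_of_su h.1) h.2

def Q11_0 : PD where
  c := [23, 24, 25, 22]
  f := []
  i0 := 33
  k1 := 7
  k2 := 7
  A := 0xc0000000000002000000000000a000000000000100000000000006000000000000e0000000000004000000000000100000000000006000000000000e0000000000004000000000000180000000000004000000000001400000000000020000000000000c000000000001c0000000000008000000000000300000000000008000000000002800000000000018000008000000600000000000780000080000004000000000005600000c00000140000000000000c000000000001c0000000000008000000000000300000000000008000000000002800000000000040000000000001800000000000380000000000010000000000000600000000000010000000000005000000000000080000000000006000000000000100000000000050000000000000800000000000030000000000007000000000000200000016000004000001000000c00000000000020000000000001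
  Ai := 0x6000000000000e000000000000400000000000010000000000000c0000000000002000000000000a00000000000010000000000000c0000000000002000000000000a0000000000000c000000000001c0000000000008000000000000200000000000018000000000000400000000000140000000000001800000000000380000000000010000000000000240000040000074000004000000a000000000006a00000c00000080000000000028000000000000180000000000004000000000001400000000000018000000000003800000000000100000000000004000000000000300000000000008000000000002800000000000030000000000007000000000000200000000000008000000000000300000000000070000000000002000000000000080000000000006000000000000100000000000050000002000000c000002a00000800000000000020000000000001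
  B := 0xa00000000000e000000000000a00000000000010000000000000c00000000000fe000000000007a0000000000000a0000000000001c00000000000b400000000001a0000000000001e00000000000dc000000000015400000000000d2000000000000006a00000c000004200000c000140000000000000014000000000380000000000028000000000000003800000000074000004000006b68000c0001bea00000c00016d600000c0001ec200000c00000018000000000381c00002000018140000200000759800040000025b800040001a44a8000a00000000280000000000007000000000002d000000000006800000000000078000000000037000000000005500000000000348000000000000050000000000070000000000005000000000000080000000000006000000000007f000000000003d000003d540000a00003aa00000800000000000020000381400003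
  Bi := 0xd2000000000006000000000000f2000000000001000000000000dc00000000000d4000000000005c00000000000012000000000000ec000000000006400000000001ec000000000001a00000000001c0000000000015a00000000000900000000000001d8a0000000000c82000000000198a0000000000300400002000018000000000003804000020000079d800080001da40000040000018c8000800005a40000040000c9cc8000800016fdd800060000301800002000030080000200001018000020000061200000000125000000000012712000000000000048000000000003b0000000000019000000000007b0000000000006800000000007000000000000568000000000024000000000000069000000000003000000000000790000000000008000000000006e000000000006a000000000002e00000ffdd800020001179d8000c00000000000020000300000003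
  zc := [
    (41, [41], [43]), (42, [], [43]), (43, [41, 43], []), (44, [46], [42, 47]), (45, [], [45, 46]),
    (46, [47], []), (47, [], [45])]
  vc := [
    (33, [41, 42, 43], [35], [36]), (34, [41], [], [33, 35]), (35, [43], [36], []), (36, [42], [34], []),
    (37, [41, 43, 44, 46, 47], [], [35, 38]), (38, [46, 47], [38, 39], []), (39, [45], [37, 39], []),
    (40, [45, 47], [38], [40])]

theorem c11 : (su ([5, 3, 1, 0].flatMap tw2) Nl &&
    chkRep7 Nl Ql Zl ([5, 3, 1, 0].flatMap tw2) [
      (Q11_0, [30, 20, 22, 26, 23, 20, 22, 23, 20, 22, 27, 20, 32, 26], [20, 32, 22, 24, 23, 20, 22, 20, 29, 25, 27])]) = true := by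
  decide +kernel

theorem g11 : Good7 Ql (wd ([5, 3, 1, 0].flatMap tw2)) := by
  have h := c11
  rw [Bool.and_eq_true] at h
  exact good7_of_chk (qz h1 h2 h3) (fun a ha => nz h4 h1 ha) (sub_of_su h.1) h.2

def Q12_0 : PD where
  c := [23, 22, 25, 24, 25]
  f := []
  i0 := 33
  k1 := 7
  k2 := 7
  A := 0xc000000000000a000000000000e00000000000010000000000000e0000000000006000000000000a00000000000010000000000000e0000000000006000000000000a000000000000180000000000014000000000001c00000000000020000000000001c000000000000c0000000000014000000000000300000000000028000000000003800000000000078000008000005600000c0000018000008000004200000c000001e000008000006a00000c0000001c000000000000c000000000001400000000000030000000000002800000000000380000000000004000000000000380000000000018000000000002800000000000060000000000005000000000000700000000000008000000000000600000000000050000000000007000000000000080000000000007000000000000300000000000050000007e000000000006800000400000000000020000000000001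
  Ai := 0xe0000000000006000000000000a00000000000010000000000000c000000000000a000000000000e00000000000010000000000000c000000000000a000000000000e0000000000001c000000000000c00000000000140000000000002000000000000180000000000014000000000001c0000000000003800000000000180000000000028000000000000740000040000024000004000006a00000c000002e000004000004200000c000005600000c000000180000000000014000000000001c000000000000380000000000018000000000002800000000000040000000000003000000000000280000000000038000000000000700000000000030000000000005000000000000080000000000007000000000000300000000000050000000000000800000000000060000000000005000000000000700000054000008000007e00000000000000000020000000000001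
  B := 0xf8000000000007800000000000dc0000000000010000000000000c000000000000600000000000e600000000000015000000000000d0000000000006600000000001a6000000000001e00000000000de000000000007c000000000001c0000000000001a400000000000c94a000060001ec4a000060000381000002000018100000200003018000020000075a000040000025a00004000001ef000080001beef000060000018f800080000fecf8000c00000018000000000000c000000000380c0000000000003800000000074380004000001e000008000000005400000000000340000000000019800000000006980000000000078000000000037800000000001f000000000000700000000000007c000000000003c000000000006e0000000000008000000000000600000000000030000000000073000003f000000e000007f70000000000000000020000381800003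
  Bi := 0xc000000000000f8000000000003e00000000000100000000000096000000000009e000000000009a00000000000007800000000001f800000000001e000000000001e6000000000009800000000000ce000000000005400000000000120000000000000f600000000000f780000080000f7ef00008000030000000000003810000020000081c00002000131800000800019dff0000a000137800000800019aa50000e0000ad600000c0000ad2a8000c0000200c000020000201c00002000020140000200000413000000000051b800000000010a80000000000001e000000000007e000000000007800000000000798000000000026000000000003380000000000150000000000004800000000000060000000000007c000000000001f0000000000008000000000004b000000000004f000000000004d00000ad6f000060001369c0000600000000000020000001c00003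
  zc := [
    (41, [], [42]), (42, [], [43]), (43, [41], []), (44, [41], [41, 45]), (45, [45, 46], []), (46, [47], []),
    (47, [45, 47], [])]
  vc := [
    (33, [41, 43], [35], [33]), (34, [41, 43], [34, 35], []), (35, [43], [36], []), (36, [], [], [33, 36]),
    (37, [45], [38], []), (38, [46, 47], [38, 39], []), (39, [46], [37], []),
    (40, [43, 44, 45, 46], [], [35, 37, 39])]

theorem c12 : (su ([6, 3, 2, 1].flatMap tw2) Nl &&
    chkRep7 Nl Ql Zl ([6, 3, 2, 1].flatMap tw2) [
      (Q12_0, [31, 23, 27, 20, 22, 23, 30, 20, 26, 22, 20, 30, 26, 27], [23, 22, 23, 20, 22, 23, 30, 20, 31, 27, 24])]) = true := by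
  decide +kernel

theorem g12 : Good7 Ql (wd ([6, 3, 2, 1].flatMap tw2)) := by
  have h := c12
  rw [Bool.and_eq_true] at h
  exact good7_of_chk (qz h1 h2 h3) (fun a ha => nz h4 h1 ha) (sub_of_su h.1) h.2

def Q13_0 : PD where
  c := [23, 22, 23, 24, 27, 25, 27]
  f := []
  i0 := 33
  k1 := 7
  k2 := 7
  A := 0xa000000000000c000000000000e0000000000001000000000000ce000000000003a000000000000600000000000010000000000000e000000000001a0000000000006000000000001f40000000000018000000000007c000000000007a0000000000001c0000000000014000000000000c000000000000280000000000030000000000003800000000001c5600000c00000780000080000ac200000c00000180000080000fea00000c000001e0000080000301c0000000000814000020000000c000000000f6fe8000e00000183000080000006f800000000000040000000000003800000000000680000000000018000000000007d0000000000006000000000001f000000000001e8000000000000500000000000060000000000007000000000000080000000000067000000000001d000000000000300000f7e000000000031600000400000000000020000300000001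
  Ai := 0xe000000000000a000000000000600000000000010000000000004a000000000003c000000000003e00000000000010000000000000a000000000001c000000000001e000000000001bc00000000001b4000000000002c000000000002a000000000000140000000000018000000000001c00000000000038000000000002800000000000180000000000146a00000c000144200000c0000ff40000040000ad600000c00005a400000400005ae000004000010140000000000818000020000081c000020000523780006000052b68000600000025800000000000040000000000002800000000000700000000000078000000000006f000000000006d000000000000b000000000000a8000000000000700000000000050000000000003000000000000080000000000025000000000001e000000000001f0000052a0000080000efe00000000000000000020000100000001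
  B := 0xb800000000000f800000000000c00000000000010000000000004a0000000000076000000000003e00000000000018000000000000a800000000000f800000000000780000000000196000000000019e0000000000198000000000002a00000000000015200000000001f600000000000f60000000000028100000200003810000020000300000000000156350000c000154b50000c0001f37f0000c0000f7ef000080001f180000080000f7800000800001014000000000180c000020000081c000020000523780006000052b68000600005293000060000000060000000000002a000000000003e000000000001e000000000006580000000000678000000000066000000000000a80000000000005c000000000007c000000000006000000000000080000000000025000000000003b000000000001f000010690000040000a57f0000400000000000020000001000001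
  Bi := 0xe000000000000c000000000000b6000000000001000000000000c6000000000006c000000000000e000000000000160000000000006000000000001dc00000000000f8000000000011c000000000001800000000000ee00000000000e20000000000000c00000000000179e0000080001f18000008000038000000000003000000000000280c000020000c1e0000080000018000008000187400000400000780000080001ddbb800060000057f0000c0000300c0000000001818000000000001c000000001c7e3800020000078300008000002e180004000000005800000000000180000000000077000000000003e00000000000470000000000006000000000003b80000000000388000000000000700000000000060000000000005b000000000000800000000000630000000000036000000000000700001c0e00000c000037ec0000000000000000020000300c00001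
  zc := [
    (41, [42], [41]), (42, [41], []), (43, [], [42, 43, 47]), (44, [47], [42, 43]), (45, [47], []),
    (46, [45, 46], []), (47, [46], [])]
  vc := [
    (33, [43], [36, 39], [36]), (34, [42], [36, 38], []), (35, [42, 44], [33], [33, 37]),
    (36, [43], [35], []), (37, [41, 42, 44], [33], [37]), (38, [45], [37], []), (39, [], [], [40]),
    (40, [47], [38], [37, 38])]

theorem c13 : (su ([6, 5, 3, 2].flatMap tw2) Nl &&
    chkRep7 Nl Ql Zl ([6, 5, 3, 2].flatMap tw2) [
      (Q13_0, [25, 22, 28, 24], [28, 22, 20, 28, 22, 23, 20, 26, 22, 20, 27])]) = true := by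
  decide +kernel

theorem g13 : Good7 Ql (wd ([6, 5, 3, 2].flatMap tw2)) := by
  have h := c13
  rw [Bool.and_eq_true] at h
  exact good7_of_chk (qz h1 h2 h3) (fun a ha => nz h4 h1 ha) (sub_of_su h.1) h.2

def Q14_0 : PD where
  c := [23, 22, 23, 24, 25]
  f := []
  i0 := 33
  k1 := 7
  k2 := 7
  A := 0xa000000000000c000000000000e00000000000010000000000000e000000000000a000000000000600000000000010000000000000e000000000000a0000000000006000000000000140000000000018000000000001c00000000000020000000000001c0000000000014000000000000c00000000000028000000000003000000000000380000000000005600000c0000078000008000004200000c0000018000008000006a00000c000001e0000080000001c0000000000014000000000000c00000000000028000000000003000000000000380000000000004000000000000380000000000028000000000001800000000000050000000000006000000000000700000000000008000000000000500000000000060000000000007000000000000080000000000007000000000000500000000000030000007e000000000001600000400000000000020000000000001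
  Ai := 0xe000000000000a000000000000600000000000010000000000000a000000000000c000000000000e00000000000010000000000000a000000000000c000000000000e0000000000001c0000000000014000000000000c0000000000002000000000000140000000000018000000000001c00000000000038000000000002800000000000180000000000006a00000c000004200000c0000074000004000005600000c0000024000004000002e000004000000140000000000018000000000001c00000000000038000000000002800000000000180000000000004000000000000280000000000030000000000003800000000000070000000000005000000000000300000000000008000000000000700000000000050000000000003000000000000080000000000005000000000000600000000000070000002a000008000007e00000000000000000020000000000001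
  B := 0xe000000000007800000000000aa0000000000010000000000007a00000000000c600000000000260000000000000f6000000000000e00000000000e2000000000015e00000000000fa0000000000026000000000011c000000000017c000000000000002ff00004000005628000c0001eeb5000020000001c0000000001810000020000281400000000002fe80004000000a5000000000078300008000048ef000060001c7e380002000081438000e00001814000020000300c000000000080c000000001f66f8000a000048cf800060000c1e000008000000003d800000000000380000000000388000000000057800000000003e80000000000098000000000047000000000005f000000000000007000000000003c00000000000550000000000008000000000003d0000000000063000000000001300001f68c000060000187b0000a00000000000020000181800001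
  Bi := 0xea00000000000d2000000000003e000000000001000000000000bc0000000000074000000000004800000000000007e00000000001d600000000001b400000000001b2000000000016a000000000013a000000000002a00000000001900000000000000fe35000020000ffd68000a0000ffb98000a000038140000000003004000020000081c0000200017b77800080001df3d800080001bbf6800060001169100000000052b68000600005293000060000281800002000018080000200001010000000001f3120000600015612000060000521200006000000001f8000000000075800000000006d000000000006c800000000005a800000000004e800000000000a80000000000640000000000000750000000000069000000000001f0000000000008000000000005e000000000003a000000000002400000ad2d8000600014c890000800000000000020000080800001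
  zc := [
    (41, [45], [42]), (42, [41], []), (43, [42, 43], []), (44, [46, 47], [42, 43]), (45, [47], []),
    (46, [45, 46], []), (47, [46], [])]
  vc := [
    (33, [41, 42, 43, 45, 46, 47], [], [35, 38, 39]), (34, [42], [36], []), (35, [41, 42], [34, 35], []),
    (36, [43], [35], []), (37, [46, 47], [37, 39], []), (38, [45], [37], []), (39, [45, 47], [38, 39], []),
    (40, [45, 46, 47], [34], [34])]

theorem c14 : (su ([4, 3, 2, 1, 0].flatMap tw2) Nl &&
    chkRep7 Nl Ql Zl ([4, 3, 2, 1, 0].flatMap tw2) [
      (Q14_0, [25, 22, 24], [22, 23, 30, 20, 26, 22, 20])]) = true := by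
  decide +kernel

theorem g14 : Good7 Ql (wd ([4, 3, 2, 1, 0].flatMap tw2)) := by
  have h := c14
  rw [Bool.and_eq_true] at h
  exact good7_of_chk (qz h1 h2 h3) (fun a ha => nz h4 h1 ha) (sub_of_su h.1) h.2

/-- the words of this part -/
def ws : List (List ℕ) := [
  [3, 2, 1, 0], [4, 2, 1, 0], [4, 3, 1, 0], [5, 3, 1, 0], [6, 3, 2, 1], [6, 5, 3, 2], [4, 3, 2, 1, 0]]

theorem good {w : List ℕ} (hw : w ∈ ws) : Good7 Ql (wd (w.flatMap tw2)) := by
  simp only [ws, List.mem_cons, List.not_mem_nil, or_false] at hw
  rcases hw with rfl | rfl | rfl | rfl | rfl | rfl | rfl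
  · exact g8
  · exact g9
  · exact g10
  · exact g11
  · exact g12
  · exact g13
  · exact g14

end Cfsg.Agent.H335.TC6.CertB
end

-- part: H335/TC6/CertC
section
/-!
# S2464, `F₄(2)`: certificates with pairs of order 7, part C (helper335)
-/

set_option autoImplicit false
set_option maxRecDepth 100000

namespace Cfsg.Agent.H335.TC6.CertC

open Cfsg.Agent.H335.FT Cfsg.Agent.H335.FT.CertB Cfsg.Agent.H335.FT.CertP

def Q15_0 : PD where
  c := [23, 22, 23, 24, 25]
  f := []
  i0 := 33
  k1 := 7
  k2 := 7
  A := 0xa000000000000c000000000000e00000000000010000000000000e000000000000a000000000000600000000000010000000000000e000000000000a0000000000006000000000000140000000000018000000000001c00000000000020000000000001c0000000000014000000000000c00000000000028000000000003000000000000380000000000005600000c0000078000008000004200000c0000018000008000006a00000c000001e0000080000001c0000000000014000000000000c00000000000028000000000003000000000000380000000000004000000000000380000000000028000000000001800000000000050000000000006000000000000700000000000008000000000000500000000000060000000000007000000000000080000000000007000000000000500000000000030000007e000000000001600000400000000000020000000000001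
  Ai := 0xe000000000000a000000000000600000000000010000000000000a000000000000c000000000000e00000000000010000000000000a000000000000c000000000000e0000000000001c0000000000014000000000000c0000000000002000000000000140000000000018000000000001c00000000000038000000000002800000000000180000000000006a00000c000004200000c0000074000004000005600000c0000024000004000002e000004000000140000000000018000000000001c00000000000038000000000002800000000000180000000000004000000000000280000000000030000000000003800000000000070000000000005000000000000300000000000008000000000000700000000000050000000000003000000000000080000000000005000000000000600000000000070000002a000008000007e00000000000000000020000000000001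
  B := 0xe000000000000800000000000c00000000000010000000000000a00000000000b60000000000056000000000000018000000000000200000000000f800000000000980000000000016000000000000a000000000016000000000000bc0000000000000000300000000007800000800000600000000000001c0000000000010000000000300000000000000028000000000001000000000057f0000c00000213000000001f18000008000131800000800000014000000000280c000020000100c00002000004378000c0000029780000000179e00000800000000060000000000000800000000003e0000000000026000000000000580000000000028000000000058000000000002f0000000000000070000000000004000000000006000000000000080000000000005000000000005b000000000002b00000068c00004000002930000e00000000000020000000c00001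
  Bi := 0xf200000000000d2000000000002600000000000100000000000040000000000008800000000000480000000000000640000000000120000000000015a000000000013a00000000001880000000000088000000000011800000000000800000000000000c820000000000c9cc800080000c9ac80008000038040000200003004000020000080c00000000150800000000011080000000001a6110000e0001169100000000081030000e0000408300006000010000000000002010000000000101000000000102000000000000200000000001060000000000000001900000000000480000000000056800000000004e80000000000620000000000022000000000004600000000000200000000000000790000000000069000000000001300000000000080000000000020000000000004400000000000240000070800000e000166910000800000000000020000300000001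
  zc := [
    (41, [], [43]), (42, [41], []), (43, [42, 43], []), (44, [42], [41, 43, 46]), (45, [47], []),
    (46, [45, 46], []), (47, [46], [])]
  vc := [
    (33, [], [], [35]), (34, [42], [36], []), (35, [41, 42], [34, 35], []), (36, [43], [35], []),
    (37, [46, 47], [37, 39], []), (38, [45], [37], []), (39, [], [], [35, 39]), (40, [41, 42], [34], [40])]

theorem c15 : (su ([5, 3, 2, 1, 0].flatMap tw2) Nl &&
    chkRep7 Nl Ql Zl ([5, 3, 2, 1, 0].flatMap tw2) [
      (Q15_0, [25, 22, 24], [30, 27, 20, 22, 23, 20, 25, 22, 20, 32, 28])]) = true := by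
  decide +kernel

theorem g15 : Good7 Ql (wd ([5, 3, 2, 1, 0].flatMap tw2)) := by
  have h := c15
  rw [Bool.and_eq_true] at h
  exact good7_of_chk (qz h1 h2 h3) (fun a ha => nz h4 h1 ha) (sub_of_su h.1) h.2

def Q16_0 : PD where
  c := [24, 25, 22, 24, 23]
  f := []
  i0 := 33
  k1 := 7
  k2 := 7
  A := 0x2000000000000a000000000000e0000000000001000000000000040000000000006000000000000a0000000000001000000000000040000000000006000000000000a000000000000040000000000014000000000001c000000000000200000000000008000000000000c000000000001400000000000008000000000002800000000000380000000000000400000000000140000000000006000000000004200000c000001e000008000006a00000c00000008000000000000c000000000001400000000000008000000000002800000000000380000000000004000000000000100000000000018000000000002800000000000010000000000005000000000000700000000000008000000000000100000000000050000000000007000000000000080000000000002000000000000300000000000050000001400000c000000200000800000000000020000000000001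
  Ai := 0xc0000000000006000000000000800000000000010000000000000e0000000000008000000000000c00000000000010000000000000e0000000000008000000000000c00000000000018000000000000c000000000001000000000000020000000000001c00000000000100000000000018000000000000300000000000018000000000002000000000000078000008000002e00000400000600000000000024000004000004000000000000500000000000001c00000000000100000000000018000000000000300000000000018000000000002000000000000040000000000003800000000000200000000000030000000000000600000000000030000000000004000000000000080000000000006000000000000300000000000040000000000000800000000000070000000000004000000000000600000050000004000007000000c00000000000020000000000001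
  B := 0xc000000000007a00000000000fe0000000000010000000000000e000000000000600000000000c60000000000000d2000000000000e000000000001e0000000000186000000000000200000000000fa000000000007800000000000180000000000000025b8000400000759800040001a44a8000a000000180000000001814000020000381c000020000000180000000002fe8000400000003800000001f66f8000a000001ef000080000f66f000000000001c000000000000c000000000300c0000000000003000000000078300008000001800000800000000348000000000003800000000000780000000000618000000000000800000000003e800000000001e0000000000006000000000000006000000000003d000000000007f00000000000080000000000007000000000000300000000000630000007ec00002000007138000c00000000000020000001000003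
  Bi := 0xec00000000000ea000000000003e0000000000010000000000000c000000000008c000000000008800000000000007e000000000001c00000000001cc00000000001ca00000000000c000000000000c200000000000520000000000010000000000000001e3800080000ffb98000a0000ffd68000a000038180000000003814000000000081c00002000007400000400000743800040001824000004000182010000e0000a5598000e0000a5130000e000000180000000002018000000000201000000000005000000000000502000000000010200000000000001f80000000000070000000000073000000000007280000000000300000000000030800000000001480000000000040000000000000760000000000075000000000001f00000000000080000000000006000000000004600000000000440000000418000a0001831a0000a00000000000020000001800003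
  zc := [
    (41, [], [42]), (42, [], [42, 43]), (43, [41], []), (44, [41], [41, 42, 45]), (45, [45, 46], []),
    (46, [46, 47], []), (47, [43], [47])]
  vc := [
    (33, [41, 42], [34], [33]), (34, [41, 43], [34, 35], []), (35, [43], [], [33, 36]),
    (36, [41, 42], [34], [33, 36]), (37, [45], [38], []), (38, [46], [37, 39], []), (39, [46], [37], []),
    (40, [41, 43, 44, 46], [38], [35, 40])]

theorem c16 : (su ([6, 3, 2, 1, 0].flatMap tw2) Nl &&
    chkRep7 Nl Ql Zl ([6, 3, 2, 1, 0].flatMap tw2) [
      (Q16_0, [23, 25, 24], [27, 20, 28, 26, 22, 23, 31, 20, 22, 20, 26])]) = true := by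
  decide +kernel

theorem g16 : Good7 Ql (wd ([6, 3, 2, 1, 0].flatMap tw2)) := by
  have h := c16
  rw [Bool.and_eq_true] at h
  exact good7_of_chk (qz h1 h2 h3) (fun a ha => nz h4 h1 ha) (sub_of_su h.1) h.2

def Q17_0 : PD where
  c := [25, 22, 24, 23, 22]
  f := []
  i0 := 33
  k1 := 7
  k2 := 7
  A := 0x2000000000000c00000000000060000000000001000000000000060000000000002000000000000e0000000000001000000000000060000000000002000000000000e000000000000040000000000018000000000000c00000000000020000000000000c0000000000004000000000001c000000000000080000000000030000000000001800000000000006000000000001800000800000020000000000078000008000000a000000000002e0000040000000c0000000000004000000000001c00000000000008000000000003000000000000180000000000004000000000000180000000000008000000000003800000000000010000000000006000000000000300000000000008000000000000100000000000060000000000003000000000000080000000000003000000000000100000000000070000000e00000c000000600000800000000000020000000000001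
  Ai := 0xe000000000000a000000000000800000000000010000000000000a000000000000c000000000000400000000000010000000000000a000000000000c00000000000040000000000001c000000000001400000000000100000000000002000000000000140000000000018000000000000800000000000038000000000002800000000000200000000000006a00000c000004200000c00000740000040000014000000000005000000000000100000000000001400000000000180000000000008000000000000380000000000028000000000002000000000000040000000000002800000000000300000000000010000000000000700000000000050000000000004000000000000080000000000007000000000000500000000000040000000000000800000000000050000000000006000000000000200000040000004000001400000c00000000000020000000000001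
  B := 0x400000000000b8000000000009a00000000000100000000000080000000000000c00000000000ec00000000000004600000000000500000000000012000000000016e000000000001000000000001d000000000000dc00000000000c00000000000000014a000000000010a80000000088250000e00000008000000000281000002000020140000200000100000000000a40000000000000020000000017b5a000020000051b800000001bbbb8000c000020000000000000018000000000381800000000005000000000018500000000000074000004000000001180000000000140000000000004800000000005b8000000000004000000000007400000000000370000000000030000000000000002000000000005c000000000004d0000000000008000000000004000000000000060000000000076000000418000060000215a0000e00000000000020000201800001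
  Bi := 0x800000000000d200000000000dc00000000000100000000000084000000000008000000000000bc00000000000001a0000000000092000000000009000000000000ec000000000001000000000001d600000000001c00000000000050000000000000006110000000000612000000000079d800080000001000000000030040000200003018000020000040200000000121088000a00000400000000001df3d8000800012500000000001da400000400002008000000000200000000000028180000200000100000000000a44a000000000a50000000000000000680000000000248000000000024000000000003b00000000000040000000000075800000000007000000000000140000000000000040000000000069000000000006e000000000000800000000000420000000000040000000000005e0000124120000c0000040a0000a00000000000020000001800001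
  zc := [
    (41, [41, 43], []), (42, [41], [42]), (43, [], [42]), (44, [42], [41, 46]), (45, [46, 47], []),
    (46, [45], []), (47, [46], [])]
  vc := [
    (33, [45, 46], [37], [33]), (34, [43], [35, 36], []), (35, [41], [34], []), (36, [43], [35], []),
    (37, [46, 47], [37, 39], []), (38, [47], [], [33, 38, 39]), (39, [45], [38, 39], []),
    (40, [41, 42, 43, 47], [], [34, 35])]

theorem c17 : (su ([5, 4, 2, 1, 0].flatMap tw2) Nl &&
    chkRep7 Nl Ql Zl ([5, 4, 2, 1, 0].flatMap tw2) [
      (Q17_0, [31, 23, 27, 20, 22, 29, 23, 20, 25, 22, 20, 30, 26, 27], [32, 28, 22, 20, 22, 26, 23, 27, 20])]) = true := by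
  decide +kernel

theorem g17 : Good7 Ql (wd ([5, 4, 2, 1, 0].flatMap tw2)) := by
  have h := c17
  rw [Bool.and_eq_true] at h
  exact good7_of_chk (qz h1 h2 h3) (fun a ha => nz h4 h1 ha) (sub_of_su h.1) h.2

def Q18_0 : PD where
  c := [22, 23, 24, 25, 24]
  f := []
  i0 := 33
  k1 := 7
  k2 := 7
  A := 0xe0000000000006000000000000a00000000000010000000000000c000000000000a000000000000e00000000000010000000000000c000000000000a000000000000e0000000000001c000000000000c00000000000140000000000002000000000000180000000000014000000000001c0000000000003800000000000180000000000028000000000000740000040000024000004000006a00000c000002e000004000004200000c000005600000c000000180000000000014000000000001c000000000000380000000000018000000000002800000000000040000000000003000000000000280000000000038000000000000700000000000030000000000005000000000000080000000000007000000000000300000000000050000000000000800000000000060000000000005000000000000700000054000008000007e00000000000000000020000000000001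
  Ai := 0xc000000000000a000000000000e00000000000010000000000000e0000000000006000000000000a00000000000010000000000000e0000000000006000000000000a000000000000180000000000014000000000001c00000000000020000000000001c000000000000c0000000000014000000000000300000000000028000000000003800000000000078000008000005600000c0000018000008000004200000c000001e000008000006a00000c0000001c000000000000c000000000001400000000000030000000000002800000000000380000000000004000000000000380000000000018000000000002800000000000060000000000005000000000000700000000000008000000000000600000000000050000000000007000000000000080000000000007000000000000300000000000050000007e000000000006800000400000000000020000000000001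
  B := 0xa00000000000a000000000000ae000000000001000000000000fe00000000000f800000000000da00000000000001400000000000b400000000000b600000000000f4000000000001e0000000000154000000000014e0000000000066000000000000004200000c000004228000c000005600000c000000140000000002800000000000281c00000000006b68000c00016d600000c000006b50000c0001ec200000c00016bff0000a0001ebbe800040000381c0000200003810000020000301400002000001ef000080000c92a800060000c8a50000e0000000005000000000002d000000000002d800000000003d0000000000007800000000005500000000000538000000000019800000000000005000000000005000000000000570000000000008000000000007f000000000007c000000000006d000016a940000e0000069c0000600000000000020000000800001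
  Bi := 0xaa000000000003800000000000ea0000000000010000000000006c00000000000e000000000000ec0000000000001a800000000001fe00000000000a0000000000007e000000000011c00000000001d0000000000001c00000000000c00000000000000ac350000200014280000000000fe35000020000281400000000008100000200003814000000001c7e38000200005a5a00002000146a00000c0000fe5a00002000006a00000c000001e380008000018180000000003800000000000381800000000187400000400018500000000000074000004000000006a000000000007f8000000000028000000000001f8000000000047000000000007400000000000070000000000030000000000000055000000000001c0000000000075000000000000800000000000360000000000070000000000007600001bde38000e00017be38000400000000000020000380000001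
  zc := [
    (41, [41, 42], []), (42, [43], []), (43, [41, 43], []), (44, [41], [42, 46]), (45, [46], []),
    (46, [46, 47], []), (47, [45], [])]
  vc := [
    (33, [], [36], [36]), (34, [41], [35], []), (35, [42, 43], [35, 36], []), (36, [42], [34], []),
    (37, [45, 47], [37, 38], []), (38, [47], [39], []), (39, [45, 46], [37, 39], []),
    (40, [], [37], [37, 40])]

theorem c18 : (su ([6, 4, 3, 1, 0].flatMap tw2) Nl &&
    chkRep7 Nl Ql Zl ([6, 4, 3, 1, 0].flatMap tw2) [
      (Q18_0, [22, 25, 24], [22, 20, 32, 22, 29, 23, 22, 20, 27, 24])]) = true := by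
  decide +kernel

theorem g18 : Good7 Ql (wd ([6, 4, 3, 1, 0].flatMap tw2)) := by
  have h := c18
  rw [Bool.and_eq_true] at h
  exact good7_of_chk (qz h1 h2 h3) (fun a ha => nz h4 h1 ha) (sub_of_su h.1) h.2

def Q19_0 : PD where
  c := [23, 25, 24, 25, 22]
  f := []
  i0 := 33
  k1 := 7
  k2 := 7
  A := 0xc0000000000006000000000000e00000000000010000000000000e0000000000006000000000000c00000000000010000000000000e0000000000006000000000000c00000000000018000000000000c000000000001c00000000000020000000000001c000000000000c0000000000018000000000000300000000000018000000000003800000000000078000008000002e00000400000180000080000024000004000001e00000800000740000040000001c000000000000c000000000001800000000000030000000000001800000000000380000000000004000000000000380000000000018000000000003000000000000060000000000003000000000000700000000000008000000000000600000000000030000000000007000000000000080000000000007000000000000300000000000060000007e000000000007000000c00000000000020000000000001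
  Ai := 0x6000000000000e000000000000a00000000000010000000000000c000000000000e000000000000a00000000000010000000000000c000000000000e000000000000a0000000000000c000000000001c0000000000014000000000000200000000000018000000000001c00000000000140000000000001800000000000380000000000028000000000000240000040000074000004000002e000004000006a00000c000005600000c000004200000c00000018000000000001c0000000000014000000000000180000000000038000000000002800000000000040000000000003000000000000380000000000028000000000000300000000000070000000000005000000000000080000000000003000000000000700000000000050000000000000800000000000060000000000007000000000000500000054000008000002a00000800000000000020000000000001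
  B := 0xd4000000000005400000000000ec000000000001000000000000a000000000000ae000000000000a0000000000001d0000000000014000000000001ae00000000000be00000000000f400000000000b400000000000a2000000000001400000000000012100000000000fe5a0000200017b5a000020000300800002000010080000200003818000000001e9400000000016940000000001eede800080000029680000000142a18000a000006a38000c00002800000000000281c000000000001400000000005600000c000004200000c000004228000c00000000740000000000050000000000006b800000000002f800000000003d000000000002d0000000000028800000000000500000000000006a000000000002a00000000000760000000000008000000000005000000000000570000000000005000016d480000800002e9e8000600000000000020000280800003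
  Bi := 0xc0000000000005e00000000000c800000000000100000000000078000000000000e000000000007a00000000000009800000000001780000000000018000000000017200000000000f8000000000002600000000000fa000000000000e00000000000013780000080000060000000000135930000800003000000000000101c0000200003010000000001f60000000000048ef0000600000780000080000486a8000600000783000080001f4910000e00001810000020000001c000000000181400002000002ff00004000000a500000000002fe800040000000026000000000005e0000000000006000000000005c800000000003e0000000000009800000000003e8000000000003800000000000060000000000002f00000000000640000000000008000000000003c0000000000007000000000003d00001f41c000080001f68c0000600000000000020000000c00003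
  zc := [
    (41, [42], []), (42, [42, 43], []), (43, [], [41]), (44, [42, 43], [46]), (45, [46], []), (46, [47], []),
    (47, [45, 47], [])]
  vc := [
    (33, [], [34], [34, 35]), (34, [41], [35], []), (35, [43], [36], []), (36, [41, 42], [34, 36], []),
    (37, [45], [38], []), (38, [46, 47], [38, 39], []), (39, [45, 46], [37, 39], []),
    (40, [45, 47], [37, 38], [39])]

theorem c19 : (su ([6, 5, 4, 3, 2].flatMap tw2) Nl &&
    chkRep7 Nl Ql Zl ([6, 5, 4, 3, 2].flatMap tw2) [
      (Q19_0, [24, 25], [27, 20, 28, 22, 24, 23, 20, 28, 22, 20, 25, 24])]) = true := by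
  decide +kernel

theorem g19 : Good7 Ql (wd ([6, 5, 4, 3, 2].flatMap tw2)) := by
  have h := c19
  rw [Bool.and_eq_true] at h
  exact good7_of_chk (qz h1 h2 h3) (fun a ha => nz h4 h1 ha) (sub_of_su h.1) h.2

def Q20_0 : PD where
  c := [23, 22, 23, 25, 24]
  f := []
  i0 := 33
  k1 := 7
  k2 := 7
  A := 0xa000000000000c000000000000400000000000010000000000000e000000000000a000000000000800000000000010000000000000e000000000000a0000000000008000000000000140000000000018000000000000800000000000020000000000001c0000000000014000000000001000000000000028000000000003000000000000100000000000005600000c0000078000008000004200000c0000060000000000002800000000000200000000000001c0000000000014000000000001000000000000028000000000003000000000000100000000000004000000000000380000000000028000000000002000000000000050000000000006000000000000200000000000008000000000000500000000000060000000000002000000000000080000000000007000000000000500000000000040000002800000c000004000000800000000000020000000000001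
  Ai := 0x60000000000002000000000000e000000000000100000000000002000000000000c0000000000006000000000000100000000000002000000000000c00000000000060000000000000c0000000000004000000000001c0000000000002000000000000040000000000018000000000000c00000000000018000000000000800000000000380000000000000a0000000000002000000000002400000400000060000000000074000004000001e000008000000040000000000018000000000000c00000000000018000000000000800000000000380000000000004000000000000080000000000030000000000001800000000000030000000000001000000000000700000000000008000000000000300000000000010000000000007000000000000080000000000001000000000000600000000000030000000a000004000000e00000c00000000000020000000000001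
  B := 0x600000000000ea0000000000022000000000001000000000000e000000000000dc00000000000bc000000000000062000000000001c0000000000066000000000016a000000000007c00000000000bc000000000012c00000000001c0000000000000001e38000800000060800000000c0810000e0000000c0000000003814000000000080400000000001e000008000006a00000c0000018f8000800017b77800080000c8c58000e000088658000e0000380000000000030180000200002818000020000ff400000400017f40000040001da4000004000000001880000000000070000000000019800000000005a800000000001f000000000002f000000000004b00000000000700000000000000030000000000075000000000001100000000000080000000000070000000000006e000000000005e00000f8b800004000039778000400000000000020000381800003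
  Bi := 0xe00000000000d200000000000d4000000000001000000000000bc000000000007400000000000f400000000000001a00000000000ec00000000000f4000000000006400000000000fa000000000013a000000000014000000000001900000000000000079d800080000079e800080000018c800080000001c00000000030040000200003008000020000057d8000c0001df3d80008000002fe800040000c9ac800080001e940000000000c840000000000281800002000018080000200003808000020001f3120000600015612000060001a100000000000000006800000000003b000000000003d0000000000019000000000003e800000000004e800000000005000000000000640000000000000070000000000069000000000006a0000000000008000000000005e000000000003a000000000007a00001ee520000c000037fe8000000000000000020000300000003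
  zc := [
    (41, [], [45]), (42, [43], [45]), (43, [41], [45]), (44, [47], [42, 43]), (45, [47], []),
    (46, [45, 47], []), (47, [46], [])]
  vc := [
    (33, [42, 45, 46, 47], [39], [34, 37]), (34, [42], [36], []), (35, [42], [34, 36], []),
    (36, [43], [35], []), (37, [45, 47], [37, 38, 39], []), (38, [46], [37, 38], []),
    (39, [45, 47], [38, 39], []), (40, [41, 42, 43, 44, 45, 46], [], [36, 37, 38])]

theorem c20 : (su ([5, 4, 3, 2, 1, 0].flatMap tw2) Nl &&
    chkRep7 Nl Ql Zl ([5, 4, 3, 2, 1, 0].flatMap tw2) [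
      (Q20_0, [30, 26, 22, 27, 20, 22, 23, 20, 26, 22, 20, 30, 26, 27], [23, 22, 23, 20, 22, 31, 23, 20, 29, 25])]) = true := by
  decide +kernel

theorem g20 : Good7 Ql (wd ([5, 4, 3, 2, 1, 0].flatMap tw2)) := by
  have h := c20
  rw [Bool.and_eq_true] at h
  exact good7_of_chk (qz h1 h2 h3) (fun a ha => nz h4 h1 ha) (sub_of_su h.1) h.2

def Q21_0 : PD where
  c := [22, 23, 24, 25, 24]
  f := []
  i0 := 33
  k1 := 7
  k2 := 7
  A := 0xe0000000000006000000000000a00000000000010000000000000c000000000000a000000000000e00000000000010000000000000c000000000000a000000000000e0000000000001c000000000000c00000000000140000000000002000000000000180000000000014000000000001c0000000000003800000000000180000000000028000000000000740000040000024000004000006a00000c000002e000004000004200000c000005600000c000000180000000000014000000000001c000000000000380000000000018000000000002800000000000040000000000003000000000000280000000000038000000000000700000000000030000000000005000000000000080000000000007000000000000300000000000050000000000000800000000000060000000000005000000000000700000054000008000007e00000000000000000020000000000001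
  Ai := 0xc000000000000a000000000000e00000000000010000000000000e0000000000006000000000000a00000000000010000000000000e0000000000006000000000000a000000000000180000000000014000000000001c00000000000020000000000001c000000000000c0000000000014000000000000300000000000028000000000003800000000000078000008000005600000c0000018000008000004200000c000001e000008000006a00000c0000001c000000000000c000000000001400000000000030000000000002800000000000380000000000004000000000000380000000000018000000000002800000000000060000000000005000000000000700000000000008000000000000600000000000050000000000007000000000000080000000000007000000000000300000000000050000007e000000000006800000400000000000020000000000001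
  B := 0xa000000000004200000000000ae000000000001000000000000fe00000000000f800000000000380000000000000a200000000000aa00000000000b600000000001ae000000000001e000000000018600000000001f800000000000780000000000000028100000000004228000c000142a18000a000000140000000001004000000000281c00000000006b68000c000152258000a000006b50000c000052250000000016bff0000a0000ac7f000020000381c0000200003810000020000081000002000001ef000080000f66f000000000f600000000000000028800000000002a800000000002d800000000006b80000000000078000000000061800000000007e000000000001e000000000000005000000000002100000000000570000000000008000000000007f000000000007c000000000001c0000152900000c000038390000800000000000020000380c00003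
  Bi := 0x3e000000000003800000000000ea000000000001000000000000f80000000000074000000000007800000000000007e000000000007800000000001b400000000001a8000000000019e000000000018000000000000de00000000000d00000000000000006f000000000ffd68000a0000fe35000020000081c00002000008100000200003814000000000f7ef000080000f60000000000052b68000600005200000000001bbf6800060001bcb5000020000381000002000018080000200001810000020001a35a000040001a400000000000025a00004000000001f800000000001e000000000006d000000000006a000000000006780000000000600000000000037800000000003400000000000001f000000000001c00000000000750000000000008000000000007c000000000003a000000000003c0000000b50000600006aef0000c00000000000020000380000003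
  zc := [
    (41, [], [46]), (42, [43], []), (43, [41, 43], []), (44, [46], [41, 42, 43]), (45, [46], []),
    (46, [46, 47], []), (47, [45], [])]
  vc := [
    (33, [], [36], [36]), (34, [41], [35], []), (35, [42, 43], [35, 36], []), (36, [42], [34], []),
    (37, [45, 47], [37, 38], []), (38, [47], [39], []), (39, [45, 46], [37, 39], []),
    (40, [41, 43, 44, 45, 46], [35], [34, 36, 38])]

theorem c21 : (su ([6, 4, 3, 2, 1, 0].flatMap tw2) Nl &&
    chkRep7 Nl Ql Zl ([6, 4, 3, 2, 1, 0].flatMap tw2) [
      (Q21_0, [22, 25, 24], [31, 23, 20, 22, 23, 32, 22, 20, 29, 27])]) = true := by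
  decide +kernel

theorem g21 : Good7 Ql (wd ([6, 4, 3, 2, 1, 0].flatMap tw2)) := by
  have h := c21
  rw [Bool.and_eq_true] at h
  exact good7_of_chk (qz h1 h2 h3) (fun a ha => nz h4 h1 ha) (sub_of_su h.1) h.2

/-- the words of this part -/
def ws : List (List ℕ) := [
  [5, 3, 2, 1, 0], [6, 3, 2, 1, 0], [5, 4, 2, 1, 0], [6, 4, 3, 1, 0], [6, 5, 4, 3, 2], [5, 4, 3, 2, 1, 0],
  [6, 4, 3, 2, 1, 0]]

theorem good {w : List ℕ} (hw : w ∈ ws) : Good7 Ql (wd (w.flatMap tw2)) := by
  simp only [ws, List.mem_cons, List.not_mem_nil, or_false] at hw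
  rcases hw with rfl | rfl | rfl | rfl | rfl | rfl | rfl
  · exact g15
  · exact g16
  · exact g17
  · exact g18
  · exact g19
  · exact g20
  · exact g21

end Cfsg.Agent.H335.TC6.CertC
end

-- part: H335/TC6/CertD
section
/-!
# S2464, `F₄(2)`: certificates with pairs of order 7, part D (helper335)
-/

set_option autoImplicit false
set_option maxRecDepth 100000

namespace Cfsg.Agent.H335.TC6.CertD

open Cfsg.Agent.H335.FT Cfsg.Agent.H335.FT.CertB Cfsg.Agent.H335.FT.CertP

def Q22_0 : PD where
  c := [25, 22, 24, 23, 22]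
  f := []
  i0 := 33
  k1 := 7
  k2 := 7
  A := 0x2000000000000c00000000000060000000000001000000000000060000000000002000000000000e0000000000001000000000000060000000000002000000000000e000000000000040000000000018000000000000c00000000000020000000000000c0000000000004000000000001c000000000000080000000000030000000000001800000000000006000000000001800000800000020000000000078000008000000a000000000002e0000040000000c0000000000004000000000001c00000000000008000000000003000000000000180000000000004000000000000180000000000008000000000003800000000000010000000000006000000000000300000000000008000000000000100000000000060000000000003000000000000080000000000003000000000000100000000000070000000e00000c000000600000800000000000020000000000001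
  Ai := 0xe000000000000a000000000000800000000000010000000000000a000000000000c000000000000400000000000010000000000000a000000000000c00000000000040000000000001c000000000001400000000000100000000000002000000000000140000000000018000000000000800000000000038000000000002800000000000200000000000006a00000c000004200000c00000740000040000014000000000005000000000000100000000000001400000000000180000000000008000000000000380000000000028000000000002000000000000040000000000002800000000000300000000000010000000000000700000000000050000000000004000000000000080000000000007000000000000500000000000040000000000000800000000000050000000000006000000000000200000040000004000001400000c00000000000020000000000001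
  B := 0x40000000000008000000000009a0000000000010000000000008000000000000bc000000000005c00000000000001200000000000100000000000046000000000009a00000000000500000000000090000000000017c00000000001c000000000000000002000000000010a800000000041100000000000080000000000010000000000201400002000001000000000000400000000000014a0000000000212000000000892f8000e0001378f800020000200000000000028180000200001018000020000a50000000000125000000000017f4000004000000000480000000000040000000000011800000000002680000000000140000000000024000000000005f00000000000700000000000000020000000000004000000000004d00000000000080000000000040000000000005e000000000002e00000041800004000020120000c00000000000020000201800003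
  Bi := 0x800000000000d200000000000dc000000000001000000000000400000000000080000000000007800000000000001a0000000000088000000000009000000000000f6000000000008000000000001a800000000001500000000000180000000000000006110000000000612000000000079d800080000001000000000030040000200003018000020000020000000000110800000000000400000000001eeb50000200012500000000001ec4a00006000010000000000002000000000000181000002000100000000000005200000000001a40000000000000000680000000000220000000000024000000000003d8000000000020000000000006a000000000005400000000000600000000000000040000000000069000000000006e000000000000800000000000200000000000040000000000003c0000122100000c000032000000800000000000020000301000003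
  zc := [
    (41, [], [42, 45]), (42, [46], [47]), (43, [45], [46]), (44, [42], [41, 46]), (45, [46, 47], []),
    (46, [45], []), (47, [46], [])]
  vc := [
    (33, [42, 43], [35, 36], [38]), (34, [43], [35, 36], []), (35, [41], [34], []), (36, [43], [35], []),
    (37, [], [38], [36]), (38, [], [], [36]), (39, [43], [35], [39]), (40, [42], [36], [38, 40])]

theorem c22 : (su ([6, 5, 4, 2, 1, 0].flatMap tw2) Nl &&
    chkRep7 Nl Ql Zl ([6, 5, 4, 2, 1, 0].flatMap tw2) [
      (Q22_0, [31, 23, 27, 20, 22, 29, 23, 20, 25, 22, 20, 30, 26, 27], [20, 22, 31, 20, 22, 23, 22, 31, 20, 24])]) = true := by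
  decide +kernel

theorem g22 : Good7 Ql (wd ([6, 5, 4, 2, 1, 0].flatMap tw2)) := by
  have h := c22
  rw [Bool.and_eq_true] at h
  exact good7_of_chk (qz h1 h2 h3) (fun a ha => nz h4 h1 ha) (sub_of_su h.1) h.2

def Q23_0 : PD where
  c := [22, 23, 24, 25, 24]
  f := []
  i0 := 33
  k1 := 7
  k2 := 7
  A := 0xe0000000000006000000000000a00000000000010000000000000c000000000000a000000000000e00000000000010000000000000c000000000000a000000000000e0000000000001c000000000000c00000000000140000000000002000000000000180000000000014000000000001c0000000000003800000000000180000000000028000000000000740000040000024000004000006a00000c000002e000004000004200000c000005600000c000000180000000000014000000000001c000000000000380000000000018000000000002800000000000040000000000003000000000000280000000000038000000000000700000000000030000000000005000000000000080000000000007000000000000300000000000050000000000000800000000000060000000000005000000000000700000054000008000007e00000000000000000020000000000001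
  Ai := 0xc000000000000a000000000000e00000000000010000000000000e0000000000006000000000000a00000000000010000000000000e0000000000006000000000000a000000000000180000000000014000000000001c00000000000020000000000001c000000000000c0000000000014000000000000300000000000028000000000003800000000000078000008000005600000c0000018000008000004200000c000001e000008000006a00000c0000001c000000000000c000000000001400000000000030000000000002800000000000380000000000004000000000000380000000000018000000000002800000000000060000000000005000000000000700000000000008000000000000600000000000050000000000007000000000000080000000000007000000000000300000000000050000007e000000000006800000400000000000020000000000001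
  B := 0xa00000000000a000000000000ae000000000001000000000000e000000000000e600000000000da00000000000001400000000000a000000000000a200000000000f4000000000001c00000000001a000000000001ba000000000007c000000000000004200000c000004228000c000005600000c000000140000000002800000000000281c00000000006a00000c0001400000000000006a38000c0001ec200000c00014683000060001ebbe8000400003800000000000380c000000000301400002000001e0000080000fea00000c0000ff2f80004000000000500000000000280000000000028800000000003d00000000000070000000000068000000000006e800000000001f00000000000000500000000000500000000000057000000000000800000000000700000000000073000000000006d0000147f400002000006800000600000000000020000001400001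
  Bi := 0xda0000000000048000000000009a0000000000010000000000006c00000000000e000000000000ec000000000000088000000000013200000000001a000000000001b200000000001dc000000000011000000000000dc00000000000c00000000000001149100000000112800000000011691000000000301400002000010100000000002014000020001ddbb8000600004002000060000fea00000c00014402000060001bea00000c0001bbbb8000c0000181800000000038000000000003818000000001874000004000185000000000000740000040000000022000000000004c8000000000068000000000006c800000000007700000000000440000000000037000000000003000000000000006d0000000000024000000000004d000000000000800000000000360000000000070000000000007600001bfbb8000a0000d9bb8000000000000000020000200000001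
  zc := [
    (41, [], [42, 46]), (42, [43], []), (43, [], [43, 46]), (44, [46], [41, 43]), (45, [46], []),
    (46, [46, 47], []), (47, [45], [])]
  vc := [
    (33, [41, 43], [38], [38]), (34, [41], [35], []), (35, [42, 43], [35], [36]), (36, [42], [34], []),
    (37, [46], [], [39]), (38, [47], [39], []), (39, [45, 46], [37, 39], []),
    (40, [42, 43, 44, 46], [37], [33, 34])]

theorem c23 : (su ([6, 5, 4, 3, 1, 0].flatMap tw2) Nl &&
    chkRep7 Nl Ql Zl ([6, 5, 4, 3, 1, 0].flatMap tw2) [
      (Q23_0, [22, 25, 24], [23, 28, 26, 22, 23, 20, 22, 20, 31, 25])]) = true := by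
  decide +kernel

theorem g23 : Good7 Ql (wd ([6, 5, 4, 3, 1, 0].flatMap tw2)) := by
  have h := c23
  rw [Bool.and_eq_true] at h
  exact good7_of_chk (qz h1 h2 h3) (fun a ha => nz h4 h1 ha) (sub_of_su h.1) h.2

def Q24_0 : PD where
  c := [22, 23, 24, 25]
  f := []
  i0 := 33
  k1 := 7
  k2 := 7
  A := 0xe0000000000008000000000000a00000000000010000000000000c000000000000a000000000000400000000000010000000000000c000000000000a00000000000040000000000001c00000000000100000000000014000000000000200000000000018000000000001400000000000080000000000003800000000000200000000000028000000000000740000040000050000000000006a00000c0000010000000000004200000c00000140000000000001800000000000140000000000008000000000000380000000000020000000000002800000000000040000000000003000000000000280000000000010000000000000700000000000040000000000005000000000000080000000000007000000000000400000000000050000000000000800000000000060000000000005000000000000200000054000008000001400000c00000000000020000000000001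
  Ai := 0x4000000000000a000000000000600000000000010000000000000a0000000000002000000000000e00000000000010000000000000a0000000000002000000000000e000000000000080000000000014000000000000c0000000000002000000000000140000000000004000000000001c000000000000100000000000028000000000001800000000000028000000000004200000c0000008000000000005600000c000000a000000000002e000004000000140000000000004000000000001c00000000000010000000000002800000000000180000000000004000000000000280000000000008000000000003800000000000020000000000005000000000000300000000000008000000000000200000000000050000000000003000000000000080000000000005000000000000100000000000070000002a000008000002800000c00000000000020000000000001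
  B := 0xaa000000000004a00000000000760000000000010000000000000a00000000000a400000000000480000000000001bc00000000000a000000000000f6000000000002a0000000000014000000000000800000000001b200000000000a2000000000000146a00000c0001ebd78000e0000523780006000028140000000001014000000000180c00002000004200000c0000028000000000005628000c00000081000000001e9288000a0000529300006000000140000000002808000000000101000000000004228000c00000281000000001440200006000000006f0000000000028000000000003d800000000000a80000000000050000000000002000000000006c80000000000288000000000000550000000000025000000000003b00000000000080000000000005000000000005200000000000240000002a380008000146950000800000000000020000001400001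
  Bi := 0x3e000000000004800000000000b60000000000010000000000004a000000000008c0000000000042000000000000198000000000002a000000000005200000000000aa000000000019e0000000000008000000000018e000000000008200000000000005293000060000a5130000e00015493000060000081c0000200001010000000000280c00002000052b68000600000081000000000a5598000e00000281000000000a45b8000e000150a48000a000010140000000002018000000000100400000000106038000a0000020100000000102018000a0000000066000000000000a8000000000014800000000002a800000000006780000000000020000000000063800000000002080000000000001f0000000000024000000000005b00000000000080000000000025000000000004600000000000210000154a780002000052b58000e00000000000020000001000001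
  zc := [
    (41, [], [43]), (42, [43], []), (43, [], [43, 46]), (44, [41], [41, 45, 46]), (45, [], [46, 47]),
    (46, [], [41, 46]), (47, [45], [])]
  vc := [
    (33, [43], [36], [36, 37]), (34, [42], [], [36]), (35, [41, 43], [36], [36]), (36, [42], [34], []),
    (37, [46], [], [39]), (38, [47], [39], []), (39, [41, 43], [], [33, 39]), (40, [45], [], [34, 38])]

theorem c24 : (su ([6, 2, 3, 1, 2, 1].flatMap tw2) Nl &&
    chkRep7 Nl Ql Zl ([6, 2, 3, 1, 2, 1].flatMap tw2) [
      (Q24_0, [20, 32, 22, 23, 27, 20, 22, 23, 20, 26, 22, 20, 30], [26, 23, 22, 20, 25, 27, 25])]) = true := by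
  decide +kernel

theorem g24 : Good7 Ql (wd ([6, 2, 3, 1, 2, 1].flatMap tw2)) := by
  have h := c24
  rw [Bool.and_eq_true] at h
  exact good7_of_chk (qz h1 h2 h3) (fun a ha => nz h4 h1 ha) (sub_of_su h.1) h.2

def Q25_0 : PD where
  c := [23, 22, 25, 24, 25]
  f := []
  i0 := 33
  k1 := 7
  k2 := 7
  A := 0xc000000000000a000000000000e00000000000010000000000000e0000000000006000000000000a00000000000010000000000000e0000000000006000000000000a000000000000180000000000014000000000001c00000000000020000000000001c000000000000c0000000000014000000000000300000000000028000000000003800000000000078000008000005600000c0000018000008000004200000c000001e000008000006a00000c0000001c000000000000c000000000001400000000000030000000000002800000000000380000000000004000000000000380000000000018000000000002800000000000060000000000005000000000000700000000000008000000000000600000000000050000000000007000000000000080000000000007000000000000300000000000050000007e000000000006800000400000000000020000000000001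
  Ai := 0xe0000000000006000000000000a00000000000010000000000000c000000000000a000000000000e00000000000010000000000000c000000000000a000000000000e0000000000001c000000000000c00000000000140000000000002000000000000180000000000014000000000001c0000000000003800000000000180000000000028000000000000740000040000024000004000006a00000c000002e000004000004200000c000005600000c000000180000000000014000000000001c000000000000380000000000018000000000002800000000000040000000000003000000000000280000000000038000000000000700000000000030000000000005000000000000080000000000007000000000000300000000000050000000000000800000000000060000000000005000000000000700000054000008000007e00000000000000000020000000000001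
  B := 0xe00000000000d4000000000006c000000000001000000000000a000000000000aa000000000004a0000000000000ee00000000000f400000000000e2000000000013e000000000001400000000001b4000000000011c00000000000a00000000000000079e80008000002e1800040001df5a000020000001c0000000003008000020000181800000000005600000c0001e94000000000005628000c000116968000a0001c7e380002000040a380006000028000000000002814000000000101400000000004200000c000144200000c000146a00000c000000003b800000000003d0000000000038800000000004f8000000000005000000000006d00000000000470000000000028000000000000007000000000006a0000000000036000000000000800000000000500000000000055000000000002500001ed540000a00002a968000e00000000000020000281400001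
  Bi := 0xd2000000000000e00000000000da00000000000100000000000078000000000008c000000000007400000000000001a00000000000f6000000000009200000000000f4000000000015e000000000000e000000000014e00000000000d00000000000000079d8000800000611000000000079e8000800003004000020000001c0000000003014000020001eeb500002000002ff00004000127198000a000002fe800040001231b8000a0001ebbe800040000181000002000020180000000001808000020001a65a000040000025a000040001a35a000040000000006800000000003d8000000000024800000000003d00000000000578000000000003800000000005380000000000340000000000000690000000000007000000000006d0000000000008000000000003c0000000000046000000000003a00001ecad000080001e9a48000e00000000000020000000800001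
  zc := [
    (41, [42], []), (42, [], [41, 45]), (43, [41], []), (44, [41, 42], [46, 47]), (45, [], [42, 47]),
    (46, [47], []), (47, [45, 47], [])]
  vc := [
    (33, [41, 42], [], [34, 36, 37]), (34, [42], [], [36]), (35, [43], [36], []),
    (36, [41, 42], [34, 36], []), (37, [45], [38], []), (38, [46, 47], [38, 39], []), (39, [46], [37], []),
    (40, [45, 46, 47], [34], [34])]

theorem c25 : (su ([6, 5, 4, 3, 2, 1, 0].flatMap tw2) Nl &&
    chkRep7 Nl Ql Zl ([6, 5, 4, 3, 2, 1, 0].flatMap tw2) [
      (Q25_0, [31, 23, 27, 20, 22, 23, 30, 20, 26, 22, 20, 30, 26, 27], [22, 31, 20, 25, 22, 23, 20, 22, 23, 20, 26])]) = true := by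
  decide +kernel

theorem g25 : Good7 Ql (wd ([6, 5, 4, 3, 2, 1, 0].flatMap tw2)) := by
  have h := c25
  rw [Bool.and_eq_true] at h
  exact good7_of_chk (qz h1 h2 h3) (fun a ha => nz h4 h1 ha) (sub_of_su h.1) h.2

def Q26_0 : PD where
  c := [23, 22, 23, 24, 27, 25]
  f := []
  i0 := 33
  k1 := 7
  k2 := 7
  A := 0xa000000000000c000000000000e00000000000010000000000003e000000000003a000000000000600000000000010000000000001e000000000001a0000000000006000000000000540000000000078000000000007c00000000000060000000000001c0000000000014000000000000c000000000000280000000000030000000000003800000000000ad600000c0000f780000080000ac200000c00000180000080000fea00000c000001e0000080000081c0000200000814000020000000c000000000004a800000000006f000000000006f8000000000000400000000000078000000000006800000000000180000000000015000000000001e000000000001f0000000000001800000000000050000000000006000000000000700000000000008000000000001f000000000001d000000000000300000f7e000000000009600000400000000000020000080000001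
  Ai := 0xe000000000000a000000000000600000000000010000000000007a000000000000c000000000000e00000000000010000000000001a000000000000c000000000000e000000000000dc00000000000f4000000000000c000000000000e000000000000140000000000018000000000001c000000000000380000000000028000000000001800000000001bea00000c0001ec200000c0000074000004000005600000c0000024000004000002e000004000018140000200000018000000000001c000000000025b80004000002fe80004000000018000000000000400000000000068000000000003000000000000380000000000037000000000003d00000000000030000000000003800000000000070000000000005000000000000300000000000008000000000003d000000000000600000000000070000002a00000800001fe00000000000000000020000180000001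
  B := 0xda000000000009a00000000000620000000000010000000000007a00000000000d4000000000009600000000000012800000000001a000000000000ee00000000000ce00000000000f400000000000dc000000000012400000000001ae00000000000011280000000001da250000e00019aa50000e0000301400002000020140000200001804000000001ec200000c0001bea00000c0000079e800080000051b800000001d8c48000a000198e48000a000018140000200003008000020000200c000020001eede800080001bcfb80008000110848000a000000004a0000000000068000000000003b8000000000033800000000003d00000000000370000000000049000000000006b80000000000006d000000000004d00000000000310000000000008000000000003d000000000006a000000000004b0000002050000800010d9b8000c00000000000020000180000001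
  Bi := 0xae00000000000c0000000000002600000000000100000000000038000000000007a00000000000c600000000000011800000000001f8000000000015a000000000006000000000001ae0000000000078000000000017c00000000001860000000000001c78000008000081030000e0000c180000080000281c0000000003000000000000080c000000000ac7f000020000f600000000001eede800080000018000008000048cf800060000c1e000008000008100000200001814000020000300c0000000005225000000000f66f000000001f66f8000a0000000046000000000007e00000000000568000000000018000000000006b800000000001e000000000005f0000000000061800000000000057000000000006000000000000130000000000008000000000001c000000000003d0000000000063000003063000080001feef0000c00000000000020000380c00001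
  zc := [
    (41, [45, 46], [45]), (42, [41], []), (43, [42, 43], []), (44, [45], [42]), (45, [47], []),
    (46, [45, 46], []), (47, [46], [])]
  vc := [
    (33, [42, 43, 44, 46], [34], [35, 38]), (34, [], [33], []), (35, [41, 42], [34, 35], []),
    (36, [41, 42, 43, 44, 46], [34, 37], [40]), (37, [41, 42, 46], [34, 35], [40]), (38, [45], [37], []),
    (39, [45, 47], [38, 39], []), (40, [43, 44, 47], [34], [33, 35])]

theorem c26 : (su ([6, 5, 2, 3, 1, 2, 1].flatMap tw2) Nl &&
    chkRep7 Nl Ql Zl ([6, 5, 2, 3, 1, 2, 1].flatMap tw2) [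
      (Q26_0, [25, 22, 30, 29, 24], [20, 22, 31, 20, 22, 23, 28, 22, 20, 27, 24])]) = true := by
  decide +kernel

theorem g26 : Good7 Ql (wd ([6, 5, 2, 3, 1, 2, 1].flatMap tw2)) := by
  have h := c26
  rw [Bool.and_eq_true] at h
  exact good7_of_chk (qz h1 h2 h3) (fun a ha => nz h4 h1 ha) (sub_of_su h.1) h.2

def Q27_0 : PD where
  c := [24, 23, 25, 22, 25, 27]
  f := []
  i0 := 33
  k1 := 7
  k2 := 7
  A := 0x40000000000002000000000000c0000000000001000000000000d200000000000080000000000006000000000000100000000000012000000000000800000000000060000000000008800000000000640000000000018000000000001a000000000000040000000000010000000000000c0000000000001000000000000080000000000030000000000011080000000000c820000000000020000000000000600000000000600000000000018000008000030040000200000010000000000000c0000000000611000000000018c8000800000003000000000000040000000000004800000000000200000000000018000000000002200000000000190000000000006000000000000680000000000002000000000000100000000000060000000000000800000000000690000000000004000000000000300000008000004000030800000c00000000000020000300000001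
  Ai := 0xa00000000000080000000000004000000000000100000000000004000000000003a0000000000038000000000000100000000000004000000000001a000000000001800000000000054000000000005000000000000280000000000006000000000000080000000000014000000000001000000000000028000000000002000000000000100000000000001400000000000100000000000ac200000c0000a40000000000052800000000005200000000000000800000000008140000200000810000020000004a800000000004a000000000002500000000000004000000000000100000000000068000000000006000000000000150000000000014000000000000a00000000000018000000000000500000000000040000000000002000000000000080000000000002000000000001d000000000001c0000008000000c0000a4000000800000000000020000080000001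
  B := 0xc000000000000e000000000000060000000000010000000000004000000000000f800000000000da00000000000006000000000001000000000000078000000000007c000000000018000000000001a0000000000006600000000001280000000000000c000000000000018000008000001e000008000030000000000003800000000000000c00000000100000000000014000000000000f600000000000fea00000c000001ef000080000018f80008000010000000000003810000020000301400002000152000000000011280000000000c8a50000e00000000180000000000040000000000001e000000000001f000000000006000000000000680000000000019800000000004a0000000000000600000000000070000000000000300000000000080000000000020000000000007c000000000006d0000008800000c00003e800000600000000000020000080000003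
  Bi := 0x88000000000000800000000000c00000000000010000000000005400000000000e600000000000c600000000000008000000000000900000000000118000000000001800000000001da000000000009a0000000000060000000000016400000000000000400000000001060000000000006000000000002010000000000001000000000030000000000012312000000000021200000000187030000e00000603000000000c18000008000001800000800001008000020000380c000000000300c00000000179cc800020001318c800020000c0600000000000000200000000000024000000000004600000000000060000000000076800000000002680000000000180000000000059000000000000044000000000000400000000000600000000000008000000000002a000000000007300000000000630000101000000e000137030000600000000000020000300000003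
  zc := [
    (41, [43], [41]), (42, [41], []), (43, [], [43, 47]), (44, [42, 45], [42]), (45, [46], [47]),
    (46, [], [47]), (47, [47], [47])]
  vc := [
    (33, [43], [33, 36], [33, 35]), (34, [], [33, 34], []), (35, [46], [39], [35]), (36, [], [], [36, 39]),
    (37, [44, 45], [33], [38]), (38, [45], [37], []), (39, [43], [33, 36], []), (40, [43], [33, 36], [39])]

theorem c27 : (su ([6, 5, 4, 2, 3, 1, 2, 1].flatMap tw2) Nl &&
    chkRep7 Nl Ql Zl ([6, 5, 4, 2, 3, 1, 2, 1].flatMap tw2) [
      (Q27_0, [27, 20, 22, 26, 23, 20, 22, 23, 30, 20, 31, 27, 24], [26, 23, 20, 22, 23, 20, 22, 20, 31, 28])]) = true := by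
  decide +kernel

theorem g27 : Good7 Ql (wd ([6, 5, 4, 2, 3, 1, 2, 1].flatMap tw2)) := by
  have h := c27
  rw [Bool.and_eq_true] at h
  exact good7_of_chk (qz h1 h2 h3) (fun a ha => nz h4 h1 ha) (sub_of_su h.1) h.2

def Q28_0 : PD where
  c := [23, 25, 22, 23, 24, 27]
  f := []
  i0 := 33
  k1 := 7
  k2 := 7
  A := 0xe000000000000c0000000000006000000000000100000000000076000000000000c000000000000e000000000000100000000000016000000000000c000000000000e000000000000dc00000000000f8000000000000c000000000000e0000000000000c0000000000018000000000001c000000000000380000000000030000000000001800000000001b9e0000080001f18000008000007400000400000780000080000024000004000002e0000040000180c0000200000018000000000001c000000000025b80004000002ff00004000000018000000000000400000000000058000000000003000000000000380000000000037000000000003e00000000000030000000000003800000000000070000000000006000000000000300000000000008000000000003b000000000000600000000000070000000e00000c00001fe00000000000000000020000180000001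
  Ai := 0xa000000000000e000000000000c00000000000010000000000003a000000000003e000000000000600000000000010000000000001a000000000001e000000000000600000000000054000000000007c0000000000078000000000000600000000000014000000000001c000000000000c000000000000280000000000038000000000003000000000000ac200000c0000fea00000c0000ad600000c000001e0000080000f78000008000001800000800000814000020000081c000020000000c000000000004a800000000006f800000000006f0000000000000400000000000068000000000007800000000000180000000000015000000000001f000000000001e0000000000001800000000000050000000000007000000000000600000000000008000000000001d000000000001f000000000000300000fe8000004000009600000400000000000020000080000001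
  B := 0x7400000000000780000000000080000000000001000000000000ea00000000000bc00000000000380000000000000d000000000000de00000000001900000000000180000000000016a00000000001a8000000000005000000000001d60000000000000025a000040001a100000000001a400000000000180800002000018100000200002000000000001bbf6800060001bcb5000020001f3120000600005200000000000a500000000000a4000000000003814000000000281800002000008100000200017b77800080000fe35000020000a44a000000000000034000000000003780000000000640000000000060000000000005a800000000006a0000000000014000000000007580000000000003a000000000003c000000000004000000000000080000000000075000000000005e000000000001c00001a410000060000724a0000800000000000020000201000003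
  Bi := 0x20000000000004200000000000f4000000000001000000000000e60000000000026000000000007800000000000012400000000001040000000000064000000000018e000000000006000000000001a6000000000015e000000000017800000000000004020000000000c84000000000150a48000a0000080000000000010040000000003808000020000c06000000000140208000a0000006000000000052a5000000000c9ac800080001a65a000040000380c000000000080c0000000001810000020000c180000080001beef00006000048ef000060000000049000000000004100000000000190000000000063800000000001800000000000698000000000057800000000005e0000000000000100000000000021000000000007a000000000000800000000000730000000000013000000000003c0000008a0800040000780c0000a00000000000020000300c00003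
  zc := [
    (41, [], [41, 46]), (42, [41, 42], []), (43, [42], []), (44, [42], [42, 45]), (45, [46], [45]),
    (46, [45], []), (47, [46], [])]
  vc := [
    (33, [44, 47], [34], [34, 39]), (34, [43, 44, 45, 47], [], [33, 38]), (35, [41], [34], []),
    (36, [42, 43], [34, 36, 38], [34]), (37, [43, 44, 45], [], [33, 34, 35]), (38, [45], [39], [35]),
    (39, [47], [38], []), (40, [43, 44, 45, 47], [38], [33, 34])]

theorem c28 : (su ([4, 3, 2, 6, 1, 2, 3, 1, 2, 0, 1, 0].flatMap tw2) Nl &&
    chkRep7 Nl Ql Zl ([4, 3, 2, 6, 1, 2, 3, 1, 2, 0, 1, 0].flatMap tw2) [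
      (Q28_0, [22, 30, 29, 24], [25, 22, 23, 20, 22, 30, 27, 24])]) = true := by
  decide +kernel

theorem g28 : Good7 Ql (wd ([4, 3, 2, 6, 1, 2, 3, 1, 2, 0, 1, 0].flatMap tw2)) := by
  have h := c28
  rw [Bool.and_eq_true] at h
  exact good7_of_chk (qz h1 h2 h3) (fun a ha => nz h4 h1 ha) (sub_of_su h.1) h.2

def Q29_0 : PD where
  c := [22, 23, 24, 25, 24]
  f := []
  i0 := 33
  k1 := 7
  k2 := 7
  A := 0xe0000000000006000000000000a00000000000010000000000000c000000000000a000000000000e00000000000010000000000000c000000000000a000000000000e0000000000001c000000000000c00000000000140000000000002000000000000180000000000014000000000001c0000000000003800000000000180000000000028000000000000740000040000024000004000006a00000c000002e000004000004200000c000005600000c000000180000000000014000000000001c000000000000380000000000018000000000002800000000000040000000000003000000000000280000000000038000000000000700000000000030000000000005000000000000080000000000007000000000000300000000000050000000000000800000000000060000000000005000000000000700000054000008000007e00000000000000000020000000000001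
  Ai := 0xc000000000000a000000000000e00000000000010000000000000e0000000000006000000000000a00000000000010000000000000e0000000000006000000000000a000000000000180000000000014000000000001c00000000000020000000000001c000000000000c0000000000014000000000000300000000000028000000000003800000000000078000008000005600000c0000018000008000004200000c000001e000008000006a00000c0000001c000000000000c000000000001400000000000030000000000002800000000000380000000000004000000000000380000000000018000000000002800000000000060000000000005000000000000700000000000008000000000000600000000000050000000000007000000000000080000000000007000000000000300000000000050000007e000000000006800000400000000000020000000000001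
  B := 0xce00000000000b60000000000024000000000001000000000000c000000000000a000000000000fe00000000000017600000000000f80000000000114000000000013200000000000e00000000000198000000000015400000000001e00000000000001f4ff000040000c1628000600008928800000000301c000000000280c00002000008080000000000780000080001f180000080001c5600000c000154930000600008140000000000c92a80006000030000000000002800000000000381c000020001c000000000000f7800000800016d600000c000000005d800000000003e0000000000045000000000004c8000000000038000000000006600000000000550000000000078000000000000067000000000005b0000000000012000000000000800000000000600000000000050000000000007f00000d91c0000c0000e8600000800000000000020000181c00003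
  Bi := 0x96000000000009e0000000000092000000000001000000000000dc00000000000b200000000000e6000000000000012000000000008a000000000004400000000000de000000000013600000000001a6000000000016400000000001da0000000000000041300000000001088000000000519800000000200c000020000201c000020000200400002000114978000a000112858000a00008968800000001beef0000600008820000000001b9ac80002000030180000200002804000020000380c000000001dddd8000c0000fecf8000c000179cc800020000000004800000000002280000000000110000000000037800000000004d80000000000698000000000059000000000007680000000000004b000000000004f00000000000490000000000008000000000006e0000000000059000000000007300001359580006000198e40000e00000000000020000200800003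
  zc := [
    (41, [41, 42], []), (42, [], [45]), (43, [41], [45]), (44, [41], [42, 46, 47]), (45, [46], []),
    (46, [42], [47]), (47, [45], [])]
  vc := [
    (33, [42, 44, 45, 46], [36], [39, 40]), (34, [41], [35], []), (35, [42, 43], [35, 36], []),
    (36, [42], [34], []), (37, [45, 47], [37, 38], []), (38, [47], [39], []), (39, [45, 46], [37, 39], []),
    (40, [45], [34, 39], [34])]

theorem c29 : (su ([6, 4, 2, 3, 1, 2, 6, 4, 5, 3, 4, 0, 1, 2, 3, 0, 1, 2, 0, 1, 0].flatMap tw2) Nl &&
    chkRep7 Nl Ql Zl ([6, 4, 2, 3, 1, 2, 6, 4, 5, 3, 4, 0, 1, 2, 3, 0, 1, 2, 0, 1, 0].flatMap tw2) [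
      (Q29_0, [22, 25, 24], [22, 23, 20, 22, 30, 20, 32, 29])]) = true := by
  decide +kernel

theorem g29 : Good7 Ql (wd ([6, 4, 2, 3, 1, 2, 6, 4, 5, 3, 4, 0, 1, 2, 3, 0, 1, 2, 0, 1, 0].flatMap tw2)) := by
  have h := c29
  rw [Bool.and_eq_true] at h
  exact good7_of_chk (qz h1 h2 h3) (fun a ha => nz h4 h1 ha) (sub_of_su h.1) h.2

/-- the words of this part -/
def ws : List (List ℕ) := [
  [6, 5, 4, 2, 1, 0], [6, 5, 4, 3, 1, 0], [6, 2, 3, 1, 2, 1], [6, 5, 4, 3, 2, 1, 0], [6, 5, 2, 3, 1, 2, 1],
  [6, 5, 4, 2, 3, 1, 2, 1], [4, 3, 2, 6, 1, 2, 3, 1, 2, 0, 1, 0],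
  [6, 4, 2, 3, 1, 2, 6, 4, 5, 3, 4, 0, 1, 2, 3, 0, 1, 2, 0, 1, 0]]

theorem good {w : List ℕ} (hw : w ∈ ws) : Good7 Ql (wd (w.flatMap tw2)) := by
  simp only [ws, List.mem_cons, List.not_mem_nil, or_false] at hw
  rcases hw with rfl | rfl | rfl | rfl | rfl | rfl | rfl | rfl
  · exact g22
  · exact g23
  · exact g24
  · exact g25
  · exact g26
  · exact g27
  · exact g28
  · exact g29

end Cfsg.Agent.H335.TC6.CertD
end

-- part: H335/TC6/Pts
section
/-!
# S2464, `F₄(2)`: the explicit points (helper335)

* `T20` ... `T29` : for the words without fixed vector: word, complement, and the conjugating words of the two factors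
  (conjugates of `x1`, the image of `x0` under the graph automorphism);
* `TO` : the elements of order 13, 17, 21 (conjugates of `x0`).
-/

set_option autoImplicit false
set_option maxRecDepth 100000

namespace Cfsg.Agent.H335.TC6.Pts

open Cfsg.Agent.H335.FT Cfsg.Agent.H335.FT.CertP Cfsg.Agent.H335.TC6

/-- the second word of order 7 -/
def x1 : List ℕ := [33, 14, 20, 27]

/-- the check of a point -/
def chkP (x t h k : List ℕ) : Bool := eqW (h ++ (x ++ (h.reverse ++ (k ++ (x ++ k.reverse))))) t

theorem p7_of_chk {x t h k : List ℕ} (e : chkP x t h k = true) : P7 (wd x) (wd t) := by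
  unfold chkP at e
  have h1 := wd_eq e
  rw [wd_append, wd_append, wd_append, wd_append, wd_append, wd_reverse, wd_reverse] at h1
  refine ⟨_, _, isConj_iff.2 ⟨wd h, rfl⟩, isConj_iff.2 ⟨wd k, rfl⟩, ?_⟩
  rw [← h1]
  group

/-- the check of a table -/
def chkT (T : List (List ℕ × List ℕ × List ℕ × List ℕ)) : Bool :=
  T.all fun e => chkP x1 (e.1.flatMap tw2 ++ e.2.1) e.2.2.1 e.2.2.2

def T20_0 : List (List ℕ × List ℕ × List ℕ × List ℕ) := [
  ([5, 4, 3, 2, 1, 0],
    [], [34],
    [27, 26, 23, 20, 22, 23, 29, 26, 27, 20, 22, 35, 20, 22, 28, 14, 20, 22, 14]),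
  ([5, 4, 3, 2, 1, 0],
    [33], [20, 30, 20],
    [27, 26, 23, 20, 22, 23, 36, 26, 34, 20, 22, 20, 14, 20, 27, 22]),
  ([5, 4, 3, 2, 1, 0],
    [36], [20, 30, 20],
    [27, 26, 23, 20, 22, 23, 38, 36, 26, 34, 20, 22, 20, 14, 20, 27, 22]),
  ([5, 4, 3, 2, 1, 0],
    [33, 36], [20, 30, 20],
    [27, 26, 23, 20, 22, 23, 36, 29, 26, 34, 20, 22, 20, 14, 20, 27, 22])]

theorem c20_0 : chkT T20_0 = true := by decide +kernel

def T20_1 : List (List ℕ × List ℕ × List ℕ × List ℕ) := [
  ([5, 4, 3, 2, 1, 0],
    [41], [37],
    [27, 26, 23, 20, 22, 23, 43, 42, 38, 36, 29, 26, 34, 20, 22, 20, 14, 20, 27, 22]),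
  ([5, 4, 3, 2, 1, 0],
    [33, 41], [37],
    [27, 26, 23, 20, 22, 23, 43, 42, 36, 26, 34, 20, 22, 20, 14, 20, 27, 22]),
  ([5, 4, 3, 2, 1, 0],
    [36, 41], [37],
    [27, 26, 23, 20, 22, 23, 43, 42, 38, 36, 26, 34, 20, 22, 20, 14, 20, 27, 22]),
  ([5, 4, 3, 2, 1, 0],
    [33, 36, 41], [37],
    [27, 26, 23, 20, 22, 23, 43, 42, 36, 29, 26, 34, 20, 22, 20, 14, 20, 27, 22])]

theorem c20_1 : chkT T20_1 = true := by decide +kernel

def T21_0 : List (List ℕ × List ℕ × List ℕ × List ℕ) := [
  ([6, 4, 3, 2, 1, 0],
    [], [30, 20, 37],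
    [27, 26, 23, 20, 22, 23, 29, 26, 34, 20, 22, 20, 14, 20, 27, 22]),
  ([6, 4, 3, 2, 1, 0],
    [33], [30, 20, 37],
    [27, 26, 23, 20, 22, 23, 38, 26, 34, 20, 22, 20, 14, 20, 27, 22]),
  ([6, 4, 3, 2, 1, 0],
    [34], [41, 14, 29],
    [27, 26, 23, 20, 22, 23, 40, 36, 26, 20, 22, 14, 20, 22, 20, 14, 20]),
  ([6, 4, 3, 2, 1, 0],
    [33, 34], [27, 25, 41],
    [26, 23, 20, 22, 23, 44, 40, 38, 26, 34, 20, 22, 20, 14, 20, 27, 22])]

theorem c21_0 : chkT T21_0 = true := by decide +kernel

def T21_1 : List (List ℕ × List ℕ × List ℕ × List ℕ) := [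
  ([6, 4, 3, 2, 1, 0],
    [41], [20],
    [27, 26, 23, 20, 22, 23, 43, 42, 29, 26, 34, 20, 22, 20, 14, 20, 27, 22]),
  ([6, 4, 3, 2, 1, 0],
    [33, 41], [20],
    [27, 26, 23, 20, 22, 23, 43, 42, 38, 26, 34, 20, 22, 20, 14, 20, 27, 22]),
  ([6, 4, 3, 2, 1, 0],
    [34, 41], [20, 29, 41],
    [27, 26, 23, 20, 22, 23, 46, 26, 45, 29, 34, 20, 22, 20, 14, 20, 27, 22]),
  ([6, 4, 3, 2, 1, 0],
    [33, 34, 41], [20, 34],
    [27, 26, 23, 20, 22, 23, 43, 42, 26, 20, 14, 34, 22, 20, 14, 20, 22])]

theorem c21_1 : chkT T21_1 = true := by decide +kernel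

def T22_0 : List (List ℕ × List ℕ × List ℕ × List ℕ) := [
  ([6, 5, 4, 2, 1, 0],
    [], [37],
    [27, 26, 23, 20, 22, 23, 26, 34, 20, 22, 20, 14, 20, 27, 22]),
  ([6, 5, 4, 2, 1, 0],
    [41], [14, 25, 33],
    [26, 23, 22, 23, 43, 42, 26, 34, 20, 22, 20, 14, 20, 27, 22])]

theorem c22_0 : chkT T22_0 = true := by decide +kernel

def T25_0 : List (List ℕ × List ℕ × List ℕ × List ℕ) := [
  ([6, 5, 4, 3, 2, 1, 0],
    [], [33, 38, 41],
    [27, 26, 23, 20, 22, 23, 44, 40, 26, 20, 22, 20, 14, 20, 27, 22]),
  ([6, 5, 4, 3, 2, 1, 0],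
    [41], [],
    [27, 26, 23, 20, 22, 23, 43, 42, 38, 36, 29, 26, 34, 20, 22, 20, 14, 20, 27, 22])]

theorem c25_0 : chkT T25_0 = true := by decide +kernel

def T28_0 : List (List ℕ × List ℕ × List ℕ × List ℕ) := [
  ([4, 3, 2, 6, 1, 2, 3, 1, 2, 0, 1, 0],
    [], [38, 30, 33, 20],
    [27, 26, 23, 20, 22, 23, 32, 24, 41, 35, 27, 20, 22, 20, 14, 20, 22, 25]),
  ([4, 3, 2, 6, 1, 2, 3, 1, 2, 0, 1, 0],
    [33], [14, 31, 44],
    [27, 26, 23, 20, 22, 23, 43, 42, 39, 26, 24, 27, 20, 22, 35, 20, 14, 20, 22, 25])]

theorem c28_0 : chkT T28_0 = true := by decide +kernel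

def T28_1 : List (List ℕ × List ℕ × List ℕ × List ℕ) := [
  ([4, 3, 2, 6, 1, 2, 3, 1, 2, 0, 1, 0],
    [34], [38, 20, 42],
    [30, 27, 26, 20, 22, 23, 22, 20, 22, 14, 20, 22, 23, 29, 26, 41, 20, 27, 14, 35]),
  ([4, 3, 2, 6, 1, 2, 3, 1, 2, 0, 1, 0],
    [33, 34], [33, 31, 20],
    [27, 26, 23, 20, 22, 23, 31, 43, 38, 36, 41, 27, 35, 20, 22, 20, 14, 20, 22, 25])]

theorem c28_1 : chkT T28_1 = true := by decide +kernel

def T28_2 : List (List ℕ × List ℕ × List ℕ × List ℕ) := [
  ([4, 3, 2, 6, 1, 2, 3, 1, 2, 0, 1, 0],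
    [41], [14, 29, 45],
    [27, 26, 23, 20, 22, 23, 45, 36, 32, 29, 24, 33, 27, 35, 20, 22, 20, 14, 20, 22, 25]),
  ([4, 3, 2, 6, 1, 2, 3, 1, 2, 0, 1, 0],
    [33, 41], [31, 20, 37],
    [30, 27, 24, 20, 22, 23, 22, 20, 22, 14, 20, 22, 23, 42, 14, 33, 25, 20])]

theorem c28_2 : chkT T28_2 = true := by decide +kernel

def T28_3 : List (List ℕ × List ℕ × List ℕ × List ℕ) := [
  ([4, 3, 2, 6, 1, 2, 3, 1, 2, 0, 1, 0],
    [34, 41], [14, 39, 41],
    [38, 31, 27, 23, 20, 22, 23, 20, 22, 20, 14, 20, 22, 23, 43, 40, 39, 26, 14, 20]),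
  ([4, 3, 2, 6, 1, 2, 3, 1, 2, 0, 1, 0],
    [33, 34, 41], [14, 23, 31],
    [27, 26, 23, 20, 22, 23, 26, 24, 14, 20, 14, 34, 30, 22, 20, 22, 25, 20])]

theorem c28_3 : chkT T28_3 = true := by decide +kernel

def T29_0 : List (List ℕ × List ℕ × List ℕ × List ℕ) := [
  ([6, 4, 2, 3, 1, 2, 6, 4, 5, 3, 4, 0, 1, 2, 3, 0, 1, 2, 0, 1, 0],
    [], [39, 34, 27, 26],
    [27, 25, 24, 20, 22, 20, 14, 20, 22, 23, 43, 32, 22, 20, 14, 20, 27, 22, 25, 20, 22])]

theorem c29_0 : chkT T29_0 = true := by decide +kernel

def T29_1 : List (List ℕ × List ℕ × List ℕ × List ℕ) := [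
  ([6, 4, 2, 3, 1, 2, 6, 4, 5, 3, 4, 0, 1, 2, 3, 0, 1, 2, 0, 1, 0],
    [33], [27, 26, 35, 28],
    [32, 30, 14, 20, 22, 23, 14, 20, 22, 23, 20, 22, 14, 20, 22, 23, 44, 32, 28, 27, 20])]

theorem c29_1 : chkT T29_1 = true := by decide +kernel

def T29_2 : List (List ℕ × List ℕ × List ℕ × List ℕ) := [
  ([6, 4, 2, 3, 1, 2, 6, 4, 5, 3, 4, 0, 1, 2, 3, 0, 1, 2, 0, 1, 0],
    [35], [27, 26, 28],
    [32, 30, 29, 14, 20, 22, 23, 14, 20, 22, 23, 20, 22, 14, 20, 22, 23, 29, 24, 14, 35, 34])]

theorem c29_2 : chkT T29_2 = true := by decide +kernel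

def T29_3 : List (List ℕ × List ℕ × List ℕ × List ℕ) := [
  ([6, 4, 2, 3, 1, 2, 6, 4, 5, 3, 4, 0, 1, 2, 3, 0, 1, 2, 0, 1, 0],
    [33, 35], [25, 22, 25, 37],
    [28, 25, 24, 22, 20, 22, 23, 26, 24, 22, 20, 37, 30, 22, 20, 22, 14, 20, 22, 25])]

theorem c29_3 : chkT T29_3 = true := by decide +kernel

def T29_4 : List (List ℕ × List ℕ × List ℕ × List ℕ) := [
  ([6, 4, 2, 3, 1, 2, 6, 4, 5, 3, 4, 0, 1, 2, 3, 0, 1, 2, 0, 1, 0],
    [42], [14, 20, 38],
    [27, 25, 24, 20, 22, 20, 14, 20, 22, 23, 44, 39, 32, 30, 22, 20, 14, 20, 27, 22, 25, 20, 22])]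

theorem c29_4 : chkT T29_4 = true := by decide +kernel

def T29_5 : List (List ℕ × List ℕ × List ℕ × List ℕ) := [
  ([6, 4, 2, 3, 1, 2, 6, 4, 5, 3, 4, 0, 1, 2, 3, 0, 1, 2, 0, 1, 0],
    [33, 42], [27, 34, 29],
    [27, 25, 24, 20, 22, 20, 14, 20, 22, 23, 39, 32, 30, 22, 20, 14, 20, 27, 22, 25, 20, 22])]

theorem c29_5 : chkT T29_5 = true := by decide +kernel

def T29_6 : List (List ℕ × List ℕ × List ℕ × List ℕ) := [
  ([6, 4, 2, 3, 1, 2, 6, 4, 5, 3, 4, 0, 1, 2, 3, 0, 1, 2, 0, 1, 0],
    [35, 42], [14, 20],
    [27, 25, 24, 20, 22, 20, 14, 20, 22, 23, 39, 32, 30, 22, 20, 14, 20, 27, 22, 25, 20, 22])]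

theorem c29_6 : chkT T29_6 = true := by decide +kernel

def T29_7 : List (List ℕ × List ℕ × List ℕ × List ℕ) := [
  ([6, 4, 2, 3, 1, 2, 6, 4, 5, 3, 4, 0, 1, 2, 3, 0, 1, 2, 0, 1, 0],
    [33, 35, 42], [14, 40, 20],
    [27, 25, 24, 20, 22, 20, 14, 20, 22, 23, 39, 32, 30, 22, 20, 14, 20, 27, 22, 25, 20, 22])]

theorem c29_7 : chkT T29_7 = true := by decide +kernel

/-- all points -/
def TT : List (List ℕ × List ℕ × List ℕ × List ℕ) :=
  T20_0 ++ T20_1 ++ T21_0 ++ T21_1 ++ T22_0 ++ T25_0 ++ T28_0 ++ T28_1 ++ T28_2 ++ T28_3 ++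
    T29_0 ++ T29_1 ++ T29_2 ++ T29_3 ++ T29_4 ++ T29_5 ++ T29_6 ++ T29_7

theorem chkTT : chkT TT = true := by
  unfold chkT TT
  simp only [List.all_append, Bool.and_eq_true]
  have hh : ∀ T, chkT T = true → (T.all fun e => chkP x1 (e.1.flatMap tw2 ++ e.2.1) e.2.2.1 e.2.2.2) = true := fun _ h => h
  exact ⟨⟨⟨⟨⟨⟨⟨⟨⟨⟨⟨⟨⟨⟨⟨⟨⟨hh _ c20_0, hh _ c20_1⟩, hh _ c21_0⟩, hh _ c21_1⟩, hh _ c22_0⟩, hh _ c25_0⟩, hh _ c28_0⟩, hh _ c28_1⟩, hh _ c28_2⟩, hh _ c28_3⟩, hh _ c29_0⟩, hh _ c29_1⟩, hh _ c29_2⟩, hh _ c29_3⟩, hh _ c29_4⟩, hh _ c29_5⟩, hh _ c29_6⟩, hh _ c29_7⟩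

theorem cov_TT : (NF.all fun w => (comps w).all fun c => TT.any fun e => e.1 == w && e.2.1 == c) = true := by
  decide +kernel

/-- **The points over the words without fixed vector.** -/
theorem point {w c : List ℕ} (hw : w ∈ NF) (hc : c ∈ comps w) : P7 (wd x1) (wd (w.flatMap tw2 ++ c)) := by
  have h1 := (List.all_eq_true.1 ((List.all_eq_true.1 cov_TT) w hw)) c hc
  rw [List.any_eq_true] at h1
  obtain ⟨e, he, h2⟩ := h1
  rw [Bool.and_eq_true, beq_iff_eq, beq_iff_eq] at h2
  obtain ⟨rfl, rfl⟩ := h2
  exact p7_of_chk ((List.all_eq_true.1 chkTT) e he)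

/-- the elements of order 13, 17, 21 -/
def TO : List (List ℕ × List ℕ × List ℕ) := [
  ([25, 14, 20, 33, 23, 22, 27, 24],
    [33, 22, 36, 25, 20], [34, 20, 22, 14, 20, 14, 41, 26, 22, 32, 20, 22, 23, 22, 20, 31]),
  ([22, 23, 24, 33, 22, 20, 27, 14, 25],
    [26, 27, 23, 22, 20, 41], [42, 34, 25, 20, 14, 20, 22, 23, 20, 22, 20, 14, 45, 35, 34, 23, 24, 22, 28]),
  ([22, 23, 24, 33, 22, 20, 27, 14, 25, 22, 23, 24, 33, 22, 20, 27, 14, 25, 22, 23, 24, 33, 22, 20, 27, 14, 25],
    [27, 29, 38], [34, 14, 20, 14, 45, 42, 39, 37, 22, 23, 20, 22, 28, 20, 27, 24, 23, 20]),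
  ([33, 23, 24, 14, 20, 27, 20],
    [32, 27, 25, 22, 20, 41], [37, 30, 27, 20, 22, 20, 14, 40, 36, 32, 28, 20, 22, 20, 27, 23, 22, 26, 20]),
  ([24, 14, 33, 23, 22, 25, 22],
    [22, 20, 37, 28, 46], [33, 20, 14, 47, 42, 37, 20, 22, 26, 20, 27, 23, 24, 22, 20])]

theorem chkTO : (TO.all fun e => chkP x0 e.1 e.2.1 e.2.2) = true := by decide +kernel

theorem pointO {w : List ℕ} (hw : w ∈ TO.map Prod.fst) : P7 (wd x0) (wd w) := by
  rw [List.mem_map] at hw
  obtain ⟨e, he, rfl⟩ := hw
  exact p7_of_chk ((List.all_eq_true.1 chkTO) e he)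

end Cfsg.Agent.H335.TC6.Pts
end

-- part: H335/TC6/Core
section
/-!
# S2464, `F₄(2)`: every nontrivial element is a product of two elements of one class of order 7 (helper335)

* `ps7` : the elements of `Ps ∖ Q_s`; `HFix`, `HCov` : the two facts on the words with / without fixed vector;
* `odd7` : the elements of odd order; `all7` : all elements.
-/

set_option autoImplicit false

namespace Cfsg.Agent.H335.TC6

open Cfsg.Agent.FourTwo.Cent Cfsg.Agent.FourTwo.Par
open Cfsg.Agent.FourTwo.Base (LL x bar exists_graph)

/-- every `w q` over a word with a fixed vector is conjugate into `Pl ∖ Q_l` -/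
def HFix : Prop := ∀ w ∈ Cfsg.Agent.H612.Ore.rws, w ≠ [] → w ∉ NF → ∀ q ∈ RG Cfsg.Agent.FourTwo.Facts2.qsP,
  ∃ y : LL, y * (Cfsg.Agent.FourTwo.Base.wd (w.flatMap Cfsg.Agent.H335.FT.tw) * q) * y⁻¹ ∈ Pl ∧
    y * (Cfsg.Agent.FourTwo.Base.wd (w.flatMap Cfsg.Agent.H335.FT.tw) * q) * y⁻¹ ∉ RG Cfsg.Agent.H434.FF.ql

/-- every `w q` over a word without fixed vector is conjugate to a point -/
def HCov : Prop := ∀ w ∈ NF, ∀ q ∈ RG Cfsg.Agent.FourTwo.Facts2.qsP, ∃ y : LL, ∃ c ∈ comps w,
  y * (Cfsg.Agent.FourTwo.Base.wd (w.flatMap Cfsg.Agent.H335.FT.tw) * q) * y⁻¹ =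
    Cfsg.Agent.FourTwo.Base.wd (w.flatMap Cfsg.Agent.H335.FT.tw ++ c)

/-! ### the elements of `Ps ∖ Q_s` -/

theorem rws_all7 : (Cfsg.Agent.H612.Ore.rws.all fun w => w.isEmpty ||
    (CertA.ws.contains w || (CertB.ws.contains w || (CertC.ws.contains w || CertD.ws.contains w)))) = true := by
  decide +kernel

theorem good7_word {w : List ℕ} (hw : w ∈ Cfsg.Agent.H612.Ore.rws) (h0 : w ≠ []) {q : LL}
    (hq : q ∈ RG Cfsg.Agent.FourTwo.Facts2.qsP) :
    P7 X0 (Cfsg.Agent.FourTwo.Base.wd (w.flatMap Cfsg.Agent.H335.FT.tw) * q) := by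
  have h1 := (List.all_eq_true.1 rws_all7) w hw
  rw [Cfsg.Agent.H335.FT.flat_eq]
  have hq' := Cfsg.Agent.H335.FT.RG_le_Cl hq
  simp only [Bool.or_eq_true, List.isEmpty_iff, List.contains_iff_mem] at h1
  rcases h1 with h1 | h1 | h1 | h1 | h1
  · exact absurd h1 h0
  · exact CertA.good h1 q hq'
  · exact CertB.good h1 q hq'
  · exact CertC.good h1 q hq'
  · exact CertD.good h1 q hq'

theorem normQs : normB psP Cfsg.Agent.FourTwo.Facts2.qsP = true := by decide +kernel

/-- the words of the elements of `Ps ∖ Q_s` -/
theorem word_of {g : LL} (hg : g ∈ Ps) (hn : g ∉ RG Cfsg.Agent.FourTwo.Facts2.qsP) :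
    ∃ w ∈ Cfsg.Agent.H612.Ore.rws, w ≠ [] ∧ ∃ y : LL, ∃ q ∈ RG Cfsg.Agent.FourTwo.Facts2.qsP,
      y * g * y⁻¹ = Cfsg.Agent.FourTwo.Base.wd (w.flatMap Cfsg.Agent.H335.FT.tw) * q := by
  obtain ⟨w, hw, y, hy, q, hq, e⟩ := Cfsg.Agent.H903.Pw.Rho.exists_word' hg
  refine ⟨w, hw, ?_, y, q, hq, e⟩
  rintro rfl
  apply hn
  have e1 : y * g * y⁻¹ = q := by rw [e]; exact one_mul q
  have e2 : g = y⁻¹ * q * y⁻¹⁻¹ := by rw [← e1]; group
  rw [e2]
  exact conj_mem normQs (inv_mem hy) hq

/-- **The elements of `Ps ∖ Q_s`.** -/
theorem ps7 {g : LL} (hg : g ∈ Ps) (hn : g ∉ RG Cfsg.Agent.FourTwo.Facts2.qsP) : P7 X0 g := by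
  obtain ⟨w, hw, h0, y, q, hq, e⟩ := word_of hg hn
  refine P7.of_conj y ?_
  rw [e]
  exact good7_word hw h0 hq

/-! ### the graph automorphism -/

section

variable {α : LL ≃* LL} (hα : ∀ r < 48, α (x r) = x (bar r))

include hα

theorem alpha_X0 : α X0 = Cfsg.Agent.H335.FT.wd Pts.x1 := by
  have h1 : X0 = Cfsg.Agent.FourTwo.Base.wd x0 := Cfsg.Agent.H335.FT.wd_eq_base (by decide)
  have h2 : Cfsg.Agent.H335.FT.wd Pts.x1 = Cfsg.Agent.FourTwo.Base.wd Pts.x1 :=
    Cfsg.Agent.H335.FT.wd_eq_base (by decide)
  rw [h1, h2, Cfsg.Agent.H326.F4C.map_wd hα (by decide)]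
  rfl

/-- the other class -/
theorem P7.alpha {g : LL} (h : P7 (Cfsg.Agent.H335.FT.wd Pts.x1) (α g)) : P7 X0 g := by
  have h1 := h.map α.symm.toMonoidHom
  have e1 : α.symm.toMonoidHom (Cfsg.Agent.H335.FT.wd Pts.x1) = X0 := by
    rw [← alpha_X0 hα]
    exact α.symm_apply_apply X0
  have e2 : α.symm.toMonoidHom (α g) = g := α.symm_apply_apply g
  rwa [e1, e2] at h1

/-- **The elements of `Pl ∖ Q_l`.** -/
theorem pl7 (hF : HFix) (hC : HCov) {g : LL} (hg : g ∈ Pl) (hn : g ∉ RG Cfsg.Agent.H434.FF.ql) : P7 X0 g := by
  have h1 := Cfsg.Agent.H374.QS.FF.map_Pl hα hg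
  have h2 : α g ∉ RG Cfsg.Agent.FourTwo.Facts2.qsP := fun h => hn (Cfsg.Agent.H374.QS.FF.map_ql hα h)
  obtain ⟨w, hw, h0, y, q, hq, e⟩ := word_of h1 h2
  by_cases hNF : w ∈ NF
  · refine P7.alpha hα (P7.of_conj y ?_)
    rw [e]
    obtain ⟨z, c, hc, e2⟩ := hC w hNF q hq
    refine P7.of_conj z ?_
    rw [e2]
    have h3 := Pts.point hNF hc
    rw [Cfsg.Agent.H335.FT.wd_append, ← Cfsg.Agent.H335.FT.flat_eq] at h3
    rw [Cfsg.Agent.FourTwo.Base.wd_append]
    have h4 : Cfsg.Agent.H335.FT.wd c = Cfsg.Agent.FourTwo.Base.wd c := by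
      refine Cfsg.Agent.H335.FT.wd_eq_base ?_
      have key : (NF.all fun w => (comps w).all fun c => Cfsg.Agent.H335.FT.su c Cfsg.Agent.H335.FT.used) = true := by
        decide +kernel
      exact Cfsg.Agent.H335.FT.sub_of_su ((List.all_eq_true.1 ((List.all_eq_true.1 key) w hNF)) c hc)
    rwa [h4] at h3
  · obtain ⟨z, h3, h4⟩ := hF w hw h0 hNF q hq
    rw [← e] at h3 h4
    have e5 : z * (y * α g * y⁻¹) * z⁻¹ = (z * y) * α g * (z * y)⁻¹ := by group
    rw [e5] at h3 h4
    have h6 := Cfsg.Agent.H374.QS.FF.map_Pl hα h3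
    have h7 : α ((z * y) * α g * (z * y)⁻¹) ∉ RG Cfsg.Agent.FourTwo.Facts2.qsP :=
      fun h => h4 (Cfsg.Agent.H374.QS.FF.map_ql hα h)
    have h8 := ps7 h6 h7
    rw [map_mul, map_mul, map_inv, Cfsg.Agent.H326.F4C.gamma_sq hα] at h8
    exact P7.of_conj _ h8

end

/-- the elements which are conjugate into `Ps` or `Pl` -/
theorem par7 (hF : HFix) (hC : HCov) {g : LL} (h1 : g ≠ 1) (h : ∃ y, y * g * y⁻¹ ∈ Ps ∨ y * g * y⁻¹ ∈ Pl) :
    P7 X0 g := by
  obtain ⟨α, hα⟩ := exists_graph
  rcases Cfsg.Agent.H434.FF.not_rad h1 h with ⟨y, h3, h4⟩ | ⟨y, h3, h4⟩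
  · exact P7.of_conj y (ps7 h3 h4)
  · exact P7.of_conj y (pl7 hα hF hC h3 h4)

/-- **Every nontrivial element.** -/
theorem all7 (hF : HFix) (hC : HCov) {g : LL} (h1 : g ≠ 1) : P7 X0 g := by
  rcases Nat.even_or_odd (orderOf g) with he | ho
  · exact par7 hF hC h1 (Cfsg.Agent.H824.Fs.exists_conj_par _ he)
  · obtain ⟨p, hp, h⟩ := Cfsg.Agent.H326.F4C.exists_mem Cfsg.Agent.H374.QS.FF.h16 ho
    have hc : ∀ s : List ℕ, Cfsg.Agent.FourTwo.Base.wd p.2 ∈ Cfsg.Agent.H326.F4C.lev s →
        ∃ y : LL, y * g * y⁻¹ ∈ Cfsg.Agent.H326.F4C.lev s := by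
      intro s hs
      obtain ⟨c, hc⟩ := isConj_iff.1 h.symm
      exact ⟨c, by rw [hc]; exact hs⟩
    have hp' := hp
    unfold Cfsg.Agent.H326.F4C.W16 at hp'
    rw [List.mem_append, List.mem_append] at hp'
    rcases hp' with h2 | h2 | h2
    · obtain ⟨y, hy⟩ := hc _ (Cfsg.Agent.H326.F4C.mem_of_chk Cfsg.Agent.H326.F4C.WL_chk h2)
      exact par7 hF hC h1 ⟨y, Or.inl (Cfsg.Agent.H374.QS.FF.lev1 hy)⟩
    · obtain ⟨y, hy⟩ := hc _ (Cfsg.Agent.H326.F4C.mem_of_chk Cfsg.Agent.H326.F4C.WM_chk h2)
      exact par7 hF hC h1 ⟨y, Or.inr (Cfsg.Agent.H374.QS.FF.lev2 hy)⟩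
    · have key : (Cfsg.Agent.H326.F4C.WN.all fun p =>
          (Pts.TO.map Prod.fst).contains p.2 && Cfsg.Agent.H335.FT.su p.2 Cfsg.Agent.H335.FT.used) = true := by
        decide +kernel
      have h3 := (List.all_eq_true.1 key) p h2
      rw [Bool.and_eq_true, List.contains_iff_mem] at h3
      have h4 := Pts.pointO h3.1
      rw [Cfsg.Agent.H335.FT.wd_eq_base (Cfsg.Agent.H335.FT.sub_of_su h3.2)] at h4
      exact P7.of_isConj h4 h

end Cfsg.Agent.H335.TC6
end

-- part: H824/Fs/FixPt
section
/-!
# S2464, `F₄(2)`: the elements of `Ps` whose Levi part fixes a vector (helper824)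

`fix_pt` : for 23 of the thirty words `w` of helper612 all elements `wd (w.flatMap tw) * q`, `q ∈ O₂(Ps)`, have a
conjugate in `Pl` outside `O₂(Pl)`.
-/

set_option autoImplicit false

namespace Cfsg.Agent.H824.Fs.FixPt

open Cfsg Cfsg.Lie Cfsg.Agent.FourTwo.Par Cfsg.Agent.FourTwo.Cent Cfsg.Agent.H903.Pw.Rho
open Cfsg.Agent.FourTwo.Base hiding bar bar_lt
open Cfsg.Agent.SporRec.TwoSp6.Sp (S)
open Cfsg.Agent.H612.Ore (spAct B6)
open Cfsg.Agent.H434.FF (ql)

/-- the elements of `S` trivial on `8^⊥ / 8` -/
def Tv (N : S) : Prop := ∀ v < 64, B6 v 8 = false → spAct.ap N v = v ∨ spAct.ap N v = v ^^^ 8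

theorem tab8 : ∀ v < 64, B6 v 8 = false → v ^^^ 8 < 64 ∧ B6 (v ^^^ 8) 8 = false ∧ v ^^^ 8 ^^^ 8 = v ∧ v ^^^ 8 ≠ v := by
  decide +kernel

theorem Tv.one : Tv 1 := fun v hv _ => Or.inl (spAct.one v hv)

theorem Tv.mul {M N : S} (hM : Tv M) (hN : Tv N) : Tv (M * N) := by
  intro v hv h
  obtain ⟨h1, h2, h3, -⟩ := tab8 v hv h
  rw [spAct.mul M N v hv]
  rcases hN v hv h with e | e
  · rw [e]
    exact hM v hv h
  · rw [e]
    rcases hM _ h1 h2 with e2 | e2
    · exact Or.inr e2
    · rw [h3] at e2
      exact Or.inl e2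

theorem Tv.inv {N : S} (hN : Tv N) : Tv N⁻¹ := by
  intro v hv h
  obtain ⟨h1, h2, h3, h4⟩ := tab8 v hv h
  rcases hN v hv h with e | e
  · left
    have h5 := spAct.inv_ap N hv
    rwa [e] at h5
  · rcases hN _ h1 h2 with e2 | e2
    · exact absurd (spAct.inj N hv h1 (e.trans e2.symm)).symm h4
    · right
      have h5 := spAct.inv_ap N h1
      rwa [e2, h3] at h5

theorem tab_ql : ∀ r < 48, ql r = true → (15 ≤ r ∧ r < 48) ∧ (∀ c ∈ _root_.Cfsg.Agent.H903.Pw.Rho.mt r, c < 64) ∧
    ∀ v < 64, B6 v 8 = false → (_root_.Cfsg.Agent.H903.Pw.Rho.mt r).foldr stc v = v ∨ (_root_.Cfsg.Agent.H903.Pw.Rho.mt r).foldr stc v = v ^^^ 8 := by decide +kernel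

/-- the elements of `O₂(Pl)` -/
theorem rel_ql {g : LL} (hg : g ∈ RG ql) : ∃ N : S, _root_.Cfsg.Agent.H903.Pw.Rho.Rel g N ∧ Tv N := by
  refine Subgroup.closure_induction (p := fun g _ => ∃ N : S, _root_.Cfsg.Agent.H903.Pw.Rho.Rel g N ∧ Tv N) ?_ ⟨1, Rel.one, Tv.one⟩ ?_ ?_ hg
  · rintro _ ⟨r, hr, hp, rfl⟩
    obtain ⟨h1, h2, h3⟩ := tab_ql r hr hp
    refine ⟨_, rel_x h1.1 h1.2, fun v hv h => ?_⟩
    rw [(ap_T h2 hv).1]
    exact h3 v hv h
  · rintro g h - - ⟨M, hM, hM'⟩ ⟨N, hN, hN'⟩
    exact ⟨_, hM.mul hN, hM'.mul hN'⟩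
  · rintro g - ⟨M, hM, hM'⟩
    exact ⟨_, hM.inv, hM'.inv⟩

theorem tab_qs : ∀ r < 48, Cfsg.Agent.FourTwo.Facts2.qsP r = true → 15 ≤ r ∧ _root_.Cfsg.Agent.H903.Pw.Rho.mt r = [] := by decide +kernel

/-- the elements of `O₂(Ps)` -/
theorem rel_qs {g : LL} (hg : g ∈ RG Cfsg.Agent.FourTwo.Facts2.qsP) : _root_.Cfsg.Agent.H903.Pw.Rho.Rel g 1 := by
  refine Subgroup.closure_induction (p := fun g _ => _root_.Cfsg.Agent.H903.Pw.Rho.Rel g 1) ?_ Rel.one ?_ ?_ hg
  · rintro _ ⟨r, hr, hp, rfl⟩
    obtain ⟨h1, h2⟩ := tab_qs r hr hp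
    have h3 := rel_x h1 hr
    rw [h2] at h3
    exact h3
  · rintro g h - - hg hh
    have h3 := hg.mul hh
    rwa [mul_one] at h3
  · rintro g - hg
    have h3 := hg.inv
    rwa [inv_one] at h3

/-- the check: `c` moves a fixed vector of `w` to `8`; the vector `u` is orthogonal to `8` -/
def ck (w c : List ℕ) (u : ℕ) : Bool :=
  let l := (c.flatMap tw ++ (w.flatMap tw ++ (c.flatMap tw).reverse)).flatMap mt
  (w.all fun j => decide (j < 7)) && (c.all fun j => decide (j < 7)) && (l.all fun d => decide (d < 64)) &&
    decide (u < 64) && !B6 u 8 && Nat.beq (l.foldr stc 8) 8 && !Nat.beq (l.foldr stc u) u && !Nat.beq (l.foldr stc u) (u ^^^ 8)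

theorem of_ck {w c : List ℕ} {u : ℕ} (h : ck w c u = true) {q : LL} (hq : q ∈ RG Cfsg.Agent.FourTwo.Facts2.qsP) :
    ∃ y : LL, y * (wd (w.flatMap tw) * q) * y⁻¹ ∈ Pl ∧ y * (wd (w.flatMap tw) * q) * y⁻¹ ∉ RG ql := by
  unfold ck at h
  simp only [Bool.and_eq_true, List.all_eq_true, decide_eq_true_eq, Bool.not_eq_true'] at h
  obtain ⟨⟨⟨⟨⟨⟨⟨h1, h2⟩, h3⟩, h4⟩, h5⟩, h6⟩, h7⟩, h8⟩ := h
  have hw := flat_bd h1
  have hc := flat_bd h2
  have hc' : ∀ r ∈ (c.flatMap tw).reverse, 15 ≤ r ∧ r < 48 := fun r hr => hc r (List.mem_reverse.1 hr)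
  have hR : _root_.Cfsg.Agent.H903.Pw.Rho.Rel (wd (c.flatMap tw) * (wd (w.flatMap tw) * q) * (wd (c.flatMap tw))⁻¹)
      (T ((c.flatMap tw ++ (w.flatMap tw ++ (c.flatMap tw).reverse)).flatMap mt)) := by
    rw [← mw_eq_T, mw_append, mw_append, ← Cfsg.Agent.FourTwo.Facts2.wd_reverse]
    have h9 := ((rel_wd hc).mul ((rel_wd hw).mul (rel_qs hq))).mul (rel_wd hc')
    rwa [mul_one, mul_assoc (mw _)] at h9
  refine ⟨wd (c.flatMap tw), ?_, ?_⟩
  · rw [← cent_long, Subgroup.mem_centralizer_singleton_iff]
    have h9 := hR.2 8 (by norm_num)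
    rw [(ap_T h3 (by norm_num : 8 < 64)).1, Nat.eq_of_beq_eq_true h6] at h9
    have e : wv 8 = x (bs 3) := wv_pow 3 (by norm_num)
    rw [e] at h9
    rcases h9 with h9 | h9
    · exact mul_inv_eq_iff_eq_mul.1 h9
    · exact absurd h9 (not_conj_bs (by norm_num) _)
  · intro h9
    obtain ⟨N, hN, hN'⟩ := rel_ql h9
    have h11 := hN' u h4 h5
    rw [hN.unique hR, (ap_T h3 h4).1] at h11
    rcases h11 with h11 | h11
    · rw [h11] at h7
      simp at h7
    · rw [h11] at h8
      simp at h8

/-- the six words without fixed vector -/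
def NF : List (List ℕ) := [[5, 4, 3, 2, 1, 0], [6, 4, 3, 2, 1, 0], [6, 5, 4, 2, 1, 0], [6, 5, 4, 3, 2, 1, 0],
  [4, 3, 2, 6, 1, 2, 3, 1, 2, 0, 1, 0], [6, 4, 2, 3, 1, 2, 6, 4, 5, 3, 4, 0, 1, 2, 3, 0, 1, 2, 0, 1, 0]]

/-- the certificates -/
def cert : List (List ℕ × List ℕ × ℕ) := [
  ([0], [2, 1], 16),
  ([1, 0], [2, 1, 6, 2], 2),
  ([2, 0], [0, 1], 16),
  ([2, 1, 0], [2, 1, 3, 2, 4, 3], 2),
  ([3, 1, 0], [2, 1, 6, 2], 2),
  ([4, 2, 0], [0, 1], 4),
  ([6, 5, 3], [], 2),
  ([3, 2, 1, 0], [2, 1, 3, 2, 4, 3, 5, 4], 2),
  ([4, 2, 1, 0], [2, 1, 3, 2, 4, 3], 2),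
  ([4, 3, 1, 0], [2, 1, 6, 2], 2),
  ([5, 3, 1, 0], [2, 1, 6, 2], 2),
  ([6, 3, 2, 1], [2, 1, 3, 2, 4, 3, 5, 4], 2),
  ([6, 5, 3, 2], [0, 1], 2),
  ([4, 3, 2, 1, 0], [0, 2, 3, 4, 6, 2, 1, 3, 2, 6], 2),
  ([5, 3, 2, 1, 0], [2, 1, 3, 2, 4, 3, 5, 4], 2),
  ([6, 3, 2, 1, 0], [2, 1, 3, 2, 4, 3, 5, 4], 2),
  ([5, 4, 2, 1, 0], [0, 2, 3, 4, 5, 6, 2, 1, 3, 2, 4, 3], 2),
  ([6, 4, 3, 1, 0], [2, 1, 6, 2], 2),
  ([6, 5, 4, 3, 2], [0, 1], 2),
  ([6, 5, 4, 3, 1, 0], [2, 1, 6, 2], 2),
  ([6, 2, 3, 1, 2, 1], [2, 1, 3, 2, 4, 3, 5, 4], 2),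
  ([6, 5, 2, 3, 1, 2, 1], [2, 1, 3, 2, 4, 3, 5, 4], 2),
  ([6, 5, 4, 2, 3, 1, 2, 1], [0, 2, 3, 4, 5, 6, 2, 1, 3, 2, 4, 3, 6, 2, 1, 0], 2)]

theorem cert_all : (cert.all fun p => ck p.1 p.2.1 p.2.2) = true := by decide +kernel

theorem cert_mem : (Cfsg.Agent.H612.Ore.rws.all fun w => w.isEmpty || NF.contains w || (cert.map Prod.fst).contains w) = true := by
  decide +kernel

/-- **[FIX]** -/
theorem fix_pt {w : List ℕ} (hw : w ∈ Cfsg.Agent.H612.Ore.rws) (h1 : w ≠ []) (h2 : w ∉ NF) {q : LL} (hq : q ∈ RG Cfsg.Agent.FourTwo.Facts2.qsP) :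
    ∃ y : LL, y * (wd (w.flatMap tw) * q) * y⁻¹ ∈ Pl ∧ y * (wd (w.flatMap tw) * q) * y⁻¹ ∉ RG ql := by
  have h3 := (List.all_eq_true.1 cert_mem) w hw
  rw [Bool.or_eq_true, Bool.or_eq_true] at h3
  rcases h3 with (h3 | h3) | h3
  · exact absurd (List.isEmpty_iff.1 h3) h1
  · exact absurd (List.contains_iff_mem.1 h3) h2
  · rw [List.contains_iff_mem, List.mem_map] at h3
    obtain ⟨p, hp, rfl⟩ := h3
    exact of_ck ((List.all_eq_true.1 cert_all) p hp) hq

end Cfsg.Agent.H824.Fs.FixPt
end

-- part: H824/TC6/Fix23
section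
/-!
# S2464, `F₄(2)`: `fix23` in the form of helper335 (helper824)
-/

set_option autoImplicit false

namespace Cfsg.Agent.H824.TC6

open Cfsg.Agent.FourTwo.Par Cfsg.Agent.FourTwo.Cent Cfsg.Agent.FourTwo.Base

/-- the words whose Levi part fixes a vector (`tw` of helper903 and of helper335 agree definitionally) -/
theorem fix23 {w : List ℕ} (hw : w ∈ Cfsg.Agent.H612.Ore.rws) (h0 : w ≠ []) (hn : w ∉ Cfsg.Agent.H335.TC6.NF) {q : LL}
    (hq : q ∈ RG Cfsg.Agent.FourTwo.Facts2.qsP) :
    ∃ y : LL, y * (wd (w.flatMap Cfsg.Agent.H903.Pw.Rho.tw) * q) * y⁻¹ ∈ Pl ∧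
      y * (wd (w.flatMap Cfsg.Agent.H903.Pw.Rho.tw) * q) * y⁻¹ ∉ RG Cfsg.Agent.H434.FF.ql :=
  Cfsg.Agent.H824.Fs.FixPt.fix_pt hw h0 hn hq

end Cfsg.Agent.H824.TC6
end

-- part: H555/TC6/Cov6
section
/-!
# S2464, `F₄(2)`: the cosets of the six words without fixed vector (helper555)

* `layer` : one layer `Q / Z` of the radical;
* **`cov6`** : the coset of `Q` of each of the six words is covered by the conjugates of the complement words.
-/

set_option autoImplicit false
set_option maxRecDepth 100000

namespace Cfsg.Agent.H555.TC6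

open scoped commutatorElement
open Cfsg.Agent.ChevalleyStructure.Tits.Pack Cfsg.Agent.H335.FT
open Cfsg.Agent.FourTwo.Par (RG)
open Cfsg.Agent.FourTwo.Base (LL)

/-! ### one layer -/

/-- equality modulo `Z` -/
def R (Q Z : Subgroup GF) (a b : GF) : Prop := a ∈ Q ∧ b ∈ Q ∧ ∃ z ∈ Z, a = b * z

section

variable {Q Z : Subgroup GF} (h : QZ Q Z)

include h

theorem comz {z x : GF} (hz : z ∈ Z) (hx : x ∈ Q) : x * z = z * x := by
  have h1 := h.cent z hz x hx
  calc x * z = (x * z * x⁻¹) * x := by group
    _ = z * x := by rw [h1]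

theorem R.refl {a : GF} (ha : a ∈ Q) : R Q Z a a := ⟨ha, ha, 1, one_mem _, (mul_one a).symm⟩

theorem R.symm {a b : GF} (hr : R Q Z a b) : R Q Z b a := by
  obtain ⟨h1, h2, z, hz, e⟩ := hr
  exact ⟨h2, h1, z⁻¹, inv_mem hz, by rw [e]; group⟩

theorem R.trans {a b c : GF} (h1 : R Q Z a b) (h2 : R Q Z b c) : R Q Z a c := by
  obtain ⟨a1, -, z, hz, e⟩ := h1
  obtain ⟨-, b2, z', hz', e'⟩ := h2
  exact ⟨a1, b2, z' * z, mul_mem hz' hz, by rw [e, e', mul_assoc]⟩

theorem R.mul {a b a' b' : GF} (h1 : R Q Z a b) (h2 : R Q Z a' b') : R Q Z (a * a') (b * b') := by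
  obtain ⟨a1, b1, z, hz, e⟩ := h1
  obtain ⟨a2, b2, z', hz', e'⟩ := h2
  refine ⟨mul_mem a1 a2, mul_mem b1 b2, z * z', mul_mem hz hz', ?_⟩
  rw [e, e']
  calc b * z * (b' * z') = b * (z * b') * z' := by group
    _ = b * (b' * z) * z' := by rw [comz h hz b2]
    _ = b * b' * (z * z') := by group

theorem R.comm {a b : GF} (ha : a ∈ Q) (hb : b ∈ Q) : R Q Z (a * b) (b * a) := by
  refine ⟨mul_mem ha hb, mul_mem hb ha, ⁅a, b⁆, h.comm a ha b hb, ?_⟩
  rw [comz h (h.comm a ha b hb) (mul_mem hb ha), commutatorElement_def]
  group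

theorem R.of_z {a z : GF} (ha : a ∈ Q) (hz : z ∈ Z) : R Q Z (a * z) a := ⟨mul_mem ha (h.le hz), ha, z, hz, rfl⟩

theorem wd_mem {cl : List ℕ} (hcl : ∀ r ∈ cl, gx r ∈ Q) {c : List ℕ} (hc : ∀ r ∈ c, r ∈ cl) : wd c ∈ Q := by
  induction c with
  | nil => rw [wd_nil]; exact one_mem _
  | cons r c ih =>
    rw [wd_cons]
    exact mul_mem (hcl r (hc r List.mem_cons_self)) (ih fun s hs => hc s (List.mem_cons_of_mem _ hs))

/-- a letter times a word of the complement -/
theorem toggle {cl : List ℕ} (hcl : ∀ r ∈ cl, gx r ∈ Q) {r : ℕ} (hr : r ∈ cl) {c : List ℕ} (hc : c.Sublist cl) :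
    ∃ c' : List ℕ, c'.Sublist cl ∧ R Q Z (gx r * wd c) (wd c') := by
  induction cl generalizing c with
  | nil => exact absurd hr List.not_mem_nil
  | cons s cl ih =>
    have hcl' : ∀ r ∈ cl, gx r ∈ Q := fun r hr => hcl r (List.mem_cons_of_mem _ hr)
    have hs : gx s ∈ Q := hcl s List.mem_cons_self
    cases hc with
    | cons _ hc =>
      rcases List.mem_cons.1 hr with rfl | hr
      · refine ⟨r :: c, hc.cons_cons r, ?_⟩
        rw [wd_cons]
        exact R.refl h (mul_mem hs (wd_mem h hcl' fun r hr => hc.subset hr))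
      · obtain ⟨c', h1, h2⟩ := ih hcl' hr hc
        exact ⟨c', h1.cons s, h2⟩
    | @cons_cons c _ _ hc =>
      have hcQ : wd c ∈ Q := wd_mem h hcl' fun r hr => hc.subset hr
      rcases List.mem_cons.1 hr with rfl | hr
      · refine ⟨c, hc.cons r, ?_⟩
        rw [wd_cons, ← mul_assoc, gx_mul_self, one_mul]
        exact R.refl h hcQ
      · obtain ⟨c', h1, h2⟩ := ih hcl' hr hc
        refine ⟨s :: c', h1.cons_cons s, ?_⟩
        have hrQ := hcl' r hr
        have k1 : R Q Z (gx r * gx s * wd c) (gx s * gx r * wd c) := (R.comm h hrQ hs).mul h (R.refl h hcQ)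
        have k2 : R Q Z (gx s * (gx r * wd c)) (gx s * wd c') := (R.refl h hs).mul h h2
        rw [wd_cons, wd_cons, ← mul_assoc]
        rw [← mul_assoc] at k2
        exact k1.trans h k2

theorem toggles {cl : List ℕ} (hcl : ∀ r ∈ cl, gx r ∈ Q) {c0 : List ℕ} (hc0 : ∀ r ∈ c0, r ∈ cl) {c : List ℕ}
    (hc : c.Sublist cl) : ∃ c' : List ℕ, c'.Sublist cl ∧ R Q Z (wd c0 * wd c) (wd c') := by
  induction c0 with
  | nil =>
    refine ⟨c, hc, ?_⟩
    rw [wd_nil, one_mul]
    exact R.refl h (wd_mem h hcl fun r hr => hc.subset hr)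
  | cons r c0 ih =>
    obtain ⟨c1, h1, h2⟩ := ih fun s hs => hc0 s (List.mem_cons_of_mem _ hs)
    obtain ⟨c2, h3, h4⟩ := toggle h hcl (hc0 r List.mem_cons_self) h1
    refine ⟨c2, h3, ?_⟩
    rw [wd_cons, mul_assoc]
    exact ((R.refl h (hcl r (hc0 r List.mem_cons_self))).mul h h2).trans h h4

/-- **One layer.** -/
theorem layer {u : GF} (hu : Nz Q Z u) {Ql cl : List ℕ} (hQ : Cl Ql = Q) (hcl : ∀ r ∈ cl, gx r ∈ Q)
    (hc : ∀ r ∈ Ql, gx r ∈ Z ∨ ∃ p ∈ Q, ∃ c : List ℕ, (∀ s ∈ c, s ∈ cl) ∧ ∃ z ∈ Z,
      u⁻¹ * p * u * p⁻¹ = gx r * wd c * z) {q : GF} (hq : q ∈ Q) :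
    ∃ y ∈ Q, ∃ c : List ℕ, c.Sublist cl ∧ ∃ z ∈ Z, y * (u * q) * y⁻¹ = u * wd c * z := by
  have hin : ∀ y ∈ Q, u⁻¹ * y * u * y⁻¹ ∈ Q := fun y hy => mul_mem (hu.q' y hy) (inv_mem hy)
  have key : ∀ q ∈ Q, ∃ y ∈ Q, ∃ c : List ℕ, c.Sublist cl ∧ R Q Z (u⁻¹ * y * u * y⁻¹ * q) (wd c) := by
    have step : ∀ r ∈ Ql, ∀ q ∈ Q, (∃ y ∈ Q, ∃ c : List ℕ, c.Sublist cl ∧ R Q Z (u⁻¹ * y * u * y⁻¹ * q) (wd c)) →
        ∃ y ∈ Q, ∃ c : List ℕ, c.Sublist cl ∧ R Q Z (u⁻¹ * y * u * y⁻¹ * (gx r * q)) (wd c) := by
      rintro r hr q hq ⟨y, hy, c, h1, h2⟩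
      have hrQ : gx r ∈ Q := by rw [← hQ]; exact gx_mem_Cl hr
      rcases hc r hr with h3 | ⟨p, hp, c0, h3, z, hz, e⟩
      · refine ⟨y, hy, c, h1, ?_⟩
        have k1 : R Q Z (gx r * q) q := by
          rw [← comz h h3 hq]
          exact R.of_z h hq h3
        exact ((R.refl h (hin y hy)).mul h k1).trans h h2
      · have hc0 : wd c0 ∈ Q := wd_mem h hcl h3
        obtain ⟨c', h4, h5⟩ := toggles h hcl h3 h1
        refine ⟨p * y, mul_mem hp hy, c', h4, ?_⟩
        -- the commutator of a product
        have e1 : u⁻¹ * (p * y) * u * (p * y)⁻¹ = (u⁻¹ * p * u * p⁻¹) * (p * (u⁻¹ * y * u * y⁻¹) * p⁻¹) := by group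
        have k1 : R Q Z (p * (u⁻¹ * y * u * y⁻¹) * p⁻¹) (u⁻¹ * y * u * y⁻¹) := by
          have := (R.comm h hp (hin y hy)).mul h (R.refl h (inv_mem hp))
          rwa [mul_assoc (u⁻¹ * y * u * y⁻¹) p p⁻¹, mul_inv_cancel, mul_one] at this
        have k2 : R Q Z (u⁻¹ * p * u * p⁻¹) (gx r * wd c0) := by
          rw [e]
          exact R.of_z h (mul_mem hrQ hc0) hz
        have k3 : R Q Z (u⁻¹ * (p * y) * u * (p * y)⁻¹ * (gx r * q))
            (gx r * wd c0 * (u⁻¹ * y * u * y⁻¹) * (gx r * q)) := by
          rw [e1]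
          exact (k2.mul h k1).mul h (R.refl h (mul_mem hrQ hq))
        have k4 : R Q Z (gx r * wd c0 * (u⁻¹ * y * u * y⁻¹) * (gx r * q))
            (wd c0 * (u⁻¹ * y * u * y⁻¹) * gx r * (gx r * q)) := by
          rw [mul_assoc (gx r) (wd c0)]
          exact (R.comm h hrQ (mul_mem hc0 (hin y hy))).mul h (R.refl h (mul_mem hrQ hq))
        have e2 : wd c0 * (u⁻¹ * y * u * y⁻¹) * gx r * (gx r * q) = wd c0 * (u⁻¹ * y * u * y⁻¹ * q) := by
          rw [show wd c0 * (u⁻¹ * y * u * y⁻¹) * gx r * (gx r * q) =
            wd c0 * (u⁻¹ * y * u * y⁻¹) * (gx r * gx r) * q by simp only [mul_assoc], gx_mul_self]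
          simp only [mul_assoc, one_mul]
        rw [e2] at k4
        exact (k3.trans h k4).trans h (((R.refl h hc0).mul h h2).trans h h5)
    intro q hq
    rw [← hQ] at hq
    have hind : ∀ q ∈ Cl Ql, q ∈ Q ∧ ∃ y ∈ Q, ∃ c : List ℕ, c.Sublist cl ∧
        R Q Z (u⁻¹ * y * u * y⁻¹ * q) (wd c) := by
      intro q hq
      unfold Cl at hq
      induction hq using Subgroup.closure_induction_left with
      | one =>
        refine ⟨one_mem _, 1, one_mem _, [], List.nil_sublist _, ?_⟩
        have e : u⁻¹ * 1 * u * 1⁻¹ * 1 = 1 := by group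
        rw [e, wd_nil]
        exact R.refl h (one_mem _)
      | mul_left x hx y hy ih =>
        obtain ⟨r, hr, rfl⟩ := hx
        have hrQ : gx r ∈ Q := by rw [← hQ]; exact gx_mem_Cl hr
        exact ⟨mul_mem hrQ ih.1, step r hr y ih.1 ih.2⟩
      | inv_mul_cancel x hx y hy ih =>
        obtain ⟨r, hr, rfl⟩ := hx
        have hrQ : gx r ∈ Q := by rw [← hQ]; exact gx_mem_Cl hr
        rw [gx_inv]
        exact ⟨mul_mem hrQ ih.1, step r hr y ih.1 ih.2⟩
    exact (hind q hq).2
  obtain ⟨y, hy, c, h1, h2⟩ := key q hq
  refine ⟨y, hy, c, h1, ?_⟩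
  have k1 : R Q Z (u⁻¹ * y * u * y⁻¹ * (y * q * y⁻¹)) (u⁻¹ * y * u * y⁻¹ * q) := by
    refine (R.refl h (hin y hy)).mul h ?_
    have := (R.comm h hy hq).mul h (R.refl h (inv_mem hy))
    rwa [mul_assoc q y y⁻¹, mul_inv_cancel, mul_one] at this
  obtain ⟨-, -, z, hz, e⟩ := k1.trans h h2
  refine ⟨z, hz, ?_⟩
  rw [mul_assoc u, ← e]
  group

/-- **Two layers.** -/
theorem two {u : GF} (hu : Nz Q Z u) {Ql Zl cv cz : List ℕ} (hQ : Cl Ql = Q) (hZ : Cl Zl = Z)
    (hcv : ∀ r ∈ cv, gx r ∈ Q) (hcz : ∀ r ∈ cz, gx r ∈ Z)
    (h1 : ∀ r ∈ Ql, gx r ∈ Z ∨ ∃ p ∈ Q, ∃ c : List ℕ, (∀ s ∈ c, s ∈ cv) ∧ ∃ z ∈ Z,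
      u⁻¹ * p * u * p⁻¹ = gx r * wd c * z)
    (h2 : ∀ r ∈ Zl, ∃ p ∈ Z, ∃ c : List ℕ, (∀ s ∈ c, s ∈ cz) ∧ u⁻¹ * p * u * p⁻¹ = gx r * wd c)
    {q : GF} (hq : q ∈ Q) :
    ∃ y ∈ Q, ∃ c : List ℕ, c.Sublist (cv ++ cz) ∧ y * (u * q) * y⁻¹ = u * wd c := by
  obtain ⟨y1, hy1, c1, hc1, z, hz, e1⟩ := layer h hu hQ hcv h1 hq
  have hc1Q : wd c1 ∈ Q := wd_mem h hcv fun r hr => hc1.subset hr
  have h' : QZ Z ⊥ := ⟨bot_le, fun z hz x _ => by rw [Subgroup.mem_bot.1 hz]; group, fun x hx y hy => by
    rw [Subgroup.mem_bot, commutatorElement_def, comz h hy (h.le hx)]; group⟩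
  have hu' : Nz Z ⊥ (u * wd c1) := by
    refine ⟨fun x hx => ?_, fun x hx => ?_, fun x hx => ?_, fun x hx => ?_⟩
    · have e : u * wd c1 * x * (u * wd c1)⁻¹ = u * (wd c1 * x * (wd c1)⁻¹) * u⁻¹ := by group
      rw [e, h.cent x hx _ hc1Q]
      exact hu.z x hx
    · have e : (u * wd c1)⁻¹ * x * (u * wd c1) = (wd c1)⁻¹ * (u⁻¹ * x * u) * (wd c1)⁻¹⁻¹ := by group
      rw [e, h.cent _ (hu.z' x hx) _ (inv_mem hc1Q)]
      exact hu.z' x hx
    · rw [Subgroup.mem_bot.1 hx, Subgroup.mem_bot]; group
    · rw [Subgroup.mem_bot.1 hx, Subgroup.mem_bot]; group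
  obtain ⟨y2, hy2, c2, hc2, z2, hz2, e2⟩ := layer h' hu' hZ hcz (fun r hr => by
    right
    obtain ⟨p, hp, c, h3, h4⟩ := h2 r hr
    refine ⟨p, hp, c, h3, 1, one_mem _, ?_⟩
    rw [mul_one, ← h4]
    have e : (u * wd c1)⁻¹ * p * (u * wd c1) = (wd c1)⁻¹ * (u⁻¹ * p * u) * (wd c1)⁻¹⁻¹ := by group
    rw [e, h.cent _ (hu.z' p hp) _ (inv_mem hc1Q)]) hz
  rw [Subgroup.mem_bot.1 hz2, mul_one] at e2
  refine ⟨y2 * y1, mul_mem (h.le hy2) hy1, c1 ++ c2, hc1.append hc2, ?_⟩
  calc y2 * y1 * (u * q) * (y2 * y1)⁻¹ = y2 * (y1 * (u * q) * y1⁻¹) * y2⁻¹ := by group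
    _ = u * wd c1 * wd c2 := by rw [e1, e2]
    _ = u * wd (c1 ++ c2) := by rw [wd_append, mul_assoc]

end

/-! ### the check -/

/-- the certificate of a word -/
structure CD where
  U : ℕ
  Ui : ℕ
  cv : List ℕ
  cz : List ℕ
  vc : List (ℕ × List ℕ × List ℕ × List ℕ)
  zc : List (ℕ × List ℕ × List ℕ)

/-- the identity `u⁻¹ p u p⁻¹ = l` -/
def chkJ (D : CD) (l p : List ℕ) : Bool :=
  Nat.beq (evOn l oneP) (mulP D.Ui (evOn p (mulP D.U (evOn p.reverse oneP))))

def chkW (u : List ℕ) (D : CD) : Bool :=
  (su u CertB.Nl && (su D.cv CertB.Ql && su D.cz CertB.Zl)) &&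
  ((Nat.beq (evOn u oneP) D.U && Nat.beq (evOn u.reverse oneP) D.Ui) &&
  ((CertB.Ql.all fun r => me r CertB.Zl || D.vc.any fun e => Nat.beq e.1 r && (su e.2.1 CertB.Ql &&
    (su e.2.2.1 D.cv && (su e.2.2.2 CertB.Zl && chkJ D (r :: (e.2.2.1 ++ e.2.2.2)) e.2.1)))) &&
  CertB.Zl.all fun r => D.zc.any fun e => Nat.beq e.1 r && (su e.2.1 CertB.Zl &&
    (su e.2.2 D.cz && chkJ D (r :: e.2.2) e.2.1))))

theorem id_of {u l p : List ℕ} {D : CD} (hU : Nat.beq (evOn u oneP) D.U = true)
    (hUi : Nat.beq (evOn u.reverse oneP) D.Ui = true) (h : chkJ D l p = true) :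
    (wd u)⁻¹ * wd p * wd u * (wd p)⁻¹ = wd l := by
  have r1 : Rp D.U (wd u) := by rw [← Nat.eq_of_beq_eq_true hU]; exact Rp.word _
  have r2 : Rp D.Ui (wd u)⁻¹ := by rw [← Nat.eq_of_beq_eq_true hUi, ← wd_reverse]; exact Rp.word _
  have h1 := Rp.word l
  rw [Nat.eq_of_beq_eq_true h] at h1
  have h2 := r2.mul ((r1.mul (Rp.word p.reverse)).evOn p)
  rw [h1.inj h2, wd_reverse]
  group

/-- **The soundness of the check.** -/
theorem sound {u : List ℕ} {D : CD} (h : chkW u D = true) {q : GF} (hq : q ∈ Cl CertB.Ql) :
    ∃ y ∈ Cl CertB.Ql, ∃ c : List ℕ, c.Sublist (D.cv ++ D.cz) ∧ y * (wd u * q) * y⁻¹ = wd u * wd c := by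
  unfold chkW at h
  rw [Bool.and_eq_true, Bool.and_eq_true, Bool.and_eq_true, Bool.and_eq_true, Bool.and_eq_true,
    Bool.and_eq_true] at h
  obtain ⟨⟨h1, h2, h3⟩, ⟨h4, h5⟩, h6, h7⟩ := h
  have hqz := qz CertB.h1 CertB.h2 CertB.h3
  rw [List.all_eq_true] at h6 h7
  refine two hqz (nz_wd (fun a ha => nz CertB.h4 CertB.h1 ha) (sub_of_su h1)) rfl rfl
    (fun r hr => gx_mem_Cl (sub_of_su h2 r hr)) (fun r hr => gx_mem_Cl (sub_of_su h3 r hr)) ?_ ?_ hq
  · intro r hr
    have k := h6 r hr
    rw [Bool.or_eq_true] at k
    rcases k with k | k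
    · left
      exact gx_mem_Cl (mem_of_me k)
    · right
      rw [List.any_eq_true] at k
      obtain ⟨e, -, k⟩ := k
      simp only [Bool.and_eq_true] at k
      obtain ⟨-, k1, k2, k3, k4⟩ := k
      refine ⟨wd e.2.1, wd_mem_Cl (sub_of_su k1), e.2.2.1, sub_of_su k2, wd e.2.2.2, wd_mem_Cl (sub_of_su k3), ?_⟩
      rw [id_of h4 h5 k4, wd_cons, wd_append, mul_assoc]
  · intro r hr
    have k := h7 r hr
    rw [List.any_eq_true] at k
    obtain ⟨e, -, k⟩ := k
    simp only [Bool.and_eq_true] at k
    obtain ⟨-, k1, k2, k3⟩ := k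
    refine ⟨wd e.2.1, wd_mem_Cl (sub_of_su k1), e.2.2, sub_of_su k2, ?_⟩
    rw [id_of h4 h5 k3, wd_cons]

/-! ### the certificates -/

def C0 : CD where
  U := 0x20000000000026000000000004800000000000100000000000020000000000007400000000000f40000000000000220000000000004000000000002a000000000013a000000000002400000000000640000000000190000000000014000000000000000020800000000008100000000040830000600000004000000000080c00000000010100000000000020000000000006000000000000a4800000000c9ac800080000521200006000156120000600000800000000000180800002000038080000200004840000000000c840000000001a1000000000000000088000000000001000000000000a800000000004e80000000000090000000000019000000000006400000000000500000000000000010000000000013000000000002400000000000080000000000010000000000003a000000000007a00000480800008000008ac8000400000000000020000080800003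
  Ui := 0x600000000000d40000000000008000000000001000000000000f400000000000c8000000000008000000000000001a000000000006400000000000180000000000090000000000007a0000000000140000000000008000000000001900000000000000018c80008000000030000000000612000000000000c0000000003008000020000001000000000001ec800080000c8400000000000183000080001210000000000006000000000000400000000000380800002000030100000000002000000000000f712000060001a1000000000010400000000000000006800000000001900000000000060000000000024000000000001e800000000005000000000000200000000000064000000000000003000000000006a00000000000040000000000008000000000007a0000000000064000000000004000000361200008000031000000400000000000020000300000003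
  cv := [33, 36]
  cz := [41]
  vc := [
    (33, [], [33], []), (34, [33, 34, 35, 38], [33], [43, 44, 47]), (35, [34, 36, 39], [33], [41, 42, 43, 44]),
    (36, [], [36], []), (37, [36, 38], [33, 36], [41, 42, 45]), (38, [35, 40], [33, 36], [43, 44]),
    (39, [33, 35, 38], [33], [43, 44, 47]), (40, [35, 38], [36], [43, 44])]
  zc := [
    (41, [], [41]), (42, [41, 47], []), (43, [42, 43, 45, 46, 47], [41]), (44, [46, 47], [41]),
    (45, [42, 43, 46, 47], [41]), (46, [43, 45, 46], []), (47, [41], [41])]

def C1 : CD where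
  U := 0x2000000000006e000000000004800000000000100000000000038000000000003c00000000000bc000000000000022000000000002e000000000002a000000000013a000000000000600000000001d600000000001900000000000050000000000000000a1800000000008100000000040830000600000004000000000181c000000000101000000000000250000000005a7f0000200000025800000001df3d80008000052120000600015612000060000081000002000008180000200002818000020000004a000000000a44a000000000a500000000000000008800000000000b800000000000a800000000004e8000000000001800000000007580000000000640000000000014000000000000001000000000003700000000000240000000000008000000000001c000000000001e000000000005e000005a18000080000082d8000400000000000020000080800003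
  Ui := 0x600000000000d400000000000ec000000000001000000000000f4000000000000c000000000008000000000000007e0000000000064000000000001c00000000001d0000000000001e000000000014000000000000c000000000000d00000000000000018c80008000001e3800080000fe5a000020000000c0000000003008000020000381800000000001ec800080000c8400000000000003800000001210000000000007400000400018500000000000380800002000000180000000002000000000000075a000040001a100000000000050000000000000001f8000000000019000000000000700000000000740000000000007800000000005000000000000300000000000034000000000000003000000000006a00000000000760000000000008000000000007a0000000000006000000000004000000061a0000a000039000000400000000000020000380000003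
  cv := [33, 34]
  cz := [41]
  vc := [
    (33, [], [33], []), (34, [], [34], []), (35, [36], [33, 34], [41, 42, 43]), (36, [33, 34], [33, 34], []),
    (37, [34, 39], [], [44, 45, 47]), (38, [33, 34, 36, 38], [34], []), (39, [33, 36, 38], [], [47]),
    (40, [33, 34, 35, 38], [33], [41, 42, 43, 44])]
  zc := [
    (41, [], [41]), (42, [41, 47], []), (43, [42], []), (44, [46, 47], [41]), (45, [43, 45, 46, 47], [41]),
    (46, [42, 45, 47], [41]), (47, [41], [41])]

def C2 : CD where
  U := 0x20000000000006000000000003800000000000100000000000020000000000005400000000000d40000000000000060000000000004000000000002e000000000007e0000000000024000000000006400000000001d00000000000140000000000000000008000000000025000000000006f0000000000004000000000000c0000000000810000020000002000000000000600000000000084800000000018c8000800005a5a000020000fe5a0000200000800000000000100800002000030080000200004840000000000c84000000000121000000000000000018000000000001000000000000b800000000001f80000000000090000000000019000000000007400000000000500000000000000010000000000003000000000001c00000000000080000000000010000000000002a000000000006a000000008000080000088c8000400000000000020000080800003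
  Ui := 0x600000000000d400000000000080000000000010000000000003800000000000c0000000000008000000000000001a000000000007e00000000000180000000000090000000000007800000000001d0000000000008000000000001800000000000000018c80008000000030000000000612000000000000c00000000030080000200000010000000000006f000000000fe5a0000200000180000080001210000000000006000000000000400000000000081000002000030000000000002000000000000f600000000000a4000000000010000000000000000006800000000001f80000000000060000000000024000000000001e000000000007400000000000200000000000060000000000000003000000000006a00000000000040000000000008000000000001c0000000000060000000000004000000300000008000031100000400000000000020000301000003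
  cv := []
  cz := [41]
  vc := [
    (33, [33, 35, 38], [], [43, 44]), (34, [34, 36, 37, 38], [], [44, 45]),
    (35, [34, 35, 37, 39, 40], [], [44, 45]), (36, [33, 34, 35, 36, 38, 39], [], [43]),
    (37, [33, 34, 35, 39], [], [43, 45]), (38, [33, 36, 37, 40], [], [45]), (39, [36, 37, 38], [], [44, 45]),
    (40, [35, 36, 37], [], [43, 45])]
  zc := [
    (41, [], [41]), (42, [41, 47], []), (43, [43, 45, 46, 47], [41]), (44, [46, 47], [41]),
    (45, [43, 46, 47], [41]), (46, [42, 47], [41]), (47, [41], [41])]

def C3 : CD where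
  U := 0x20000000000076000000000004800000000000100000000000020000000000002400000000000a400000000000002a0000000000024000000000002200000000001b20000000000004000000000014400000000001100000000000040000000000000000a4800000000008100000000052930000600000004000000000180c0000200001010000000000002000000000048600000000000020800000001e9288000a00004002000060001440200006000008000000000000808000000000280800000000000400000000008040000000000810000000000000000a80000000000090000000000008800000000006c8000000000001000000000005100000000000440000000000010000000000000001000000000003b000000000002400000000000080000000000010000000000001200000000000520000048080000a000008288000600000000000020000080800001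
  Ui := 0x600000000000d40000000000008000000000001000000000000f4000000000000c000000000008000000000000001a000000000006400000000000020000000000090000000000001e0000000000140000000000001000000000000d00000000000000018c80008000000030000000000612000000000000c0000000003008000020000001000000000001ec800080000c8400000000000003800000001210000000000000020000000000400000000000380800002000000180000000002000000000000075a000040001a10000000000005000000000000000068000000000019000000000000080000000000240000000000007800000000005000000000000040000000000034000000000000003000000000006a00000000000040000000000008000000000007a0000000000006000000000004000000061a0000a000001080000600000000000020000000800001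
  cv := []
  cz := [41]
  vc := [
    (33, [34, 37, 38, 39], [], [44, 45]), (34, [34, 35, 38, 40], [], [43, 44]),
    (35, [35, 36, 37, 39, 40], [], [41, 42, 44, 45]), (36, [35, 38, 40], [], [43, 44]),
    (37, [33, 37, 38], [], [47]), (38, [34, 37, 39], [], [44, 45]), (39, [33, 35, 40], [], [43, 44, 47]),
    (40, [34, 36, 40], [], [41, 42])]
  zc := [
    (41, [], [41]), (42, [41, 47], []), (43, [42], []), (44, [46, 47], [41]), (45, [42, 45], []),
    (46, [43, 45, 46], []), (47, [41], [41])]

def C4 : CD where
  U := 0xbc00000000000c600000000000e00000000000010000000000003800000000000ea000000000000600000000000017c000000000018600000000000bc000000000006000000000001d60000000000078000000000001c000000000007e0000000000001f66f8000a00017f40000040000c1e00000800002818000020000300c0000000003800000000000a44a000000000f66f0000000017b77800080000018000008000006a00000c000001e000008000008100000200003814000000000000c000000000fe35000020000006f00000000001e380008000000005f0000000000061800000000002f00000000000180000000000075800000000001e0000000000007000000000001f80000000000005e000000000006300000000000700000000000008000000000001c0000000000075000000000000300000c60c00008000039638000400000000000020000380c00001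
  Ui := 0xd4000000000009600000000000620000000000010000000000007a000000000005c000000000005e00000000000012400000000001ae00000000001ca00000000001ea000000000015a0000000000172000000000002c0000000000026000000000000110848000a0001d8c48000a000198e48000a00003008000020000200c0000200001804000000001eede800080001bcfb800080001271200000000135930000800005ac58000400005a6580004000018140000200001018000020000101c00002000048cf800060000486a8000600000085800000000000049000000000006b8000000000072800000000007a8000000000056800000000005c800000000000b000000000000980000000000006a000000000004b00000000000310000000000008000000000003d000000000002e000000000002f0000012010000800012f928000400000000000020000080400001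
  cv := [33, 34]
  cz := [41]
  vc := [
    (33, [], [33], []), (34, [], [34], []), (35, [33, 34], [34], []), (36, [33, 35, 36], [34], [43, 44, 45, 46]),
    (37, [33], [34], [41]), (38, [37, 38], [], [41, 45, 46]), (39, [36, 37], [], [41, 45, 46]),
    (40, [34, 39], [33, 34], [41, 43, 45])]
  zc := [
    (41, [], [41]), (42, [41, 42], []), (43, [41, 47], []), (44, [41, 42, 45, 47], [41]),
    (45, [41, 42, 43, 47], [41]), (46, [45], [41]), (47, [46, 47], [41])]

def C5 : CD where
  U := 0x88000000000005400000000000aa000000000001000000000000800000000000040000000000003800000000000014a0000000000090000000000010800000000001fe000000000008000000000001d000000000001a800000000001800000000000001231200000000080010000e00016bd68000000002010000000000100800002000028140000000000400000000001210000000000102000000000005a5a0000200014280000000000ac350000200002000000000000100000000000008100000200010000000000000a400000000000520000000000000005280000000000240000000000042000000000007f80000000000200000000000074000000000006a0000000000060000000000000044000000000002a0000000000055000000000000800000000000400000000000020000000000001c00000b41000004000094000000800000000000020000301000003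
  Ui := 0x80000000000004000000000009a000000000001000000000000880000000000054000000000003a0000000000000120000000000010000000000009a00000000000540000000000090000000000005200000000001f400000000001da000000000000000020000000000411000000000010a800000000001000000000000080000000002014000020000040000000000001020000000000212000000000004a800000001339e800020000ac200000c00002010000000000100800002000008140000200012312000000000a4110000e00005ade80002000000000480000000000040000000000026800000000001500000000000240000000000014800000000007d00000000000768000000000000040000000000002000000000004d00000000000080000000000044000000000002a000000000001d00000001900004000020190000800000000000020000200800003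
  cv := [33, 35]
  cz := [42]
  vc := [
    (33, [], [33], []), (34, [33, 34, 35, 37], [33], []), (35, [], [35], []), (36, [36, 39], [], []),
    (37, [33, 34], [35], []), (38, [38, 39], [33, 35], [44]), (39, [36], [], []),
    (40, [33, 38], [33], [42, 44, 46])]
  zc := [
    (41, [41, 43, 45], []), (42, [], [42]), (43, [43, 47], []), (44, [42, 46], [42]),
    (45, [41, 42, 43, 46, 47], [42]), (46, [46], [42]), (47, [43], [])]

/-- the words with their certificates -/
def T : List (List ℕ × CD) := [
  ([5, 4, 3, 2, 1, 0], C0),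
  ([6, 4, 3, 2, 1, 0], C1),
  ([6, 5, 4, 2, 1, 0], C2),
  ([6, 5, 4, 3, 2, 1, 0], C3),
  ([4, 3, 2, 6, 1, 2, 3, 1, 2, 0, 1, 0], C4),
  ([6, 4, 2, 3, 1, 2, 6, 4, 5, 3, 4, 0, 1, 2, 3, 0, 1, 2, 0, 1, 0], C5)]

theorem T_chk : (T.all fun e => chkW (e.1.flatMap CertP.tw2) e.2) = true := by decide +kernel

theorem T_comp : (T.all fun e => Cfsg.Agent.H335.TC6.compL e.1 == e.2.cv ++ e.2.cz) = true := by decide +kernel

theorem NF_sub : (Cfsg.Agent.H335.TC6.NF.all fun w => (T.map Prod.fst).contains w) = true := by decide +kernel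

theorem comp_used : (Cfsg.Agent.H335.TC6.NF.all fun w => (Cfsg.Agent.H335.TC6.compL w).all fun r => used.contains r)
    = true := by decide +kernel

/-- **The six words without fixed vector.** -/
theorem cov6 {w : List ℕ} (hw : w ∈ Cfsg.Agent.H335.TC6.NF) {q : LL} (hq : q ∈ RG Cfsg.Agent.FourTwo.Facts2.qsP) :
    ∃ y : LL, ∃ c ∈ Cfsg.Agent.H335.TC6.comps w,
      y * (Cfsg.Agent.FourTwo.Base.wd (w.flatMap tw) * q) * y⁻¹ = Cfsg.Agent.FourTwo.Base.wd (w.flatMap tw ++ c) := by
  have h1 := (List.all_eq_true.1 NF_sub) w hw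
  rw [List.contains_iff_mem, List.mem_map] at h1
  obtain ⟨e, he, rfl⟩ := h1
  have h2 := (List.all_eq_true.1 T_chk) e he
  have h3 := (List.all_eq_true.1 T_comp) e he
  rw [beq_iff_eq] at h3
  obtain ⟨y, -, c, hc, e1⟩ := sound h2 (RG_le_Cl hq)
  rw [← h3] at hc
  refine ⟨y, c, ?_, ?_⟩
  · unfold Cfsg.Agent.H335.TC6.comps
    rw [List.mem_sublists]
    exact hc
  · have h4 := (List.all_eq_true.1 comp_used) e.1 hw
    rw [List.all_eq_true] at h4
    rw [Cfsg.Agent.FourTwo.Base.wd_append, ← wd_eq_base (w := c) fun r hr =>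
      List.contains_iff_mem.1 (h4 r (hc.subset hr)), flat_eq]
    exact e1

end Cfsg.Agent.H555.TC6
end

-- part: H335/TC6/FFour
section
/-!
# S2464: the row `F₄(2)` (helper335)

* `tc_LL` : every nontrivial element of `F₄(2)` is a product of two conjugates of one element of order 7;
* `t6_F4_two` : the row, over any field with two elements.
-/

set_option autoImplicit false

namespace Cfsg.Agent.H335.TC6

open Cfsg.Agent.FourTwo.Base (LL)
open Cfsg.Lie

universe u

theorem hfix : HFix := fun _ hw h0 hn _ hq => Cfsg.Agent.H824.TC6.fix23 hw h0 hn hq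

theorem hcov : HCov := fun _ hw _ hq => Cfsg.Agent.H555.TC6.cov6 hw hq

theorem orderOf_X0 : orderOf X0 = 7 := by
  have h1 : X0 = Cfsg.Agent.FourTwo.Base.wd x0 := Cfsg.Agent.H335.FT.wd_eq_base (by decide)
  rw [h1]
  exact Cfsg.Agent.H326.F4C.order_prime (by norm_num) (by decide +kernel) (by decide +kernel)

/-- **every nontrivial element of `F₄(2)` is a product of two conjugates of `X0`** -/
theorem tc_LL (g : LL) (hg : g ≠ 1) : ∃ u v : LL, g = (u * X0 * u⁻¹) * (v * X0 * v⁻¹) := (all7 hfix hcov hg).six

theorem row3_LL : Cfsg.Agent.H210.TC.Row3 LL :=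
  Cfsg.Agent.H210.TC.Row3.of_sq (x := X0) (by rw [orderOf_X0]; norm_num) (by rw [orderOf_X0]; norm_num) tc_LL

/-- **The row `F₄(2)`** of S2464 and S2452. -/
theorem row3_F4_two {K : Type u} [Field K] (hK : Nat.card K = 2) : Cfsg.Agent.H210.TC.Row3 ↥(chevF4.group K) := by
  have : Finite K := Nat.finite_of_card_ne_zero (by rw [hK]; norm_num)
  let _ : Fintype K := Fintype.ofFinite K
  have hc : Fintype.card K = 2 := by rw [← Nat.card_eq_fintype_card, hK]
  obtain ⟨e⟩ := Cfsg.Agent.FourTwo.Mult.exists_equiv K hc
  exact Cfsg.Agent.H210.TC.Row3.of_equiv (G := ↥(chevF4.group K)) (H := LL) e row3_LL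

end Cfsg.Agent.H335.TC6
end

private theorem dce_1f64de50a406 : _root_.True := by
  try have : _root_.True := by simp only [_root_.Cfsg.Agent.H335.TC6.CertA.ws.eq_1]
  try have : _root_.True := by simp only [_root_.Cfsg.Agent.H335.TC6.CertB.ws.eq_1]
  try have : _root_.True := by simp only [_root_.Cfsg.Agent.H335.TC6.CertD.ws.eq_1]
  try have : _root_.True := by simp only [_root_.Cfsg.Agent.H335.TC6.CertC.ws.eq_1]
  exact _root_.True.intro
end

-- part: H903/FFour/Val
section
prune_inst 0x300800000000000000000000000000010000000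
set_option linter.all false
open scoped Cfsg.Agent.FastGrp

/-!
# The constant values on an isolated abelian subgroup

`val_of_rel` : `T` abelian, `C(a) ≤ T` for all `1 ≠ a ∈ T`, `|N(T) : T| = e`, `r` prime, `r ∣ |T|`, `¬ r² ∣ |G|`,
`e t = r - 1`, `2 ≤ t`: an irreducible character with constant integral value `z` on `T#` has `z = 0` or `z = ± 1`.
-/

set_option autoImplicit false

open Cfsg Subgroup
open scoped ComplexConjugate

namespace Cfsg.Agent.H903.FFour

universe u

variable {G : Type u} [Group G] [Finite G]

/-- `N(T) = N(Q)` for the Sylow subgroup `Q` of prime order of `T` -/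
theorem normalizer_eq {T : Subgroup G} {r : ℕ} [hr : Fact r.Prime] {Q : Sylow r G} (hQ : Nat.card Q = r)
    (hCQ : centralizer ((Q : Subgroup G) : Set G) = T) :
    normalizer (T : Set G) = normalizer ((Q : Subgroup G) : Set G) := by
  have hle : (Q : Subgroup G) ≤ T := hCQ ▸ SmallSimple.ThetaSetup.le_centralizer hQ
  obtain ⟨x, hx, hx1⟩ := SmallSimple.ThetaSetup.exists_ne_one (P := (Q : Subgroup G)) hQ
  have hox : orderOf x = r := Blocks.CyclicOrtho.orderOf_eq Q hQ hx hx1
  apply le_antisymm
  · intro g hg
    have h1 : g * x * g⁻¹ ∈ T := (mem_normalizer_iff.1 hg x).1 (hle hx)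
    have h2 : orderOf (g * x * g⁻¹) = r := by
      have := orderOf_injective (MulAut.conj g).toMonoidHom (MulAut.conj g).injective x
      simpa [hox] using this
    have h3 : g * x * g⁻¹ ∈ (Q : Subgroup G) := by
      have h4 : zpowers (g * x * g⁻¹) ≤ normalizer ((Q : Subgroup G) : Set G) := by
        refine le_trans ?_ (centralizer_le_normalizer _)
        rw [hCQ]
        exact zpowers_le.2 h1
      have h5 : IsPGroup r (zpowers (g * x * g⁻¹) ⊔ (Q : Subgroup G) : Subgroup G) :=
        IsPGroup.to_sup_of_normal_right' (IsPGroup.of_card (n := 1) (by rw [Nat.card_zpowers, h2, pow_one])) Q.isPGroup' h4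
      have h6 := Q.is_maximal' h5 le_sup_right
      rw [← h6]
      exact mem_sup_left (mem_zpowers _)
    have h4 : g * x * g⁻¹ ≠ 1 := by
      intro h
      rw [h, orderOf_one] at h2
      exact hr.out.one_lt.ne h2
    exact SmallSimple.ThetaOrtho.mem_normalizer_of_conj (P := Q) hQ hx h3 h4 rfl
  · intro g hg
    rw [mem_normalizer_iff]
    have h1 : ∀ g ∈ normalizer ((Q : Subgroup G) : Set G), ∀ a ∈ T, g * a * g⁻¹ ∈ T := by
      intro g hg a ha
      rw [← hCQ] at ha ⊢
      rw [mem_centralizer_iff] at ha ⊢
      intro y hy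
      have h2 : g⁻¹ * y * g ∈ (Q : Subgroup G) := by
        have := (mem_normalizer_iff.1 (inv_mem hg) y).1 hy
        simpa using this
      have h3 := ha _ h2
      have h4 : y * (g * a * g⁻¹) = g * ((g⁻¹ * y * g) * a) * g⁻¹ := by group
      rw [h4, h3]
      group
    intro a
    refine ⟨h1 g hg a, fun ha => ?_⟩
    have h2 := h1 g⁻¹ (inv_mem hg) _ ha
    have h3 : g⁻¹ * (g * a * g⁻¹) * g⁻¹⁻¹ = a := by group
    rwa [h3] at h2

theorem exists_syl {T : Subgroup G} (hab : ∀ a ∈ T, ∀ b ∈ T, a * b = b * a)
    (hc : ∀ a ∈ T, a ≠ 1 → centralizer ({a} : Set G) ≤ T) {r : ℕ} [hr : Fact r.Prime] (hrT : r ∣ Nat.card T)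
    (hrG : ¬ r ^ 2 ∣ Nat.card G) :
    ∃ Q : Sylow r G, Nat.card Q = r ∧ centralizer ((Q : Subgroup G) : Set G) = T := by
  obtain ⟨x', hx'⟩ := exists_prime_orderOf_dvd_card' (G := ↥T) r hrT
  set x : G := (x' : G) with hxdef
  have hxT : x ∈ T := x'.2
  have hx : orderOf x = r := by rw [hxdef, orderOf_coe, hx']
  have hx1 : x ≠ 1 := by
    intro h
    rw [h, orderOf_one] at hx
    exact hr.out.one_lt.ne hx
  have hCx : centralizer ({x} : Set G) = T := by
    apply le_antisymm (hc x hxT hx1)
    intro y hy
    rw [mem_centralizer_singleton_iff]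
    exact hab y hy x hxT
  have hf : (Nat.card G).factorization r = 1 := by
    apply le_antisymm
    · by_contra h
      push Not at h
      exact hrG ((hr.out.pow_dvd_iff_le_factorization Nat.card_pos.ne').2 h)
    · exact (hr.out.dvd_iff_one_le_factorization Nat.card_pos.ne').1 (hrT.trans (Subgroup.card_subgroup_dvd_card T))
  have hcz : Nat.card (zpowers x) = r := by rw [Nat.card_zpowers, hx]
  refine ⟨Sylow.ofCard (zpowers x) (by rw [hcz, hf, pow_one]), hcz, ?_⟩
  show centralizer ((zpowers x : Subgroup G) : Set G) = T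
  rw [SmallSimple.SelfCentPrime.centralizer_zpowers, hCx]

theorem val_of_rel {T : Subgroup G} (hab : ∀ a ∈ T, ∀ b ∈ T, a * b = b * a)
    (hc : ∀ a ∈ T, a ≠ 1 → centralizer ({a} : Set G) ≤ T) {r : ℕ} (hr : r.Prime) (hrT : r ∣ Nat.card T)
    (hrG : ¬ r ^ 2 ∣ Nat.card G) {e t : ℕ} (hrel : T.relIndex (normalizer (T : Set G)) = e) (ht : e * t = r - 1)
    (ht2 : 2 ≤ t) (χ : IrrCharacter G) (z : ℤ) (hz : ∀ a ∈ T, a ≠ 1 → (χ : G → ℂ) a = z) : z = 0 ∨ z = 1 ∨ z = -1 := by
  have := Fact.mk hr
  obtain ⟨Q, hQ, hCQ⟩ := exists_syl hab hc hrT hrG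
  refine const_val (P := Q) hQ ?_ ht ht2 (by rw [hCQ]; exact hz)
  rw [hCQ, ← normalizer_eq hQ hCQ]
  exact hrel

end Cfsg.Agent.H903.FFour
end

-- part: H406/FE/Tori
section
prune_inst 0x4f42077457f0002004004001260007cb3ef000190002c800170860b460f8ffd2080002920eaa0090a00cca28410350068135400f0420000000a840000011901a0882a52061320ad1536000980000e410000300800000000000000000000041004010000000
set_option linter.all false
open scoped Cfsg.Agent.FastGrp

/-!
# The isolated tori of `F₄(q)`, `q` even

* `t12`, `t8` : for every even `q ≥ 4` (`T12`: `3 ∤ q` is automatic for `q = 2 ^ f`): a cyclic subgroup of order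
  `q⁴ - q² + 1` resp. `q⁴ + 1`, the centralizer of each of its elements `≠ 1`, `|N(T) : T| = 12` resp. `8`;
* `T12`, `T8` : `q = 4, 8, 16, 64`, in the form of `H903.FFour.T12`, with the constant values `0`, `± 1`.
-/

set_option autoImplicit false

open Cfsg Cfsg.Lie Subgroup

namespace Cfsg.Agent.H406.FE

open Cfsg.Agent.H641.TC6 Cfsg.Agent.H56.Exc
open Cfsg.Agent.H436 (Prim exists_prim)

universe u

variable {F : Type u} [Field F] [Fintype F] {q : ℕ}

theorem int_zero {r : ℕ} {x : ℤ} (h : (r : ℤ) ∣ x) : (x : ZMod r) = 0 :=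
  (ZMod.intCast_zmod_eq_zero_iff_dvd x r).2 h

/-- the primes of `q⁴ + 1`, `q` even -/
theorem prim8 {r : ℕ} (hr : r.Prime) (h2 : q % 2 = 0) (hq : 1 ≤ q) (h : r ∣ q ^ 4 + 1) : Prim q 8 r := by
  have := Fact.mk hr
  have hz : (q : ZMod r) ^ 4 + 1 = 0 := by
    rw [← ZMod.natCast_eq_zero_iff] at h
    push_cast at h
    exact h
  have hr2 : r ≠ 2 := by
    rintro rfl
    have h4 : (q : ZMod 2) = 0 := by
      rw [ZMod.natCast_eq_zero_iff]; exact Nat.dvd_of_mod_eq_zero h2
    rw [h4] at hz
    norm_num at hz
  have h2z : (2 : ZMod r) ≠ 0 := by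
    intro h5
    have h6 : r ∣ 2 := by rw [← ZMod.natCast_eq_zero_iff]; exact_mod_cast h5
    exact hr2 ((Nat.prime_dvd_prime_iff_eq hr Nat.prime_two).1 h6)
  refine H983.KG2.prim_of_order hr hq (by norm_num) ?_
  have := orderOf_eq_prime_pow (p := 2) (n := 2) (x := (q : ZMod r)) (by
    intro h4
    apply h2z
    linear_combination hz - h4) (by
    linear_combination ((q : ZMod r) ^ 4 - 1) * hz)
  simpa using this

theorem three_aux : ∀ y : ZMod 3, 1 - y ^ 2 + y ^ 4 = 0 → y ≠ 0 → False := by decide

/-- the primes of `q⁴ - q² + 1` -/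
theorem prim12 {r : ℕ} (hr : r.Prime) (h2 : q % 2 = 0) (h3 : ¬ 3 ∣ q) (hq : 1 ≤ q)
    (h : (r : ℤ) ∣ 1 - (q : ℤ) ^ 2 + (q : ℤ) ^ 4) : Prim q 12 r := by
  have hf : Fact r.Prime := ⟨hr⟩
  have hz : (1 : ZMod r) - (q : ZMod r) ^ 2 + (q : ZMod r) ^ 4 = 0 := by
    have := int_zero h
    push_cast at this
    exact this
  have hr2 : r ≠ 2 := by
    rintro rfl
    have h4 : (q : ZMod 2) = 0 := by
      rw [ZMod.natCast_eq_zero_iff]; exact Nat.dvd_of_mod_eq_zero h2
    rw [h4] at hz
    norm_num at hz
  have hr3 : r ≠ 3 := by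
    rintro rfl
    have h4 : (q : ZMod 3) ≠ 0 := by rwa [Ne, ZMod.natCast_eq_zero_iff]
    exact three_aux _ hz h4
  have h2z : (2 : ZMod r) ≠ 0 := by
    intro h5
    have h6 : r ∣ 2 := by rw [← ZMod.natCast_eq_zero_iff]; exact_mod_cast h5
    exact hr2 ((Nat.prime_dvd_prime_iff_eq hr Nat.prime_two).1 h6)
  have h3z : (3 : ZMod r) ≠ 0 := by
    intro h5
    have h6 : r ∣ 3 := by rw [← ZMod.natCast_eq_zero_iff]; exact_mod_cast h5
    exact hr3 ((Nat.prime_dvd_prime_iff_eq hr Nat.prime_three).1 h6)
  have h12 : (q : ZMod r) ^ 12 = 1 := by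
    linear_combination ((q : ZMod r) ^ 8 + (q : ZMod r) ^ 6 - (q : ZMod r) ^ 2 - 1) * hz
  have h6 : (q : ZMod r) ^ 6 ≠ 1 := by
    intro h6
    apply h2z
    linear_combination (-1 : ZMod r) * h6 + ((q : ZMod r) ^ 2 + 1) * hz
  have h4 : (q : ZMod r) ^ 4 ≠ 1 := by
    intro h4
    apply h3z
    have h5 : (q : ZMod r) ^ 2 = 2 := by linear_combination h4 - hz
    have h7 : (q : ZMod r) ^ 4 = 4 := by
      rw [show (4 : ℕ) = 2 * 2 from rfl, pow_mul, h5]; norm_num
    linear_combination h4 - h7
  refine H983.KG2.prim_of_order hr hq (by norm_num) ?_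
  refine orderOf_eq_of_pow_and_pow_div_prime (by norm_num) h12 fun p hp hpd => ?_
  have hp12 : p ≤ 12 := Nat.le_of_dvd (by norm_num) hpd
  have h0 := hp.two_le
  interval_cases p
  · exact h6
  · exact h4
  all_goals first | (exfalso; revert hpd; norm_num; done) | (exfalso; revert hp; norm_num)

/-- `TorD` with `n = m` -/
theorem of_torD {G : Type u} [Group G] [Finite G] {m w : ℕ} {A T : Subgroup G} (h : TorD G m m w A T) :
    IsCyclic ↥T ∧ (∀ a ∈ T, ∀ b ∈ T, a * b = b * a) ∧ Nat.card ↥T = m ∧
      (∀ a ∈ T, a ≠ 1 → centralizer ({a} : Set G) = T) ∧ T.relIndex (normalizer (T : Set G)) = w := by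
  have hAT : A = T := Subgroup.eq_of_le_of_card_ge h.le (by rw [h.cardA, h.cardT])
  refine ⟨h.cycT, fun a ha b hb => comm_of_cyc h.cycT ha hb, h.cardT, fun a ha ha1 => h.cent a (hAT ▸ ha) ha1, ?_⟩
  have h1 := h.cardN
  rw [h.normA] at h1
  have h2 : Nat.card ↥T * T.relIndex (normalizer (T : Set G)) = Nat.card ↥(normalizer (T : Set G)) := by
    rw [← Subgroup.relIndex_bot_left, ← Subgroup.relIndex_bot_left]
    exact Subgroup.relIndex_mul_relIndex _ _ _ bot_le le_normalizer
  rw [h.cardT, h1, mul_comm] at h2
  exact Nat.eq_of_mul_eq_mul_right (h.cardT ▸ Nat.card_pos) h2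

theorem t8 (hK : Fintype.card F = q) (h2 : q % 2 = 0) (h3 : 3 ≤ q) : ∃ T : Subgroup ↥(chevF4.group F),
    IsCyclic ↥T ∧ (∀ a ∈ T, ∀ b ∈ T, a * b = b * a) ∧ Nat.card ↥T = q ^ 4 + 1 ∧
      (∀ a ∈ T, a ≠ 1 → centralizer ({a} : Set ↥(chevF4.group F)) = T) ∧
      T.relIndex (normalizer (T : Set ↥(chevF4.group F))) = 8 := by
  have hm : ((q ^ 4 + 1 : ℕ) : ℤ) = 1 + (q : ℤ) ^ 4 := by push_cast; ring
  obtain ⟨r, hr⟩ := exists_prim (q := q) (e := 8) (by omega) (by norm_num) (by omega)
  have h8 : 8 < r := prim_lt hr (by norm_num)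
  have hrm : r ∣ q ^ 4 + 1 := by
    have := prim_dvd_8 hr
    rw [← hm] at this
    exact_mod_cast this
  obtain ⟨T, h1, h2', h3', h4, h5⟩ := H129.CycCard.card_F4_8 hK hm hr.prime (prim_dvd_8 hr) (by omega)
  have hT : Nat.card ↥T = q ^ 4 + 1 := Nat.dvd_antisymm h2' (by rwa [one_mul] at h3')
  obtain ⟨A, hA⟩ := exists_torD (G := ↥(chevF4.group F)) (w := 8) h1 hT dvd_rfl
    (fun s hs hsn => ⟨8, big_F4_8 hK hm (prim8 hs h2 (by omega) hsn)⟩) hr.prime hrm
    (K := (q : ℤ) ^ 24 * ((q : ℤ) ^ 2 - 1) * ((q : ℤ) ^ 6 - 1) * ((q : ℤ) ^ 4 - 1) * ((q : ℤ) ^ 12 - 1))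
    (by rw [ord_F4 hK, hm]; ring) (by push_cast; exact Kap.kap_F4_8 _ (prim_phi_8 hr)) h8
  exact ⟨T, of_torD hA⟩

theorem t12 (hK : Fintype.card F = q) (h2 : q % 2 = 0) (h3 : 3 ≤ q) (h3q : ¬ 3 ∣ q) :
    ∃ T : Subgroup ↥(chevF4.group F), IsCyclic ↥T ∧ (∀ a ∈ T, ∀ b ∈ T, a * b = b * a) ∧
      Nat.card ↥T = q ^ 4 - q ^ 2 + 1 ∧
      (∀ a ∈ T, a ≠ 1 → centralizer ({a} : Set ↥(chevF4.group F)) = T) ∧
      T.relIndex (normalizer (T : Set ↥(chevF4.group F))) = 12 := by
  have hm : ((q ^ 4 - q ^ 2 + 1 : ℕ) : ℤ) = 1 - (q : ℤ) ^ 2 + (q : ℤ) ^ 4 := by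
    have : q ^ 2 ≤ q ^ 4 := Nat.pow_le_pow_right (by omega) (by norm_num)
    push_cast [Nat.cast_sub this]; ring
  obtain ⟨r, hr⟩ := exists_prim (q := q) (e := 12) (by omega) (by norm_num) (by omega)
  have h12 : 12 < r := prim_lt hr (by norm_num)
  have hrm : r ∣ q ^ 4 - q ^ 2 + 1 := by
    have := prim_dvd_12 hr
    rw [← hm] at this
    exact_mod_cast this
  obtain ⟨T, h1, h2', h3', h4, h5⟩ := H129.CycCard.card_F4_12 hK hm hr.prime (prim_dvd_12 hr)
  have hT : Nat.card ↥T = q ^ 4 - q ^ 2 + 1 := Nat.dvd_antisymm h2' (by rwa [one_mul] at h3')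
  obtain ⟨A, hA⟩ := exists_torD (G := ↥(chevF4.group F)) (w := 12) h1 hT dvd_rfl
    (fun s hs hsn => ⟨12, big_F4_12 hK hm (prim12 hs h2 h3q (by omega)
      (by rw [← hm]; exact_mod_cast hsn))⟩) hr.prime hrm
    (K := (q : ℤ) ^ 24 * ((q : ℤ) ^ 2 - 1) * ((q : ℤ) ^ 6 - 1) * ((q : ℤ) ^ 8 - 1) * ((q : ℤ) ^ 6 - 1) *
      ((q : ℤ) ^ 2 + 1))
    (by rw [ord_F4 hK, hm]; ring) (by push_cast; exact Kap.kap_F4_12 _ (prim_phi_12 hr)) h12
  exact ⟨T, of_torD hA⟩

/-- `|F₄(q)|` -/
def N (q : ℕ) : ℕ := q ^ 24 * (q ^ 2 - 1) * (q ^ 6 - 1) * (q ^ 8 - 1) * (q ^ 12 - 1)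

theorem card_N (hK : Fintype.card F = q) : Nat.card ↥(chevF4.group F) = N q := S1062.result hK

theorem n4a : ¬ 241 ^ 2 ∣ N 4 := by decide +kernel
theorem n8a : ¬ 37 ^ 2 ∣ N 8 := by decide +kernel
theorem n16a : ¬ 673 ^ 2 ∣ N 16 := by decide +kernel
theorem n64a : ¬ 38737 ^ 2 ∣ N 64 := by decide +kernel
theorem n4b : ¬ 257 ^ 2 ∣ N 4 := by decide +kernel
theorem n8b : ¬ 241 ^ 2 ∣ N 8 := by decide +kernel
theorem n16b : ¬ 65537 ^ 2 ∣ N 16 := by decide +kernel
theorem n64b : ¬ 673 ^ 2 ∣ N 64 := by decide +kernel

/-- **The torus of order `q⁴ - q² + 1` of `F₄(q)`, `q = 4, 8, 16, 64`.** -/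
theorem T12 (hq : q = 4 ∨ q = 8 ∨ q = 16 ∨ q = 64) (hK : Fintype.card F = q) :
    ∃ T : Subgroup ↥(chevF4.group F), IsCyclic ↥T ∧ (∀ a ∈ T, ∀ b ∈ T, a * b = b * a) ∧
      Nat.card ↥T = q ^ 4 - q ^ 2 + 1 ∧ (∀ a ∈ T, a ≠ 1 → centralizer ({a} : Set ↥(chevF4.group F)) ≤ T) ∧
      T.relIndex (normalizer (T : Set ↥(chevF4.group F))) = 12 ∧
      ∀ (χ : IrrCharacter ↥(chevF4.group F)) (z : ℤ),
        (∀ a ∈ T, a ≠ 1 → (χ : ↥(chevF4.group F) → ℂ) a = z) → z = 0 ∨ z = 1 ∨ z = -1 := by
  obtain ⟨T, h1, h2, h3, h4, h5⟩ := t12 hK (by omega) (by omega) (by rcases hq with rfl | rfl | rfl | rfl <;> norm_num)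
  have h4' : ∀ a ∈ T, a ≠ 1 → centralizer ({a} : Set ↥(chevF4.group F)) ≤ T := fun a ha ha1 => (h4 a ha ha1).le
  refine ⟨T, h1, h2, h3, h4', h5, ?_⟩
  have hN := card_N hK
  rcases hq with rfl | rfl | rfl | rfl
  · exact fun χ z hz => H903.FFour.val_of_rel h2 h4' (r := 241) (by norm_num) (by rw [h3]; norm_num)
      (by rw [hN]; exact n4a) h5 (t := 20) (by norm_num) (by norm_num) χ z hz
  · exact fun χ z hz => H903.FFour.val_of_rel h2 h4' (r := 37) (by norm_num) (by rw [h3]; norm_num)
      (by rw [hN]; exact n8a) h5 (t := 3) (by norm_num) (by norm_num) χ z hz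
  · exact fun χ z hz => H903.FFour.val_of_rel h2 h4' (r := 673) (by norm_num) (by rw [h3]; norm_num)
      (by rw [hN]; exact n16a) h5 (t := 56) (by norm_num) (by norm_num) χ z hz
  · exact fun χ z hz => H903.FFour.val_of_rel h2 h4' (r := 38737) (by norm_num) (by rw [h3]; norm_num)
      (by rw [hN]; exact n64a) h5 (t := 3228) (by norm_num) (by norm_num) χ z hz

/-- **The torus of order `q⁴ + 1` of `F₄(q)`, `q = 4, 8, 16, 64`.** -/
theorem T8 (hq : q = 4 ∨ q = 8 ∨ q = 16 ∨ q = 64) (hK : Fintype.card F = q) :
    ∃ T : Subgroup ↥(chevF4.group F), IsCyclic ↥T ∧ (∀ a ∈ T, ∀ b ∈ T, a * b = b * a) ∧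
      Nat.card ↥T = q ^ 4 + 1 ∧ (∀ a ∈ T, a ≠ 1 → centralizer ({a} : Set ↥(chevF4.group F)) ≤ T) ∧
      T.relIndex (normalizer (T : Set ↥(chevF4.group F))) = 8 ∧
      ∀ (χ : IrrCharacter ↥(chevF4.group F)) (z : ℤ),
        (∀ a ∈ T, a ≠ 1 → (χ : ↥(chevF4.group F) → ℂ) a = z) → z = 0 ∨ z = 1 ∨ z = -1 := by
  obtain ⟨T, h1, h2, h3, h4, h5⟩ := t8 hK (by omega) (by omega)
  have h4' : ∀ a ∈ T, a ≠ 1 → centralizer ({a} : Set ↥(chevF4.group F)) ≤ T := fun a ha ha1 => (h4 a ha ha1).le
  refine ⟨T, h1, h2, h3, h4', h5, ?_⟩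
  have hN := card_N hK
  rcases hq with rfl | rfl | rfl | rfl
  · exact fun χ z hz => H903.FFour.val_of_rel h2 h4' (r := 257) (by norm_num) (by rw [h3]; norm_num)
      (by rw [hN]; exact n4b) h5 (t := 32) (by norm_num) (by norm_num) χ z hz
  · exact fun χ z hz => H903.FFour.val_of_rel h2 h4' (r := 241) (by norm_num) (by rw [h3]; norm_num)
      (by rw [hN]; exact n8b) h5 (t := 30) (by norm_num) (by norm_num) χ z hz
  · exact fun χ z hz => H903.FFour.val_of_rel h2 h4' (r := 65537) (by norm_num) (by rw [h3]; norm_num)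
      (by rw [hN]; exact n16b) h5 (t := 8192) (by norm_num) (by norm_num) χ z hz
  · exact fun χ z hz => H903.FFour.val_of_rel h2 h4' (r := 673) (by norm_num) (by rw [h3]; norm_num)
      (by rw [hN]; exact n64b) h5 (t := 84) (by norm_num) (by norm_num) χ z hz

end Cfsg.Agent.H406.FE
end

-- part: H357/T6/AsmTwo
section
prune_inst 0x4f43017407f0002004000001200007c32fe000190006f800070800f46020ff12080402f01ea800f181008aa0008050020025400d0400000000a00000000050120802a520613000104060009803807180c00300800000000000000000000041004000000000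
set_option linter.all false
open scoped Cfsg.Agent.FastGrp

/-!
# Two isolated tori (helper357)

`T`, `S` : commutative, containing the centralizers of their nonidentity elements, of coprime orders `n₁`, `n₂`, with
`|N(T) : T| = w`, `|N(S) : S| = v`.

* `exists_cd` : if `χ(x) χ(y) ≠ 0` for some `x ∈ T`, `y ∈ S`, `x, y ≠ 1`, then `χ` is constant on `T - 1` and on `S - 1`;
* `asm_two` : in a group of Lie type in characteristic `p`, from the list of the possible degrees and a bound for `|C(g)|`:
  `g ∈ x^G y^G` for all `g ≠ 1`.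
-/

set_option autoImplicit false
set_option linter.unusedSectionVars false

open Cfsg Subgroup
open scoped ComplexConjugate

namespace Cfsg.Agent.H357.T6.Asm

open Cfsg.Agent.Characters Cfsg.Agent.Characters.Core Cfsg.Agent.H65.Ore
open Cfsg.Agent.H653.Sieve

universe u

variable {G : Type u} [Group G] [Finite G] [Fintype (IrrCharacter G)]

theorem not_isConj_cop {T S : Subgroup G} {n₁ n₂ : ℕ} (hT : Nat.card T = n₁) (hS : Nat.card S = n₂)
    (hn : n₁.Coprime n₂) {a b : G} (ha : a ∈ T) (hb : b ∈ S) (hb1 : b ≠ 1) (x : G) : b ≠ x * a * x⁻¹ := by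
  rintro rfl
  have h3 : orderOf (x * a * x⁻¹) = orderOf a := by
    have := orderOf_injective (MulAut.conj x).toMonoidHom (MulAut.conj x).injective a
    simpa using this
  have h1 : orderOf a ∣ n₁ := hT ▸ Subgroup.orderOf_dvd_natCard T ha
  have h2 : orderOf (x * a * x⁻¹) ∣ n₂ := hS ▸ Subgroup.orderOf_dvd_natCard S hb
  rw [h3] at h2
  have h4 := Nat.eq_one_of_dvd_coprimes hn h1 h2
  rw [← h3] at h4
  exact hb1 (orderOf_eq_one_iff.1 h4)

/-- a character nonconstant on `T - 1` vanishes on `S - 1` or is nonconstant there -/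
theorem zero_of_nonconst {T S : Subgroup G} {n₁ n₂ w v : ℕ}
    (hab : ∀ a ∈ T, ∀ b ∈ T, a * b = b * a) (hc : ∀ a ∈ T, a ≠ 1 → Subgroup.centralizer ({a} : Set G) ≤ T)
    (hw : T.relIndex (normalizer (T : Set G)) = w) (hT : Nat.card T = n₁) (hk : w * (w + 2) + 1 < n₁)
    (hab' : ∀ a ∈ S, ∀ b ∈ S, a * b = b * a) (hc' : ∀ a ∈ S, a ≠ 1 → Subgroup.centralizer ({a} : Set G) ≤ S)
    (hw' : S.relIndex (normalizer (S : Set G)) = v) (hS : Nat.card S = n₂) (hk' : v * (v + 2) + 1 < n₂)
    (hn : n₁.Coprime n₂) (hwv : w * v + 1 < n₁) {χ : IrrCharacter G}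
    (hχ : ¬ ∃ z : ℂ, ∀ a ∈ T, a ≠ 1 → (χ : G → ℂ) a = z) : ∀ b ∈ S, b ≠ 1 → (χ : G → ℂ) b = 0 := by
  classical
  rw [← hT] at hk
  rw [← hS] at hk'
  obtain ⟨c, h1, h2, h3, n, M, hinj, hn3, hn1, hM, hMM⟩ := H221.TC.sum_sq hab hc hw hk
  obtain ⟨d, g1, g2, g3, m, N, ginj, gn3, gn1, gN, gNN⟩ := H221.TC.sum_sq hab' hc' hw' hk'
  rw [hT] at hk hn1
  rw [hS] at hk' gn1
  have hoff : ∀ b ∈ S, b ≠ 1 → ∀ x : G, ∀ a ∈ T, a ≠ 1 → b ≠ x * a * x⁻¹ := fun b hb hb1 x a ha _ =>
    not_isConj_cop hT hS hn ha hb hb1 x
  obtain ⟨i, rfl⟩ := (hM χ).1 hχ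
  -- `M i` is constant on `S - 1`
  have hcon : ∃ z : ℂ, ∀ b ∈ S, b ≠ 1 → (M i : G → ℂ) b = z := by
    by_contra hcon
    obtain ⟨j, hj⟩ := (gN (M i)).1 hcon
    obtain ⟨k, hk1⟩ : ∃ k : Fin n, k ≠ i := by
      have : Nontrivial (Fin n) := Fin.nontrivial_iff_two_le.2 (by omega)
      exact exists_ne i
    have h4 : ¬ ∃ z : ℂ, ∀ b ∈ S, b ≠ 1 → (M k : G → ℂ) b = z := by
      rintro ⟨z, hz⟩
      exact hcon ⟨z, fun b hb hb1 => by rw [hMM i k b (hoff b hb hb1)]; exact hz b hb hb1⟩
    obtain ⟨l, hl⟩ := (gN (M k)).1 h4
    apply hk1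
    apply hinj
    apply Subtype.ext
    funext g
    by_cases hg : ∀ x : G, ∀ a ∈ T, a ≠ 1 → g ≠ x * a * x⁻¹
    · exact hMM k i g hg
    · push Not at hg
      obtain ⟨x, a, ha, ha1, hga⟩ := hg
      have h5 : ∀ y : G, ∀ b ∈ S, b ≠ 1 → g ≠ y * b * y⁻¹ := by
        intro y b hb hb1 hgb
        apply not_isConj_cop hT hS hn ha hb hb1 (y⁻¹ * x)
        rw [hga] at hgb
        have h6 : b = y⁻¹ * (x * a * x⁻¹) * y := by rw [hgb]; group
        rw [h6]; group
      have h6 := gNN l j g h5
      rw [← hl, ← hj] at h6
      exact h6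
  obtain ⟨z, hz⟩ := hcon
  by_cases hd : d (M i) = 0
  · intro b hb hb1
    have := g1 (M i) ⟨z, hz⟩ b hb hb1
    rw [this, hd]
    simp
  · exfalso
    have h4 : (Finset.univ.image M).card ≤ v := by
      refine H221.TC.card_le hab' hc' hw' (by rw [hS]; exact hk') _ fun ψ hψ => ?_
      obtain ⟨k, -, rfl⟩ := Finset.mem_image.1 hψ
      refine ⟨d (M i), hd, fun b hb hb1 => ?_⟩
      rw [hMM k i b (hoff b hb hb1)]
      exact g1 (M i) ⟨z, hz⟩ b hb hb1
    rw [Finset.card_image_of_injective _ hinj, Finset.card_univ, Fintype.card_fin] at h4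
    have h5 : n * w ≤ v * w := Nat.mul_le_mul_right _ h4
    have h6 : v * w = w * v := mul_comm _ _
    omega

/-- **The values of a character at two isolated tori.** -/
theorem exists_cd {T S : Subgroup G} {n₁ n₂ w v : ℕ}
    (hab : ∀ a ∈ T, ∀ b ∈ T, a * b = b * a) (hc : ∀ a ∈ T, a ≠ 1 → Subgroup.centralizer ({a} : Set G) ≤ T)
    (hw : T.relIndex (normalizer (T : Set G)) = w) (hT : Nat.card T = n₁) (hk : w * (w + 2) + 1 < n₁)
    (hab' : ∀ a ∈ S, ∀ b ∈ S, a * b = b * a) (hc' : ∀ a ∈ S, a ≠ 1 → Subgroup.centralizer ({a} : Set G) ≤ S)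
    (hw' : S.relIndex (normalizer (S : Set G)) = v) (hS : Nat.card S = n₂) (hk' : v * (v + 2) + 1 < n₂)
    (hn : n₁.Coprime n₂) (hwv : w * v + 1 < n₁) (hwv' : w * v + 1 < n₂) :
    ∃ c d : IrrCharacter G → ℤ,
      (∀ χ : IrrCharacter G, c χ ≠ 0 → ∀ a ∈ T, a ≠ 1 → (χ : G → ℂ) a = c χ) ∧
      (∀ χ : IrrCharacter G, d χ ≠ 0 → ∀ a ∈ S, a ≠ 1 → (χ : G → ℂ) a = d χ) ∧
      ∑ χ : IrrCharacter G, c χ ^ 2 = w ∧ ∑ χ : IrrCharacter G, d χ ^ 2 = v ∧
      ∀ χ : IrrCharacter G, ∀ x ∈ T, x ≠ 1 → ∀ y ∈ S, y ≠ 1 → (χ : G → ℂ) x ≠ 0 → (χ : G → ℂ) y ≠ 0 →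
        (χ : G → ℂ) x = c χ ∧ (χ : G → ℂ) y = d χ := by
  have hwv2 : v * w + 1 < n₂ := by rw [mul_comm]; exact hwv'
  have hz := fun χ : IrrCharacter G => zero_of_nonconst (χ := χ) hab hc hw hT hk hab' hc' hw' hS hk' hn hwv
  have hz' := fun χ : IrrCharacter G => zero_of_nonconst (χ := χ) hab' hc' hw' hS hk' hab hc hw hT hk hn.symm hwv2
  rw [← hT] at hk
  rw [← hS] at hk'
  obtain ⟨c, h1, h2, h3, -⟩ := H221.TC.sum_sq hab hc hw hk
  obtain ⟨d, g1, g2, g3, -⟩ := H221.TC.sum_sq hab' hc' hw' hk'
  refine ⟨c, d, fun χ hχ => ?_, fun χ hχ => ?_, h3, g3, fun χ x hx hx1 y hy hy1 h4 h5 => ⟨?_, ?_⟩⟩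
  · by_cases hcon : ∃ z : ℂ, ∀ t ∈ T, t ≠ 1 → (χ : G → ℂ) t = z
    · exact h1 χ hcon
    · exact absurd (h2 χ hcon) hχ
  · by_cases hcon : ∃ z : ℂ, ∀ t ∈ S, t ≠ 1 → (χ : G → ℂ) t = z
    · exact g1 χ hcon
    · exact absurd (g2 χ hcon) hχ
  · by_cases hcon : ∃ z : ℂ, ∀ t ∈ T, t ≠ 1 → (χ : G → ℂ) t = z
    · exact h1 χ hcon x hx hx1
    · exact absurd (hz χ hcon y hy hy1) h5
  · by_cases hcon : ∃ z : ℂ, ∀ t ∈ S, t ≠ 1 → (χ : G → ℂ) t = z
    · exact g1 χ hcon y hy hy1
    · exact absurd (hz' χ hcon x hx hx1) h4

/-- `n ≤ w - 2` middle characters from the sum of the squares of the constant values -/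
theorem ncard_le_sub {p : ℕ} {c W : IrrCharacter G → ℤ} {st : IrrCharacter G} {w n : ℕ} (hwn : n + 2 = w)
    (hst : ¬ p ∣ Nat.card G / charDegree (st : G → ℂ)) (hst1 : st ≠ one1 G) (h1 : c (one1 G) ≠ 0) (h2 : c st ≠ 0)
    (h12 : ∑ χ : IrrCharacter G, c χ ^ 2 = w) : {χ : IrrCharacter G | IsMidC p c W χ}.ncard ≤ n := by
  classical
  have h3 : {χ : IrrCharacter G | IsMidC p c W χ}.ncard = (Finset.univ.filter (IsMidC p c W)).card := by
    rw [Set.ncard_eq_toFinset_card']
    congr 1
    ext χ
    simp
  rw [h3]
  set S := Finset.univ.filter (IsMidC p c W) with hS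
  have h4 : st ∉ S := fun h => hst (Finset.mem_filter.1 h).2.2.1
  have h5 : one1 G ∉ insert st S := by
    rw [Finset.mem_insert]
    rintro (h | h)
    · exact hst1 h.symm
    · exact (Finset.mem_filter.1 h).2.1 rfl
  have h6 : ((insert (one1 G) (insert st S)).card : ℤ) ≤ w := by
    rw [← h12, Finset.card_eq_sum_ones]
    push_cast
    calc ∑ χ ∈ insert (one1 G) (insert st S), (1 : ℤ) ≤ ∑ χ ∈ insert (one1 G) (insert st S), c χ ^ 2 := by
          refine Finset.sum_le_sum fun χ hχ => ?_
          have h7 : c χ ≠ 0 := by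
            rw [Finset.mem_insert, Finset.mem_insert] at hχ
            rcases hχ with rfl | rfl | hχ
            · exact h1
            · exact h2
            · exact (Finset.mem_filter.1 hχ).2.2.2.1
          have : 0 < c χ ^ 2 := by positivity
          omega
      _ ≤ ∑ χ : IrrCharacter G, c χ ^ 2 :=
          Finset.sum_le_sum_of_subset_of_nonneg (Finset.subset_univ _) fun _ _ _ => sq_nonneg _
  rw [Finset.card_insert_of_notMem h5, Finset.card_insert_of_notMem h4] at h6
  push_cast at h6
  omega

theorem ncard_swap {p : ℕ} {c W : IrrCharacter G → ℤ} :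
    {χ : IrrCharacter G | IsMidC p c W χ}.ncard = {χ : IrrCharacter G | IsMidC p W c χ}.ncard := by
  congr 1
  ext χ
  simp only [Set.mem_ofPred_eq, IsMidC]
  tauto

/-- **The assembly for two isolated tori.** -/
theorem asm_two {p : ℕ} (hp : p.Prime) (hG : IsLieTypeChar p G) {T S : Subgroup G} {n₁ n₂ w v n D : ℕ}
    (hab : ∀ a ∈ T, ∀ b ∈ T, a * b = b * a) (hc : ∀ a ∈ T, a ≠ 1 → Subgroup.centralizer ({a} : Set G) ≤ T)
    (hw : T.relIndex (normalizer (T : Set G)) = w) (hT : Nat.card T = n₁) (hk : w * (w + 2) + 1 < n₁)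
    (hpT : ¬ p ∣ n₁)
    (hone : ∀ (χ : IrrCharacter G) (c : ℤ), (∀ a ∈ T, a ≠ 1 → (χ : G → ℂ) a = c) → -1 ≤ c ∧ c ≤ 1)
    (hab' : ∀ a ∈ S, ∀ b ∈ S, a * b = b * a) (hc' : ∀ a ∈ S, a ≠ 1 → Subgroup.centralizer ({a} : Set G) ≤ S)
    (hw' : S.relIndex (normalizer (S : Set G)) = v) (hS : Nat.card S = n₂) (hk' : v * (v + 2) + 1 < n₂)
    (hpS : ¬ p ∣ n₂)
    (hone' : ∀ (χ : IrrCharacter G) (c : ℤ), (∀ a ∈ S, a ≠ 1 → (χ : G → ℂ) a = c) → -1 ≤ c ∧ c ≤ 1)
    (hn : n₁.Coprime n₂) (hwv : w * v + 1 < n₁) (hwv' : w * v + 1 < n₂)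
    (hdeg : ∀ d : ℕ, d ∣ Nat.card G → ∀ a b : ℤ, (a = 1 ∨ a = -1) → (b = 1 ∨ b = -1) → (n₁ : ℤ) ∣ (d : ℤ) - a →
      (n₂ : ℤ) ∣ (d : ℤ) - b → d < D → d = 1 ∨ ∃ k < (Nat.card G).factorization p, d = p ^ k)
    (hcount : n + 2 = w ∨ n + 2 = v ∨ (n = 2 ∧ ∀ d : ℕ, d ∣ Nat.card G → d * d < Nat.card G →
      ∀ a b : ℤ, (a = 1 ∨ a = -1) → (b = 1 ∨ b = -1) → (n₁ : ℤ) ∣ (d : ℤ) - a → (n₂ : ℤ) ∣ (d : ℤ) - b →
      d = 1 ∨ a * b = -1 ∨ p ^ (Nat.card G).factorization p ∣ d))
    (hcb : ∀ g : G, p ∣ orderOf g → p ∣ (centralizer ({g} : Set G)).index →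
      n * Nat.card (centralizer ({g} : Set G)) < D ^ 2 + n)
    {x y : G} (hx : x ∈ T) (hx1 : x ≠ 1) (hy : y ∈ S) (hy1 : y ≠ 1) (g : G) (hg : g ≠ 1) : Prd x y g := by
  classical
  have : Fact p.Prime := ⟨hp⟩
  have hsimple : IsSimpleGroup G := H400.LieSimple.isSimple_of_lie hG
  obtain ⟨c, d, hcc, hdd, hc12, hd8, hcd⟩ := exists_cd hab hc hw hT hk hab' hc' hw' hS hk' hn hwv hwv'
  have hTc : ∀ a ∈ T, a ≠ 1 → ¬ p ∣ Nat.card (centralizer ({a} : Set G)) := by
    intro a ha ha1 h
    exact hpT (hT ▸ h.trans (Subgroup.card_dvd_of_le (hc a ha ha1)))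
  have hSc : ∀ a ∈ S, a ≠ 1 → ¬ p ∣ Nat.card (centralizer ({a} : Set G)) := by
    intro a ha ha1 h
    exact hpS (hS ▸ h.trans (Subgroup.card_dvd_of_le (hc' a ha ha1)))
  have hxc := hTc x hx hx1
  have hyc := hSc y hy hy1
  have hxy : ¬ IsConj x y⁻¹ := by
    intro hcon
    obtain ⟨b, hb⟩ := isConj_iff.1 hcon
    exact not_isConj_cop hT hS hn hx (S.inv_mem hy) (inv_ne_one.2 hy1) b hb.symm
  -- the trivial character
  have hc1 : c (one1 G) = 1 := by
    have h1 := (hcd (one1 G) x hx hx1 y hy hy1 (by rw [one1_apply]; exact one_ne_zero)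
      (by rw [one1_apply]; exact one_ne_zero)).1
    rw [one1_apply] at h1
    exact_mod_cast h1.symm
  have hd1 : d (one1 G) = 1 := by
    have h1 := (hcd (one1 G) x hx hx1 y hy hy1 (by rw [one1_apply]; exact one_ne_zero)
      (by rw [one1_apply]; exact one_ne_zero)).2
    rw [one1_apply] at h1
    exact_mod_cast h1.symm
  -- the Steinberg character
  obtain ⟨st, hstd, hstv, -, huniq, -⟩ := H727.TC.exists_st hp hG
  have hstp : ¬ p ∣ Nat.card G / charDegree (st : G → ℂ) := by
    rw [H143.ChevBlocks.not_dvd_iff st.2, hstd, hp.factorization_pow]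
    simp
  have hpG : p ∣ Nat.card G :=
    H330.Gow.dvd_card (H330.Gow.hasSplit_of_ab (H716.SplitAb.hasSplitAb_of_lie hp hG))
  have hst1 : st ≠ one1 G := by
    rintro h
    rw [h] at hstp
    apply hstp
    have h1 : charDegree ((one1 G : IrrCharacter G) : G → ℂ) = 1 := by
      unfold charDegree
      rw [one1_apply]
      simp
    rw [h1, Nat.div_one]
    exact hpG
  have hst0 : ∀ a : G, ¬ p ∣ Nat.card (centralizer ({a} : Set G)) → (st : G → ℂ) a ≠ 0 := by
    intro a ha h0
    have h2 := hstv a (H727.TC.reg_of_cent ha)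
    rw [Nat.factorization_eq_zero_of_not_dvd ha, pow_zero, h0] at h2
    rcases h2 with h2 | h2 <;> norm_num at h2
  have hstcd := hcd st x hx hx1 y hy hy1 (hst0 x hxc) (hst0 y hyc)
  have hstc : c st ≠ 0 := by
    intro h0
    apply hst0 x hxc
    rw [hstcd.1, h0]; simp
  have hstW : d st ≠ 0 := by
    intro h0
    apply hst0 y hyc
    rw [hstcd.2, h0]; simp
  have hc3 : ∀ χ : IrrCharacter G, c χ ≠ 0 → c χ = 1 ∨ c χ = -1 := by
    intro χ hχ
    obtain ⟨h1, h2⟩ := hone χ (c χ) (hcc χ hχ)
    omega
  have hd3 : ∀ χ : IrrCharacter G, d χ ≠ 0 → d χ = 1 ∨ d χ = -1 := by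
    intro χ hχ
    obtain ⟨h1, h2⟩ := hone' χ (d χ) (hdd χ hχ)
    omega
  have hcong : ∀ χ : IrrCharacter G, c χ ≠ 0 → d χ ≠ 0 →
      (n₁ : ℤ) ∣ (charDegree (χ : G → ℂ) : ℤ) - c χ ∧ (n₂ : ℤ) ∣ (charDegree (χ : G → ℂ) : ℤ) - d χ := by
    intro χ h1 h2
    constructor
    · have h4 := H221.TC.deg_mod (A := T) (isIrr_isCharacter χ.2) (c := c χ) (d := (charDegree (χ : G → ℂ) : ℤ))
        (hcc χ h1) (by rw [← H686.CharKit.charDegree_irr χ]; simp)
      rwa [hT] at h4
    · have h4 := H221.TC.deg_mod (A := S) (isIrr_isCharacter χ.2) (c := d χ) (d := (charDegree (χ : G → ℂ) : ℤ))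
        (hdd χ h2) (by rw [← H686.CharKit.charDegree_irr χ]; simp)
      rwa [hS] at h4
  have hone1 : ∀ χ : IrrCharacter G, χ ≠ one1 G → charDegree (χ : G → ℂ) ≠ 1 := by
    intro χ hχ h
    have hcomm : ¬ (Nat.card G).Prime := by
      intro hpr
      have h1 : p = Nat.card G := (Nat.prime_dvd_prime_iff_eq hp hpr).1 hpG
      have h2 : n₁ ∣ Nat.card G := hT ▸ Subgroup.card_subgroup_dvd_card T
      rcases (Nat.dvd_prime hpr).1 h2 with h3 | h3
      · omega
      · exact hpT (by rw [h3, ← h1])
    exact hχ (Subtype.ext (one_of_deg hcomm χ h))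
  -- the middle characters
  have hmid : ∀ χ : IrrCharacter G, H727.TC.IsMidB p x y χ → IsMidC p c d χ ∧ (χ : G → ℂ) x = c χ ∧
      (χ : G → ℂ) y = d χ := by
    rintro χ ⟨h1, h2, h3, h4⟩
    obtain ⟨h5, h6⟩ := hcd χ x hx hx1 y hy hy1 h3 h4
    refine ⟨⟨h1, h2, ?_, ?_⟩, h5, h6⟩
    · intro h0; exact h3 (by rw [h5, h0]; simp)
    · intro h0; exact h4 (by rw [h6, h0]; simp)
  have hncard : {χ : IrrCharacter G | H727.TC.IsMidB p x y χ}.ncard ≤ n := by
    refine le_trans (Set.ncard_le_ncard (t := {χ : IrrCharacter G | IsMidC p c d χ}) (fun χ hχ => (hmid χ hχ).1)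
      (Set.toFinite _)) ?_
    rcases hcount with h | h | ⟨rfl, hneg⟩
    · exact ncard_le_sub h hstp hst1 (by rw [hc1]; norm_num) hstc hc12
    · rw [ncard_swap]
      exact ncard_le_sub h hstp hst1 (by rw [hd1]; norm_num) hstW hd8
    · have hsum : ∑ χ : IrrCharacter G, c χ * d χ = 0 := by
        have : Fintype G := Fintype.ofFinite G
        have h1 := S0145.sum_irr_mul_conj x y⁻¹
        rw [if_neg hxy] at h1
        have h2 : ∀ χ : IrrCharacter G, (χ : G → ℂ) x * conj ((χ : G → ℂ) y⁻¹) = ((c χ * d χ : ℤ) : ℂ) := by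
          intro χ
          rw [Blocks.CyclicUpper.conj_irr χ, inv_inv]
          by_cases h3 : (χ : G → ℂ) x = 0
          · have h4 : c χ = 0 := by
              by_contra h5
              have := hcc χ h5 x hx hx1
              rw [h3] at this
              exact h5 (by exact_mod_cast this.symm)
            rw [h3, h4]; simp
          by_cases h4 : (χ : G → ℂ) y = 0
          · have h4' : d χ = 0 := by
              by_contra h5
              have := hdd χ h5 y hy hy1
              rw [h4] at this
              exact h5 (by exact_mod_cast this.symm)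
            rw [h4, h4']; simp
          obtain ⟨h5, h6⟩ := hcd χ x hx hx1 y hy hy1 h3 h4
          rw [h5, h6]
          push_cast
          ring
        rw [Finset.sum_congr rfl fun χ _ => h2 χ, ← Int.cast_sum] at h1
        exact_mod_cast h1
      refine ncard_le_two (t := 1) one_pos huniq hstp hst1 (by rw [hc1, hd1]; simp) ?_ hsum ?_
      · rcases hc3 st hstc with h1 | h1 <;> rcases hd3 st hstW with h2 | h2 <;> rw [h1, h2] <;> norm_num
      · rintro χ ⟨h1, h2, h3, h4⟩
        obtain ⟨h6, h7⟩ := hcong χ h3 h4
        have hlt : charDegree (χ : G → ℂ) * charDegree (χ : G → ℂ) < Nat.card G := by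
          have h8 := SmallSimple.DegreeData.sum_sq (G := G)
          have h9 : ∑ χ' ∈ ({χ, one1 G} : Finset (IrrCharacter G)), charDegree (χ' : G → ℂ) ^ 2 ≤
              ∑ χ' : IrrCharacter G, charDegree (χ' : G → ℂ) ^ 2 :=
            Finset.sum_le_sum_of_subset_of_nonneg (Finset.subset_univ _) fun χ' _ _ => by positivity
          rw [Finset.sum_pair h1, h8] at h9
          have h10 : charDegree ((one1 G : IrrCharacter G) : G → ℂ) = 1 := by
            unfold charDegree
            rw [one1_apply]
            simp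
          rw [h10, one_pow, pow_two] at h9
          omega
        rcases hneg _ (Blocks.CyclicUpper.charDegree_dvd χ.2) hlt (c χ) (d χ) (hc3 χ h3) (hd3 χ h4) h6 h7 with
          h8 | h8 | h8
        · exact absurd h8 (hone1 χ h1)
        · rw [h8]; simp
        · exfalso
          have h9 : ¬ p ∣ Nat.card G / charDegree (χ : G → ℂ) := by
            rw [H143.ChevBlocks.not_dvd_iff χ.2]
            exact (hp.pow_dvd_iff_le_factorization (Blocks.Knorr.charDegree_ne_zero χ.2)).1 h8
          exact h9 h2
  have hD : ∀ χ : IrrCharacter G, H727.TC.IsMidB p x y χ → D ≤ charDegree (χ : G → ℂ) := by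
    intro χ hχ
    obtain ⟨⟨h1, h2, h3, h4⟩, -, -⟩ := hmid χ hχ
    by_contra hlt
    push Not at hlt
    obtain ⟨h6, h7⟩ := hcong χ h3 h4
    rcases hdeg _ (Blocks.CyclicUpper.charDegree_dvd χ.2) (c χ) (d χ) (hc3 χ h3) (hd3 χ h4) h6 h7 hlt with
      h8 | ⟨k, hk, h8⟩
    · exact hone1 χ h1 h8
    · have := H727.TC.eq_of_pow hp hG h1 h8
      omega
  have hnorm : ∀ χ : IrrCharacter G, H727.TC.IsMidB p x y χ → ‖(χ : G → ℂ) x‖ * ‖(χ : G → ℂ) y‖ ≤ 1 := by
    intro χ hχ
    obtain ⟨⟨h1, h2, h3, h4⟩, h5, h6⟩ := hmid χ hχ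
    rw [h5, h6]
    rcases hc3 χ h3 with h7 | h7 <;> rcases hd3 χ h4 with h8 | h8 <;> rw [h7, h8] <;> simp
  obtain ⟨u, v', e⟩ := H727.TC.two_of_midB hp hG hxc hyc hxy hncard hnorm hD hcb g hg
  exact ⟨u, v', e⟩

end Cfsg.Agent.H357.T6.Asm

private theorem dce_401a5749928f : _root_.True := by
  try have : _root_.True := by simp only [_root_.Cfsg.Agent.H357.T6.Asm.IsMidC.eq_1]
  exact _root_.True.intro
end
end
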